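import Cfsg.Agent.M7.I
import Cfsg.Agent.M9.F2

/-! The slices `WIN` and `WTS` of `S5267`. -/

set_option autoImplicit false
set_option linter.unusedSectionVars false

namespace Cfsg.Agent.M7.W2

open Cfsg.Fus Subgroup Cfsg.Agent.H1 Cfsg.Agent.M9
open scoped commutatorElement

universe u

variable {p m : ℕ} [hp : Fact p.Prime] {G : Type u} [Group G] [Finite G] {K a b j : ℕ} {s x y : G}

theorem nx (hp2 : p ≠ 2) (h : MC p m G) (hK : K ≤ m + 2) : NX G K :=
  fun r hr => MC.blackburn hp2 m G h r (by omega)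

theorem exists_s (h : MC p m G) : ∃ s : G, s ∉ tsc G :=
  (SetLike.not_le_iff_exists.1 (h.kc_ne (r := 1) (by omega))).imp fun _ e => e.2

theorem pow_flt (h : MC p m G) (hx : x ∈ flt G j) : x ^ p ∈ flt G (j + 1) := by
  by_cases hj : j ≤ m + 2
  · exact h.relIndex hj ▸ (flt G (j + 1)).pow_relIndex_mem hx
  · rw [flt_bot h (by omega), mem_bot] at hx
    rw [hx, one_pow]
    exact one_mem _

theorem pow_tsc (h : MC p m G) (s : G) : s ^ p ∈ tsc G :=
  h.index_tsc ▸ (tsc G).pow_relIndex_mem (mem_top s)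

theorem exists_level (h : MC p m G) (hx : x ∈ tsc G) (h1 : x ≠ 1) :
    ∃ j ≤ m + 2, x ∈ flt G j ∧ x ∉ flt G (j + 1) := by
  classical
  have ex : ∃ i, x ∉ flt G (i + 1) := ⟨m + 2, fun e => h1 (h.top.le e)⟩
  refine ⟨Nat.find ex, Nat.find_min' ex fun e => h1 (h.top.le e), ?_, Nat.find_spec ex⟩
  rcases e : Nat.find ex with _ | i
  · exact hx
  · exact not_not.1 (Nat.find_min ex (by omega : i < Nat.find ex))

theorem com (h : MC p m G) (hN : NX G K) (hK : a + b + 2 ≤ K) (hx : x ∈ flt G a)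
    (hy : y ∈ flt G b) : ⁅x, y⁆ ∈ flt G (a + b + 2) := by
  by_cases ha : m + 3 ≤ a
  · rw [flt_bot h ha, mem_bot] at hx
    simp [hx]
  by_cases hb : m + 3 ≤ b
  · rw [flt_bot h hb, mem_bot] at hy
    simp [hy]
  obtain ⟨s, hs⟩ := exists_s h
  obtain ⟨z, hz, hz'⟩ := h.exists_mem (r := 0) (by omega)
  have c : ∀ r ≤ m + 2, r ≤ a + b → flt G (r + 1) ⊔ zpowers (cs s z r) = flt G r := fun r hr e =>
    h.sup_eq hr (cs_flt s hz r) (h.cs_not_mem hr (fun i hi => h.not_mem_kc (by omega)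
      (hN i (by omega)) hs) hz hz' r le_rfl)
  refine comm_sup_zp (fun v hv => comm_lcs (a := a + 1) hv (flt_le_lcs b hy) (by omega)) ?_ x
    ((c a (by omega) (by omega)).ge hx)
  refine comm_mem_symm (comm_sup_zp (fun v hv => comm_lcs (a := b + 1) hv (cs_mem s z a) (by omega))
    (comm_mem_symm ?_) y ((c b (by omega) (by omega)).ge hy))
  exact lie_one (M := a + b + 1) (fun r hr => mem_cMod.1 (hN r (by omega) hz) _ (cs_flt s hz r)) b a
    (by omega)

theorem pair (hp2 : p ≠ 2) (h : MC p m G) (h2 : ¬ tsc G ≤ kc G (m + 1)) (e : a + b = m + 1)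
    (hx : x ∈ flt G a) (hx' : x ∉ flt G (a + 1)) (hy : y ∈ flt G b) (hy' : y ∉ flt G (b + 1)) :
    ⁅x, y⁆ ≠ 1 := fun h1 => by
  obtain ⟨s, hs⟩ := exists_s h
  obtain ⟨z, hz, hz'⟩ := h.exists_mem (r := 0) (by omega)
  refine h.pair le_rfl (fun r hr => MC.blackburn hp2 m G h r (by omega)) h2 hs hz hz' e ?_
  refine comm_mem_symm (comm_sup_zp (fun v hv => comm_lcs (a := b + 1) hv (cs_mem s z a) (by omega))
    (comm_mem_symm ?_) _ ((h.sup_eq (by omega) hy hy').ge (cs_flt s hz b)))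
  exact comm_sup_zp (fun v hv => comm_lcs (a := a + 1) hv (flt_le_lcs b hy) (by omega))
    (h1 ▸ one_mem _) _ ((h.sup_eq (by omega) hx hx').ge (cs_flt s hz a))

theorem nrm (hp2 : p ≠ 2) (h : MC p m G) {N : Subgroup G} (hN : N ≤ tsc G) (hs : s ∉ tsc G)
    (hn : s ∈ normalizer (N : Set G)) (hc : flt G (m + 2) ≤ N ∨ s ∉ kc G (m + 1)) :
    ∃ j ≤ m + 3, N = flt G j := by
  classical
  have k : ∀ d j, j + d = m + 2 → ∀ y ∈ N, y ∈ flt G j → y ∉ flt G (j + 1) → flt G j ≤ N := by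
    intro d
    induction d with
    | zero =>
      intro j e y h1 h2 h3
      exact (h.sup_eq (by omega) h2 h3).ge.trans
        (sup_le ((flt_bot h (by omega)).le.trans bot_le) (zpowers_le.2 h1))
    | succ d ih =>
      intro j e y h1 h2 h3
      refine (h.sup_eq (by omega) h2 h3).ge.trans (sup_le ?_ (zpowers_le.2 h1))
      by_cases hj : j = m + 1 ∧ flt G (m + 2) ≤ N
      · exact hj.1 ▸ hj.2
      refine ih (j + 1) (by omega) ⁅y, s⁆ ?_ (comm_mem_flt h2 s) fun e' => ?_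
      · rw [commutatorElement_def, mul_assoc, mul_assoc, ← mul_assoc s]
        exact mul_mem h1 ((mem_normalizer_iff.1 hn _).1 (inv_mem h1))
      · have h4 := h.mem_kc (by omega) h2 h3 e'
        by_cases hj' : j = m + 1
        · exact hc.elim (fun e => hj ⟨hj', e⟩) fun e => e (hj' ▸ h4)
        · exact h.not_mem_kc (by omega) (MC.blackburn hp2 m G h j (by omega)) hs h4
  by_cases h0 : N ≤ ⊥
  · exact ⟨m + 3, le_rfl, (le_bot_iff.1 h0).trans (flt_bot h le_rfl).symm⟩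
  have e0 : ¬ N ≤ flt G (m + 2 + 1) := fun e => h0 (e.trans h.top.le)
  have ex : ∃ i, ¬ N ≤ flt G (i + 1) := ⟨m + 2, e0⟩
  obtain ⟨y, h1, h2⟩ := SetLike.not_le_iff_exists.1 (Nat.find_spec ex)
  have h3 : N ≤ flt G (Nat.find ex) := by
    rcases e : Nat.find ex with _ | i
    · exact hN
    · exact not_not.1 (Nat.find_min ex (by omega : i < Nat.find ex))
  have h4 := Nat.find_min' ex e0
  exact ⟨_, by omega, le_antisymm h3 (k (m + 2 - Nat.find ex) _ (by omega) y h1 (h3 h1) h2)⟩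

theorem pow_zero_level (hp2 : p ≠ 2) (h : MC p m G) (hm : p ≤ m + 2) (hx : x ∈ tsc G)
    (hx' : x ∉ lcs G 1) : x ^ p ∉ flt G p := fun hc => by
  have p2 := hp.out.two_le
  have hk : ∀ r < p, tsc G ≤ kc G r := fun r hr => by
    by_cases e : r ≤ m
    · exact MC.blackburn hp2 m G h r e
    · obtain rfl : r = m + 1 := by omega
      by_contra h2
      obtain ⟨i, hi⟩ := (h.exc hp2 h2).1
      obtain ⟨l, hl⟩ := hp.out.odd_of_ne_two hp2
      omega
  have hpw : ∀ s ∉ tsc G, s ^ p ∈ flt G p := fun s hs =>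
    h.mem_flt hm (fun r hr => h.not_mem_kc (by omega) (hk r hr) hs) (pow_tsc h s)
      (by rw [commutatorElement_eq_one_iff_commute.2 (Commute.pow_self s p)]; exact one_mem _) p
      le_rfl
  obtain ⟨s, -, s1, s2⟩ := exists_not_mem_two (K := ⊤) (h.kc_ne (r := 1) (by omega))
    (h.kc_ne (r := m + 1) le_rfl)
  have hu := h.unif (nk_of h hp2 s1 s2)
  have h1 := norm_formula (N := fun j => flt G (min (j - 1) p))
    (fun a b hab => flt_anti (by omega)) (fun a b => commutator_le.2 fun u hu v hv => by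
      by_cases ha : a = 0
      · exact flt_anti (by omega) (comm_mem_symm (comm_mem_flt hv u))
      by_cases hb : b = 0
      · exact flt_anti (by omega) (comm_mem_flt hu v)
      exact flt_anti (by omega) (com (a := min (a - 1) (p - 2))
        (b := min (b - 1) (p - 2 - min (a - 1) (p - 2))) h (nx hp2 h hm) (by omega)
        (flt_anti (by omega) hu) (flt_anti (by omega) hv))) (fun _ => inferInstance)
    (s := s) (fun k y hy => dstep_eq s y ▸ flt_anti (by omega) (comm_mem_flt (inv_mem hy) s))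
    hp.out (fun y hy => by
      have : y ∈ lcs G (0 + 1) := flt_anti (a := 1) (by omega) hy
      have h3 := hu.pow_mem_lcs 0 y this
      obtain ⟨q, rfl⟩ : ∃ q, p = q + 1 := ⟨p - 1, by omega⟩
      rw [Nat.add_sub_cancel, min_self]
      rwa [zero_add] at h3) (x := x) (flt_anti (a := min (1 - 1) p) (b := 0) (by omega) hx)
  simp only [Nat.add_sub_cancel, min_self] at h1
  rw [mul_mem_cancel_left (inv_mem (mul_mem (hpw _ fun e => s1 ((mul_mem_cancel_left hx).1 e))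
    (inv_mem (hpw s s1)))), mul_mem_cancel_right hc] at h1
  have h3 : dstep s x ∉ lcs G 2 := dstep_eq s x ▸ fun e => nk_of h hp2 s1 s2 0 (by omega)
    (h.mem_kc (by omega) (inv_mem hx) (mt inv_mem_iff.1 hx') e)
  obtain ⟨q, rfl⟩ : ∃ q, p = q + 2 := ⟨p - 2, by omega⟩
  have h4 := (hu.iterate_dstep (k := 0) (dstep_mem_lcs (k := 0) (mem_top x) s) h3 q
    fun e => h.ne (le_bot_iff.1 (e ▸ lcs_anti (by omega)))).2
  rw [show 0 + 1 + q + 1 = q + 2 by omega] at h4
  exact h4 h1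

theorem win (hp2 : p ≠ 2) (h : MC p m G) (hK : K ≤ m + 3) (hx : x ∈ tsc G)
    (hc : x ^ p ∈ flt G K) : x ∈ flt G (K + 1 - p) ∨ (K = p ∧ m + 3 = p) := by
  by_cases h1 : x = 1
  · exact Or.inl (h1 ▸ one_mem _)
  obtain ⟨j, -, h2, h3⟩ := exists_level h hx h1
  by_cases hj : K + 1 - p ≤ j
  · exact Or.inl (flt_anti hj h2)
  have p2 := hp.out.two_le
  rcases j with _ | j
  · by_cases hm : p ≤ m + 2
    · exact absurd (flt_anti (by omega) hc) (pow_zero_level hp2 h hm hx h3)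
    · exact Or.inr (by omega)
  · obtain ⟨s, -, s1, s2⟩ := exists_not_mem_two (K := ⊤) (h.kc_ne (r := 1) (by omega))
      (h.kc_ne (r := m + 1) le_rfl)
    refine absurd (flt_anti (a := j + p + 1) (by omega) hc) ((h.unif (nk_of h hp2 s1 s2)).pow_not_mem_lcs
      h2 h3 fun e => h.ne (le_bot_iff.1 (e ▸ lcs_anti (by omega))))

instance instWIN : WIN.{u} where
  nrm := fun h5 h _ _ => nrm (by omega) h
  win := fun h5 h _ _ => win (by omega) h
  com := fun _ h _ _ _ _ _ => com h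
  pair := fun h5 h h2 _ _ _ _ => pair (by omega) h h2

theorem map_flt (α : G ≃* G) : ∀ r, ∀ x ∈ flt G r, α x ∈ flt G r
  | 0 => fun _ => map_mem_tsc α
  | r + 1 => char_mem (lcs G (r + 1)) α

theorem wzero (h : MC p m G) (hK : K ≤ m + 3) (hN : NX G K) (α : G ≃* G) :
    ∃ r t : ℤ, ¬ (p : ℤ) ∣ r ∧ ¬ (p : ℤ) ∣ t ∧ (∀ s, Wt α (tsc G) s r) ∧
      ∀ j < K, ∀ x ∈ flt G j, Wt α (flt G (j + 1)) x (r ^ j * t) := by
  obtain ⟨s, hs⟩ := exists_s h
  have e1 := sup_zpowers_eq le_top h.index_tsc trivial hs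
  obtain ⟨r, hr⟩ := exists_wt (α := α) (e1.ge (mem_top (α s)))
  obtain ⟨z, hz, hz'⟩ := h.exists_mem (r := 0) (by omega)
  have e2 := h.sup_eq (by omega) hz hz'
  obtain ⟨t, ht⟩ := exists_wt (α := α) (e2.ge (map_flt α 0 z hz))
  refine ⟨r, t, hr.not_dvd (map_flt α 0) hs (pow_tsc h s), ht.not_dvd (map_flt α 1) hz'
    (pow_flt h hz), fun g => hr.of_mem (map_flt α 0) (e1.ge (mem_top g)), fun j => ?_⟩
  induction j with
  | zero => exact fun _ x hx => by simpa using ht.of_mem (map_flt α 1) (e2.ge hx)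
  | succ j ih =>
    intro hj x hx
    obtain ⟨c, hc, hc'⟩ := h.exists_mem (r := j) (by omega)
    have h1 := (ih (by omega) c hc).comm (N := flt G (j + 2)) hr hc (mem_top s) le_top
      (fun a ha v _ => comm_mem_flt ha v) (fun u hu b hb => mem_cMod.1 (hN j (by omega) hb) u hu)
      fun u hu g => comm_mem_flt (comm_mem_flt hu s) g
    rw [show r ^ (j + 1) * t = r ^ j * t * r by ring]
    exact h1.of_mem (map_flt α _) ((h.sup_eq (by omega) (comm_mem_flt hc s) fun e =>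
      h.not_mem_kc (by omega) (hN j (by omega)) hs (h.mem_kc (by omega) hc hc' e)).ge hx)

theorem exists_last {P : ℕ → Prop} (h0 : ¬ P 0) {n : ℕ} (hn : P n) : ∃ a, ¬ P a ∧ P (a + 1) := by
  induction n with
  | zero => exact absurd hn h0
  | succ n ih => exact (em (P n)).elim ih fun e => ⟨n, e, hn⟩

theorem wout (hp2 : p ≠ 2) (h : MC p m G) (hK : K ≤ m + 3) (hN : NX G K)
    (hA : ¬ ⁅tsc G, tsc G⁆ ≤ flt G K) : ∃ e : ℕ, ∀ α : G ≃* G, ∃ r : ℤ,
      ¬ (p : ℤ) ∣ r ∧ (∀ s, Wt α (tsc G) s r) ∧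
      (∀ j < K, ∀ x ∈ flt G j, Wt α (flt G (j + 1)) x (r ^ (j + e))) ∧
      (K = m + 2 → ¬ tsc G ≤ kc G (m + 1) →
        ∀ x ∈ flt G (m + 2), Wt α ⊥ x (r ^ (m + 1 + 2 * e))) := by
  obtain ⟨M, M1, M2⟩ := exists_last (P := fun i => ¬ ⁅tsc G, tsc G⁆ ≤ flt G i)
    (not_not.2 (commutator_le_left _ _)) hA
  rw [not_not] at M1
  have MK : M < K := by
    by_contra e
    exact hA (M1.trans (flt_anti (by omega)))
  have b0 : ∀ A B : Subgroup G, ⁅flt G (m + 3), A⁆ ≤ B := fun A B => by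
    rw [flt_bot h le_rfl, commutator_bot_left]; exact bot_le
  obtain ⟨a, a1, a2⟩ := exists_last (P := fun i => ⁅flt G i, tsc G⁆ ≤ flt G (M + 1)) M2 (b0 _ _)
  obtain ⟨b, b1, b2⟩ := exists_last (P := fun i => ⁅flt G a, flt G i⁆ ≤ flt G (M + 1)) a1
    (by rw [commutator_comm]; exact b0 _ _)
  rw [commutator_le] at b1
  push Not at b1
  obtain ⟨x, hx, y, hy, hxy⟩ := b1
  have ha : a < K := by
    by_contra e
    exact hxy (flt_anti (by omega) (comm_mem_flt hx y))
  have hb : b < K := by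
    by_contra e
    exact hxy (flt_anti (by omega) (comm_mem_symm (comm_mem_flt hy x)))
  have t0 : ∀ {i} {v : G}, v ∈ flt G i → v ∈ tsc G := fun hv => flt_anti (Nat.zero_le _) hv
  refine ⟨M + (p - 2) * (a + b), fun α => ?_⟩
  obtain ⟨r, t, hr, ht, h1, h2⟩ := wzero h hK hN α
  have cM : ∀ u ∈ flt G a, ⁅u, y⁆ ∈ flt G M := fun u hu =>
    M1 (commutator_mem_commutator (t0 hu) (t0 hy))
  have h3 := (h2 a ha x hx).comm (N := flt G (M + 1)) (h2 b hb y hy) hx hy
    (flt_anti (Nat.le_succ _)) (fun u hu v hv => a2 (commutator_mem_commutator hu (t0 hv)))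
    (fun u hu v hv => b2 (commutator_mem_commutator hu hv)) fun u hu g => comm_mem_flt (cM u hu) g
  have h4 := h3.uniq (h2 M MK _ (cM x hx)) hxy (pow_flt h (cM x hx))
  have pp := Nat.prime_iff_prime_int.1 hp.out
  have h5 : t ≡ r ^ (M + (p - 2) * (a + b)) [ZMOD p] := by
    have f := (Int.ModEq.pow_card_sub_one_eq_one hp.out
      (((Prime.coprime_iff_not_dvd pp).2 hr).symm)).pow (a + b)
    obtain ⟨q, rfl⟩ : ∃ q, p = q + 2 := ⟨p - 2, by have := hp.out.two_le; omega⟩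
    refine modEq_cancel (u := r ^ (a + b) * t) (fun e => (pp.dvd_or_dvd e).elim
      (fun e => hr (pp.dvd_of_dvd_pow e)) ht) ?_
    have f2 := f.mul_left (r ^ M * t)
    simp only [Nat.add_sub_cancel, show q + 2 - 1 = q + 1 from rfl, one_pow, mul_one] at f2 ⊢
    calc _ = r ^ a * t * (r ^ b * t) := by ring
      _ ≡ r ^ M * t [ZMOD (q + 2 : ℕ)] := h4
      _ ≡ _ [ZMOD (q + 2 : ℕ)] := f2.symm
      _ = _ := by ring
  set e := M + (p - 2) * (a + b)
  have h6 : ∀ j < K, ∀ x ∈ flt G j, Wt α (flt G (j + 1)) x (r ^ (j + e)) := fun j hj x hx =>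
    (h2 j hj x hx).congr (pow_flt h hx) (by rw [pow_add]; exact h5.mul_left _)
  refine ⟨r, hr, h1, h6, fun eK hx v hv => ?_⟩
  obtain ⟨c, hc, hc'⟩ := h.exists_mem (r := 0) (by omega)
  obtain ⟨d, hd, hd'⟩ := h.exists_mem (r := m + 1) (by omega)
  have h7 := (h6 0 (by omega) c hc).comm (N := flt G (m + 3)) (h6 (m + 1) (by omega) d hd) hc hd
    (flt_anti (Nat.le_succ _)) (fun u hu v hv => comm_lcs (a := 1) (b := m + 1) hu hv (by omega))
    (fun u _ v hv => comm_mem_symm (comm_mem_flt hv u))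
    fun u _ g => comm_mem_flt (comm_mem_symm (comm_mem_flt hd u)) g
  rw [← flt_bot h le_rfl, show r ^ (m + 1 + 2 * e) = r ^ (0 + e) * r ^ (m + 1 + e) by ring]
  exact h7.of_mem (map_flt α _) ((h.sup_eq le_rfl (comm_mem_symm (comm_mem_flt hd c)) fun e =>
    pair hp2 h hx (zero_add _) hc hc' hd hd' (h.top.le e)).ge hv)

instance instWTS : WTS.{u} where
  zero := fun _ h _ => wzero h
  out := fun h5 h _ => wout (by omega) h

end Cfsg.Agent.M7.W2
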