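import Cfsg.Agent.M7.L
import Cfsg.Agent.M7.W
import Cfsg.Agent.M9.F2

/-! The automorphisms of `γ_1`. -/

set_option autoImplicit false
set_option linter.unusedSectionVars false

namespace Cfsg.Agent.M7

open Equiv Cfsg.Fus Cfsg.FusionSystem Subgroup Cfsg.Agent.H1 Cfsg.Agent.M9 Module
open scoped commutatorElement

universe u

variable {p m : ℕ} [hp : Fact p.Prime] {G : Type u} [Group G] [Finite G]
  {F : FusionSystem (⊤ : Subgroup G)} {E P T T' : Subgroup G} {g s x y : G} {K a b j t : ℕ}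

/-- invariant chains on whose factors `g` acts trivially -/
inductive Ch (F : FusionSystem (⊤ : Subgroup G)) (P : Subgroup G) (g : G) : Subgroup G → Prop
  | bot : Ch F P g ⊥
  | step {T T' : Subgroup G} : Ch F P g T → T' ≤ P → F.AInv P T' → (∀ x ∈ T', ⁅x, g⁆ ∈ T) →
      Ch F P g T'

theorem Ch.seq (h : Ch F P g T) : ∃ (C : ℕ → Subgroup G) (n : ℕ), C 0 = ⊥ ∧ C n = T ∧
    (∀ i, C i ≤ P ∧ F.AInv P (C i)) ∧ ∀ i < n, ∀ x ∈ C (i + 1), ⁅x, g⁆ ∈ C i := by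
  induction h with
  | bot => exact ⟨fun _ => ⊥, 0, rfl, rfl, fun _ => ⟨bot_le, fun τ hτ x hx => by
      rw [mem_bot.1 hx, hτ.homOn.map_one]; exact one_mem _⟩, fun _ h => absurd h (by omega)⟩
  | @step T T' _ h1 h2 h3 ih =>
    obtain ⟨C, n, e0, e1, e2, e3⟩ := ih
    refine ⟨fun i => if i ≤ n then C i else T', n + 1, by simpa using e0, by simp, fun i => ?_,
      fun i hi => ?_⟩
    · dsimp only; split_ifs; exacts [e2 i, ⟨h1, h2⟩]
    · dsimp only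
      rw [if_pos (by omega : i ≤ n)]
      split_ifs with h
      · exact e3 i h
      · rwa [show i = n by omega, e1]

theorem Ch.mem (h : Ch F P g P) (hG : IsPGroup p (⊤ : Subgroup G)) (hP : F.IsEssential p P)
    (hg : g ∈ normalizer (P : Set G)) : g ∈ P := by
  obtain ⟨C, n, e0, e1, e2, e3⟩ := h.seq
  exact hP.isCentric.mem_of_cj_mem_innS trivial ((hP.isRadical hG).opStab_eq ▸
    (F.iso_cj le_top trivial hg).mem_opStab_of_chain hG (fun i _ => (e2 i).1) e0 e1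
      (fun τ hτ i _ => (e2 i).2 τ hτ) fun i hi x hx => by
        rw [cj_apply, inv_conj_eq]; exact e3 i hi _ (inv_mem hx))

theorem MC.pt (h : MC p m G) : IsPGroup p (⊤ : Subgroup G) := h.pg.to_subgroup ⊤

theorem flt_le_iff (h : MC p m G) (hb : b ≤ m + 3) : flt G a ≤ flt G b ↔ b ≤ a :=
  ⟨fun e => not_lt.1 fun e' => let ⟨_, h1, h2⟩ := h.exists_mem (r := a) (by omega)
    h2 (flt_anti (Nat.succ_le_of_lt e') (e h1)), fun e => flt_anti e⟩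

theorem exists_unif (h : MC p m G) (hp2 : p ≠ 2) : ∃ s, s ∉ tsc G ∧ ∀ r < m + 2, s ∉ kc G r :=
  let ⟨s, _, h1, h2⟩ := exists_not_mem_two (K := ⊤) (A := tsc G) (B := kc G (m + 1))
    (fun e => h.kc_ne (r := 1) (by omega) e) (h.kc_ne le_rfl)
  ⟨s, h1, nk_of h hp2 h1 h2⟩

theorem eq_flt' (h : MC p m G) (hp2 : p ≠ 2) (h1 : P ≤ tsc G) (h2 : F.AInv (tsc G) P) :
    ∃ j ≤ m + 3, P = flt G j :=
  let ⟨s, h3, h4⟩ := exists_unif h hp2
  W2.nrm hp2 h h1 h3 (mem_normalizer_of_finite fun x hx =>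
    h2 (cj s) (F.iso_cj le_top trivial (nle _ s)) x hx) (.inr (h4 _ (by omega)))

theorem pow_mem_flt (h : MC p m G) (hp2 : p ≠ 2) (hx : x ∈ flt G (a + 1)) : x ^ p ∈ flt G (a + p) := by
  obtain ⟨s, -, hs⟩ := exists_unif h hp2
  obtain ⟨k, hk⟩ : ∃ k, a + p = k + 1 := ⟨a + p - 1, by have := hp.out.pos; omega⟩
  have := (h.unif hs).pow_mem_lcs a x hx
  rwa [hk] at this ⊢

theorem bi_top (h : MC p m G) (hp2 : p ≠ 2) (hx : ¬ tsc G ≤ kc G (m + 1)) :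
    F.AInv (tsc G) (flt G (m + 2)) := fun τ hτ x hx' =>
  have := mem_zc'.1 (aInv_zc F _ τ hτ x (mem_zc'.2 ⟨flt_anti (Nat.zero_le _) hx', fun y _ =>
    comm_one_iff.2 (mem_center_iff.1 (h.center_eq.ge hx') y)⟩))
  (h.exc hp2 hx).2 _ this.1 fun v hv => comm_one_symm (this.2 v hv)

/-- `flt a / flt b` is an invariant elementary abelian section centralised by `γ_1` -/
structure Sc (F : FusionSystem (⊤ : Subgroup G)) (p a b : ℕ) : Prop where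
  le : a ≤ b
  ia : F.AInv (tsc G) (flt G a)
  ib : F.AInv (tsc G) (flt G b)
  cm : ∀ x ∈ flt G a, ∀ y ∈ tsc G, ⁅y, x⁆ ∈ flt G b
  pw : ∀ x ∈ flt G a, x ^ p ∈ flt G b

theorem Sc.lin (S : Sc F p a b) : ∃ (V : Type u) (_ : AddCommGroup V) (_ : Finite V)
    (_ : Module (ZMod p) V) (π : G → V) (ρ : F.stab (tsc G) →* End (ZMod p) V),
    Lin (F.stab (tsc G)).subtype (flt G a) (flt G b) π ρ :=
  exists_lin _ (flt_anti S.le) (fun x hx y hy => S.cm y hy x (flt_anti (Nat.zero_le a) hx)) S.pw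
    (fun σ => ((mem_stab le_top).1 σ.2).homOn.mono (flt_anti (Nat.zero_le a)))
    (fun σ => S.ia _ ((mem_stab le_top).1 σ.2)) fun σ => S.ib _ ((mem_stab le_top).1 σ.2)

theorem Sc.split (S : Sc F p a b) (h1 : a ≤ t) (h2 : t ≤ b) (h : F.AInv (tsc G) (flt G t)) :
    Sc F p a t ∧ Sc F p t b :=
  ⟨⟨h1, S.ia, h, fun x hx y hy => flt_anti h2 (S.cm x hx y hy), fun x hx => flt_anti h2 (S.pw x hx)⟩,
    h2, h, S.ib, fun x hx => S.cm x (flt_anti h1 hx), fun x hx => S.pw x (flt_anti h1 hx)⟩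

theorem exists_sc (h : MC p m G) (hp2 : p ≠ 2) (hb : F.AInv (tsc G) (flt G b)) :
    ∃ a ≤ m + 3, opc p (tsc G) (flt G b) = flt G a ∧ (b ≤ m + 3 → Sc F p a b) := by
  have i1 := aInv_opc (p := p) (aInv_self F _) hb le_rfl
  obtain ⟨a, h1, h2⟩ := eq_flt' h hp2 (fun x hx => (mem_opc.1 hx).1) i1
  refine ⟨a, h1, h2, fun e => ⟨(flt_le_iff h h1).1 fun x hx => h2.le (mem_opc.2
    ⟨flt_anti (Nat.zero_le b) hx, fun y _ => comm_mem_right _ y hx, pow_mem hx p⟩), h2 ▸ i1, hb,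
    fun x hx => (mem_opc.1 (h2.ge hx)).2.1, fun x hx => (mem_opc.1 (h2.ge hx)).2.2⟩⟩

namespace Lin

variable {X V : Type*} [Group X] [AddCommGroup V] [Module (ZMod p) V] {μ : X →* Perm G}
  {D : Subgroup G} {π : G → V} {ρ : X →* End (ZMod p) V} {σ : X} {v : V}
  (L : Lin μ D (flt G b) π ρ)
include L

/-- the flag -/
abbrev fl (j : ℕ) : Submodule (ZMod p) V := L.sub (flt G (b - j))

theorem fl_mono : Monotone L.fl := fun _ _ h => L.sub_mono (flt_anti (by omega))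

theorem fl_zero : L.fl 0 = ⊥ := L.sub_bot le_rfl

theorem fl_step (h : MC p m G) (hb : b ≤ m + 3) (hj : j < b) (hD : flt G (b - (j + 1)) ≤ D) :
    ∃ v, L.fl (j + 1) = L.fl j ⊔ Submodule.span (ZMod p) {v} ∧ v ∉ L.fl j := by
  obtain ⟨x, h1, h2⟩ := h.exists_mem (r := b - (j + 1)) (by omega)
  have e : b - (j + 1) + 1 = b - j := by omega
  have := h.sup_eq (by omega) h1 h2
  rw [e] at h2 this
  exact ⟨π x, L.sub_sup (hD h1) this, mt (L.mem_sub (hD h1) (flt_anti (by omega))).1 h2⟩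

theorem fl_wt {r : ZMod p} (hr : r ≠ 0) {e : ℕ} (hj : j < b)
    (h : ∀ x ∈ D, x ∈ flt G (b - (j + 1)) → ∃ c : ℤ, (c : ZMod p) = r ^ (b - (j + 1) + e) ∧
      (x ^ c)⁻¹ * μ σ x ∈ flt G (b - (j + 1) + 1)) (hv : v ∈ L.fl (j + 1)) :
    ρ σ v - (r ^ (b - 1 + e) * r⁻¹ ^ j) • v ∈ L.fl j := by
  obtain ⟨x, h1, h2, rfl⟩ := hv
  obtain ⟨c, h3, h4⟩ := h x h1 h2
  rw [show b - 1 + e = b - (j + 1) + e + j by omega, pow_add, mul_assoc, ← mul_pow,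
    mul_inv_cancel₀ hr, one_pow, mul_one, ← h3]
  exact L.wt h1 (by rwa [show b - (j + 1) + 1 = b - j by omega] at h4)

theorem fl_sh (hσ : ∀ x ∈ D, μ σ x = g * x * g⁻¹) (hv : v ∈ L.fl (j + 1)) :
    (ρ σ - 1) v ∈ L.fl j := by
  obtain ⟨x, h1, h2, rfl⟩ := hv
  rw [(L.comm hσ h1).2]
  exact L.pi_mem (L.comm hσ h1).1 (flt_anti (by omega) (comm_mem_symm (comm_mem_flt h2 g)))

theorem fl_nil (hσ : ∀ x ∈ D, μ σ x = g * x * g⁻¹) (hD : D ≤ flt G (b - j)) : (ρ σ - 1) ^ j = 0 := by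
  have : ∀ k, ∀ v ∈ L.fl k, ((ρ σ - 1) ^ k) v = 0 := fun k => by
    induction k with
    | zero => intro v hv; rw [L.fl_zero] at hv; simpa using hv
    | succ k ih => exact fun v hv => by rw [pow_succ, End.mul_apply, ih _ (L.fl_sh hσ hv)]
  exact LinearMap.ext fun v => this j v (by rw [fl, L.sub_top hD]; trivial)

end Lin

/-- the weights of the automorphisms of `γ_1` which extend to `G` -/
structure BD (F : FusionSystem (⊤ : Subgroup G)) (p m K : ℕ) [Fact p.Prime] (s : G) (e : ℕ)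
    (r : F.stab (tsc G) → ZMod p) : Prop where
  mc : MC p m G
  p5 : 5 ≤ p
  ub : K ≤ m + 3
  lb : K = m + 3 ∨ K = m + 2 ∧ ¬ tsc G ≤ kc G (m + 1)
  na : ¬ ⁅tsc G, tsc G⁆ ≤ flt G K
  sn : s ∉ tsc G
  hs : ∀ r < m + 2, s ∉ kc G r
  pt : PTc p (ext F (tsc G) ⊤ le_top) (cg F (nle (tsc G) s))
  ne : ∀ β, r β ≠ 0
  wt : ∀ β ∈ ext F (tsc G) ⊤ le_top, ∀ j < K, ∀ x ∈ flt G j,
    ∃ c : ℤ, (c : ZMod p) = r β ^ (j + e) ∧ (x ^ c)⁻¹ * β.1 x ∈ flt G (j + 1)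
  top : K = m + 2 → ∀ β ∈ ext F (tsc G) ⊤ le_top, ∀ x ∈ flt G (m + 2),
    ∃ c : ℤ, (c : ZMod p) = r β ^ (m + 2 + (2 * e + (p - 2))) ∧ (x ^ c)⁻¹ * β.1 x ∈ flt G (m + 2 + 1)
  cj : ∀ β ∈ ext F (tsc G) ⊤ le_top, ∃ γ ∈ tsc G, ∀ x ∈ tsc G,
    β.1 (s * x * s⁻¹) = s ^ (r β).val * γ * β.1 x * (s ^ (r β).val * γ)⁻¹

theorem exists_bd [RED.{u}] (h : MC p m G) (hp5 : 5 ≤ p) (hF : F.IsSaturated p) (ub : K ≤ m + 3)
    (lb : K = m + 3 ∨ K = m + 2 ∧ ¬ tsc G ≤ kc G (m + 1)) (hN : NX G K)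
    (na : ¬ ⁅tsc G, tsc G⁆ ≤ flt G K) : ∃ s e r, BD F p m K s e r := by
  classical
  obtain ⟨s, sn, hs⟩ := exists_unif h (by omega)
  obtain ⟨e, he⟩ := W2.wout (by omega) h ub hN na
  choose R r1 r2 r3 r4 using he
  have : ∀ β : F.stab (tsc G), ∃ α, ∃ hα : F.Iso ⊤ ⊤ α,
      β ∈ ext F (tsc G) ⊤ le_top → ∀ x ∈ tsc G, toAut hα x = β.1 x := fun β => by
    by_cases hβ : β ∈ ext F (tsc G) ⊤ le_top
    · exact let ⟨α, h1, h2⟩ := (mem_ext le_rfl).1 hβ; ⟨α, h1, fun _ => h2⟩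
    · exact ⟨1, (mem_stab le_rfl).1 (one_mem _), fun e => absurd e hβ⟩
  choose α hα ha using this
  have ne : ∀ β, (R (toAut (hα β)) : ZMod p) ≠ 0 := fun β =>
    mt (ZMod.intCast_zmod_eq_zero_iff_dvd _ _).1 (r1 _)
  refine ⟨s, e, fun β => R (toAut (hα β)), h, hp5, ub, lb, na, sn, hs, RED.top hp5 h hF _ sn, ne,
    fun β hβ j hj x hx => ⟨R (toAut (hα β)) ^ (j + e), by simp, by
      rw [← ha β hβ x (flt_anti (Nat.zero_le j) hx)]; exact r3 _ j hj x hx⟩,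
    fun hK β hβ x hx => ⟨R (toAut (hα β)) ^ (m + 1 + 2 * e), ?_, by
      rw [← ha β hβ x (flt_anti (Nat.zero_le _) hx)]
      exact (r4 _ hK (lb.resolve_left (by omega)).2 x hx).mono bot_le⟩, fun β hβ => ⟨(s ^ (R (toAut (hα β)) :
        ZMod p).val)⁻¹ * toAut (hα β) s, ?_, fun x hx => ?_⟩⟩
  · rw [show m + 2 + (2 * e + (p - 2)) = m + 1 + 2 * e + (p - 1) by omega, pow_add _ _ (p - 1),
      ZMod.pow_card_sub_one_eq_one (ne β), mul_one]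
    simp
  · have := (r2 (toAut (hα β)) s).congr (W2.pow_tsc h s) (d := (R (toAut (hα β)) : ZMod p).val)
      ((ZMod.intCast_eq_intCast_iff _ _ _).1 (by simp))
    rwa [Wt, zpow_natCast] at this
  · rw [mul_inv_cancel_left, ← ha β hβ x hx, ← ha β hβ _ ((cMod_normal _ _).conj_mem x hx s)]
    simp

end Cfsg.Agent.M7
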