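import Cfsg.Agent.M7.B

/-! The linear characters of `Aut_F(γ_1)`. -/

set_option autoImplicit false
set_option linter.unusedSectionVars false

namespace Cfsg.Agent.M7

open Equiv Cfsg.Fus Cfsg.FusionSystem Subgroup Cfsg.Agent.H1 Cfsg.Agent.M9 Module
open scoped commutatorElement

universe u

variable {p m : ℕ} [hp : Fact p.Prime] {G : Type u} [Group G] [Finite G]
  {F : FusionSystem (⊤ : Subgroup G)} {s : G} {K a b j t e e₀ c : ℕ}
  {r : F.stab (tsc G) → ZMod p} {V : Type u} [AddCommGroup V] [Finite V] [Module (ZMod p) V]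
  {π : G → V} {ρ : F.stab (tsc G) →* End (ZMod p) V}

/-- `r ^ a` extends to a linear character -/
def Ex (r : F.stab (tsc G) → ZMod p) (a : ℕ) : Prop :=
  ∃ θ : F.stab (tsc G) →* ZMod p, ∀ β ∈ ext F (tsc G) ⊤ le_top, θ β = r β ^ a

theorem Ex.add (h : Ex r a) (h' : Ex r b) : Ex r (a + b) :=
  let ⟨θ, h1⟩ := h
  let ⟨θ', h2⟩ := h'
  ⟨θ * θ', fun β hβ => by rw [MonoidHom.mul_apply, h1 β hβ, h2 β hβ, pow_add]⟩

theorem Ex.mul (h : Ex r a) (k : ℕ) : Ex r (a * k) :=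
  let ⟨θ, h1⟩ := h
  ⟨θ ^ k, fun β hβ => by rw [MonoidHom.pow_apply, h1 β hβ, pow_mul]⟩

theorem det_eq (h : MC p m G) (L : Lin (F.stab (tsc G)).subtype (flt G a) (flt G b) π ρ) (hab : a ≤ b)
    (hb : b ≤ m + 3) {β : F.stab (tsc G)} (hr : r β ≠ 0) (hw : ∀ l, a ≤ l → l < b → ∀ x ∈ flt G l,
      ∃ c : ℤ, (c : ZMod p) = r β ^ (l + e) ∧ (x ^ c)⁻¹ * β.1 x ∈ flt G (l + 1)) :
    LinearMap.det (ρ β) = r β ^ ∑ j ∈ Finset.range (b - a), (b - (j + 1) + e) := by
  choose! v v1 v2 using fun j (hj : j < b - a) => L.fl_step (j := j) h hb (by omega)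
    (flt_anti (by omega))
  rw [(det_flag (A := ρ β) L.fl_zero (L.sub_top (flt_anti (by omega))) v1 v2 fun j hj =>
    L.fl_wt hr (by omega) (fun x _ => hw _ (by omega) (by omega) x)
      ((v1 j hj).ge (Submodule.mem_sup_right (Submodule.mem_span_singleton_self _)))).1,
    ← Finset.prod_pow_eq_pow_sum]
  refine Finset.prod_congr rfl fun j hj => ?_
  have := Finset.mem_range.1 hj
  rw [show b - 1 + e = b - (j + 1) + e + j by omega, pow_add, mul_assoc, ← mul_pow,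
    mul_inv_cancel₀ hr, one_pow, mul_one]

namespace BD

variable (B : BD F p m K s e₀ r)
include B

theorem p2 : p ≠ 2 := by have := B.p5; omega

theorem rp (β : F.stab (tsc G)) : r β ^ (p - 1) = 1 := ZMod.pow_card_sub_one_eq_one (B.ne β)

theorem hom_s (θ : F.stab (tsc G) →* ZMod p) : θ (cg F (nle (tsc G) s)) = 1 := by
  obtain ⟨k, hk⟩ := B.mc.pg s
  refine hom_g θ ⟨k, ?_⟩
  rw [← map_pow, show cg F (nle (tsc G) s) ^ p ^ k = 1 from
    Subtype.ext (by simp [← map_pow, hk]), map_one]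

theorem exists_e : ∃ e c, e * c = p - 1 ∧ Ex r e ∧ ∀ a, Ex r a → e ∣ a := by
  classical
  have p5 := B.p5
  have h0 : Ex r (p - 1) := ⟨1, fun β _ => (B.rp β).symm⟩
  have hx : ∃ e, 0 < e ∧ Ex r e := ⟨p - 1, by omega, h0⟩
  have h1 : ∀ a, Ex r a → Nat.find hx ∣ a := fun a ha => by
    obtain ⟨θ, h2⟩ := ha.add ((Nat.find_spec hx).2.mul (a / Nat.find hx * (p - 2)))
    refine Nat.dvd_of_mod_eq_zero (Nat.eq_zero_of_not_pos fun h3 => Nat.find_min hx
      (Nat.mod_lt a (Nat.find_spec hx).1) ⟨h3, θ, fun β hβ => ?_⟩)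
    rw [h2 β hβ, show a + Nat.find hx * (a / Nat.find hx * (p - 2)) =
      a % Nat.find hx + (p - 1) * (Nat.find hx * (a / Nat.find hx)) by
        conv_lhs => rw [← Nat.mod_add_div a (Nat.find hx), Nat.mod_add_div a]
        rw [show p - 1 = p - 2 + 1 by omega]
        conv_lhs => rw [← Nat.mod_add_div a (Nat.find hx)]
        rw [Nat.mod_add_div]
        nth_rewrite 1 [← Nat.mod_add_div a (Nat.find hx)]
        ring, pow_add, pow_mul, B.rp, one_pow, mul_one]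
  obtain ⟨c, hc⟩ := h1 _ h0
  exact ⟨_, c, hc.symm, (Nat.find_spec hx).2, h1⟩

theorem det_ex (L : Lin (F.stab (tsc G)).subtype (flt G a) (flt G b) π ρ) (hab : a ≤ b) (hb : b ≤ K)
    (β) (hβ : β ∈ ext F (tsc G) ⊤ le_top) : (LinearMap.det.comp ρ) β =
      r β ^ ∑ j ∈ Finset.range (b - a), (b - (j + 1) + e₀) :=
  det_eq B.mc L hab (hb.trans B.ub) (B.ne β) fun l _ hl => B.wt β hβ l (by omega)

theorem det_pow (hc : e * c = p - 1) (he : ∀ a, Ex r a → e ∣ a)
    (L : Lin (F.stab (tsc G)).subtype (flt G a) (flt G b) π ρ) (hab : a ≤ b)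
    (hb : b ≤ K ∨ a = m + 2 ∧ b = m + 3) (β) : LinearMap.det (ρ β) ^ c = 1 := by
  obtain ⟨n, hn⟩ : ∃ n, ∀ β ∈ ext F (tsc G) ⊤ le_top, (LinearMap.det.comp ρ) β = r β ^ n := by
    by_cases h : b ≤ K
    · exact ⟨_, B.det_ex L hab h⟩
    obtain ⟨rfl, rfl⟩ := hb.resolve_left h
    exact ⟨_, fun β hβ => det_eq B.mc L hab le_rfl (B.ne β) fun l h1 h2 => by
      obtain rfl : l = m + 2 := by omega
      exact B.top (by have := B.lb; omega) β hβ⟩
  obtain ⟨k, rfl⟩ := he n ⟨_, hn⟩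
  exact B.pt.hom _ (B.hom_s _) c (fun β hβ => by
    rw [hn β hβ, ← pow_mul, mul_right_comm, hc, pow_mul, B.rp, one_pow]) β

theorem window (hb : b ≤ m + 3) (S : Sc F p a b) : b + 1 ≤ a + p := by
  by_contra h
  obtain ⟨x, h1, h2⟩ := B.mc.exists_mem (r := a) (by have := hp.out.pos; omega)
  rcases W2.win B.p2 B.mc hb (flt_anti (Nat.zero_le a) h1) (S.pw x h1) with h3 | ⟨h3, h4⟩
  · exact h2 (flt_anti (by omega) h3)
  · obtain rfl : a = 0 := by omega
    exact B.na (commutator_le.2 fun y hy x hx => flt_anti (by have := B.ub; omega) (S.cm x hx y hy))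

theorem not_ex (hG : F.IsEssential p (tsc G)) : ¬ Ex r 1 := by
  rintro ⟨θ, hθ⟩
  have p5 := B.p5
  have key : ∀ j ≤ m + 2, F.AInv (tsc G) (flt G (j + 1)) → F.AInv (tsc G) (flt G j) := fun j hj h => by
    by_cases hK : K < j + 1
    · obtain rfl : j = m + 2 := by have := B.lb; omega
      exact bi_top B.mc B.p2 (B.lb.resolve_left (by omega)).2
    obtain ⟨a, h1, h2, S⟩ := exists_sc B.mc B.p2 h
    replace S := S (by omega)
    have h3 : a ≤ j := (flt_le_iff B.mc h1).1 fun x hx => h2.le (mem_opc.2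
      ⟨flt_anti (Nat.zero_le j) hx, fun y _ => comm_mem_symm (comm_mem_flt hx y), W2.pow_flt B.mc hx⟩)
    have h4 := B.window (by omega) S
    obtain ⟨V, _, _, _, π, ρ, L⟩ := S.lin
    intro τ hτ x hx
    refine L.inv_of (σ := ⟨τ, hτ.mem_stab⟩) (flt_anti h3) (flt_anti j.le_succ) (fun v hv => ?_) hx
    refine (Submodule.span_singleton_le_iff_mem _ _).2 hv (B.pt.vec (n := j - a)
      (L.fl_nil (g := s) (fun _ _ => rfl) (flt_anti (by omega))) (by omega)
      (χ := fun β => r β ^ (j + 1 - 1 + e₀) * (r β)⁻¹ ^ 0) (fun β hβ => ?_)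
      ((nz_hom θ (B.hom_s θ)).pow ((j + e₀) * (p - 2))) (fun β hβ => ?_) (by omega) _)
    · have := L.fl_wt (σ := β) (j := 0) (B.ne β) (by omega)
        (fun x _ => B.wt β hβ _ (by omega) x) hv
      rwa [L.fl_zero, Submodule.mem_bot, sub_eq_zero] at this
    · rw [hθ β hβ, pow_one, pow_zero, mul_one, Nat.add_sub_cancel, ← pow_add,
        show j + e₀ + (j + e₀) * (p - 2) = (p - 1) * (j + e₀) by
          rw [show p - 1 = p - 2 + 1 by omega]; ring, pow_mul, B.rp, one_pow]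
  have : ∀ d ≤ m + 3, F.AInv (tsc G) (flt G (m + 3 - d)) ∧ Ch F (tsc G) s (flt G (m + 3 - d)) :=
    fun d hd => by
    induction d with
    | zero =>
      rw [Nat.sub_zero, flt_bot B.mc le_rfl]
      exact ⟨(Ch.bot.seq (F := F) (g := s)).elim fun C ⟨n, _, h, h', _⟩ => h ▸ (h' n).2, .bot⟩
    | succ d ih =>
      have e : m + 3 - d = m + 3 - (d + 1) + 1 := by omega
      have h := key _ (by omega) (e ▸ (ih (by omega)).1)
      exact ⟨h, (ih (by omega)).2.step (flt_anti (Nat.zero_le _)) h fun x hx =>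
        e ▸ comm_mem_flt hx s⟩
  have h := (this _ le_rfl).2
  rw [Nat.sub_self] at h
  exact B.sn (h.mem (MC.pt B.mc) hG (nle _ s))

theorem small [SM.{u}] (hG : F.IsEssential p (tsc G)) (hc : e * c = p - 1) (he : Ex r e)
    (he' : ∀ a, Ex r a → e ∣ a) : ∀ d a b, a + d = b → Sc F p a b → b ≤ K → 2 ≤ d → 2 * d ≤ p - 1 →
      c ≤ 2 := by
  intro d
  induction d using Nat.strong_induction_on with
  | _ d ih =>
  intro a b hd S hb d2 dp
  have ub := B.ub
  obtain ⟨θ, hθ⟩ := he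
  obtain ⟨V, _, _, _, π, ρ, L⟩ := S.lin
  refine (SM.out (U := L.fl) (a := b - 1 + e₀) B.p5 B.pt B.ne hc (B.hom_s θ) hθ d2 dp L.fl_mono
    L.fl_zero (L.sub_top (flt_anti (by omega))) (fun j hj h => ?_)
    (fun j v => L.fl_sh (g := s) fun _ _ => rfl) (fun j hj v hv h => ?_)
    (fun β hβ j hj v => L.fl_wt (B.ne β) (by omega) fun x _ => B.wt β hβ _ (by omega) x)
    fun β hβ => ?_).elim id fun ⟨t, t0, t1, h⟩ => ?_
  · obtain ⟨v, h1, h2⟩ := L.fl_step (j := j) B.mc (by omega) (by omega) (flt_anti (by omega))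
    exact h2 (h.ge (h1.ge (Submodule.mem_sup_right (Submodule.mem_span_singleton_self _))))
  · obtain ⟨x, h1, h2, rfl⟩ := hv
    rw [(L.comm (g := s) (fun _ _ => rfl) h1).2,
      L.mem_sub (L.comm (σ := cg F (nle _ s)) (g := s) (fun _ _ => rfl) h1).1 (flt_anti (by omega))] at h
    refine L.pi_mem h1 (by_contra fun h3 => B.hs (b - (j + 2)) (by omega) (B.mc.mem_kc (by omega) h2
      (fun e => h3 (flt_anti (by omega) e)) (flt_anti (by omega) (comm_mem_symm h))))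
  · obtain ⟨γ, h1, h2⟩ := B.cj β hβ
    rw [← map_pow, ← map_mul, ← map_mul]
    refine L.ext fun x hx => ?_
    have h3 := L.mem β x hx
    change (β.1 (s * x * s⁻¹))⁻¹ * (Fus.cj s ^ (r β).val) (β.1 x) ∈ _
    rw [h2 x (flt_anti (Nat.zero_le a) hx), ← map_pow, cj_apply]
    have := (flt_normal b).conj_mem _ (S.cm _ (inv_mem h3) γ h1) (s ^ (r β).val)
    convert this using 1
    simp only [commutatorElement_def, coe_subtype]
    group
  · obtain ⟨S1, S2⟩ := S.split (t := b - t) (by omega) (by omega) fun τ hτ x hx =>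
      L.inv_of (σ := ⟨τ, hτ.mem_stab⟩) (flt_anti (by omega)) (flt_anti (by omega)) (h _) hx
    by_cases h1 : 2 ≤ t
    · exact ih t t1 _ _ (by omega) S2 hb h1 (by omega)
    by_cases h2 : 2 ≤ d - t
    · exact ih (d - t) (by omega) _ _ (by omega) S1 (by omega) h2 (by omega)
    obtain ⟨_, _, _, _, _, _, L1⟩ := S1.lin
    obtain ⟨_, _, _, _, _, _, L2⟩ := S2.lin
    have e1 := he' _ ⟨_, B.det_ex L1 S1.le (by omega)⟩
    have e2 := he' _ ⟨_, B.det_ex L2 S2.le hb⟩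
    rw [show b - t - a = 1 by omega, Finset.sum_range_one] at e1
    rw [show b - (b - t) = 1 by omega, Finset.sum_range_one,
      show b - (0 + 1) + e₀ = b - t - (0 + 1) + e₀ + 1 by omega] at e2
    obtain rfl := Nat.dvd_one.1 ((Nat.dvd_add_right e1).1 e2)
    exact absurd ⟨θ, hθ⟩ (B.not_ex hG)

end BD

end Cfsg.Agent.M7
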