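import Cfsg.Agent.M7.I

/-! The subgroups `⟨y⟩ γ_j` of `C(Z_2)` in an exceptional group of maximal class. -/

set_option autoImplicit false
set_option linter.unusedSectionVars false

namespace Cfsg.Agent.M7

open Equiv Cfsg.Fus Cfsg.FusionSystem Subgroup Cfsg.Agent.H1
open scoped commutatorElement

universe u

variable {p : ℕ} [hp : Fact p.Prime] {G : Type u} [Group G] [Finite G]
  {F : FusionSystem (⊤ : Subgroup G)} {E Q D : Subgroup G} {k j l r : ℕ} {a c s x y : G} {β : Perm G}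

theorem pw_comm {A B N X Y : Subgroup G} [N.Normal] {x' y' : G} {c d : ℤ} (hx : (x ^ c)⁻¹ * x' ∈ A)
    (hy : (y ^ d)⁻¹ * y' ∈ B) (hxX : x ∈ X) (hyY : y ∈ Y) (hB : B ≤ Y)
    (h1 : ∀ a ∈ A, ∀ v ∈ Y, ⁅a, v⁆ ∈ N) (h2 : ∀ u ∈ X, ∀ b ∈ B, ⁅u, b⁆ ∈ N)
    (h3 : ∀ u ∈ X, ∀ g, ⁅⁅u, y⁆, g⁆ ∈ N) : (⁅x, y⁆ ^ (c * d))⁻¹ * ⁅x', y'⁆ ∈ N := by
  have mk : ∀ u v : G, ((⁅u, v⁆ : G) : G ⧸ N) = ⁅(u : G ⧸ N), (v : G ⧸ N)⁆ := fun u v =>
    map_commutatorElement (QuotientGroup.mk' N) u v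
  have cen : ∀ u ∈ X, ∀ g : G, Commute ⁅(u : G ⧸ N), (y : G ⧸ N)⁆ g := fun u hu g => by
    rw [← mk]; exact comm_mem_iff_mk.1 (h3 u hu g)
  have e : ⁅(x : G ⧸ N) ^ c * ((x ^ c)⁻¹ * x' : G), (y : G ⧸ N) ^ d * ((y ^ d)⁻¹ * y' : G)⁆ =
      ⁅(x : G ⧸ N) ^ c, (y : G ⧸ N) ^ d⁆ := comm_mul_central
    (comm_mem_iff_mk.1 (h1 _ hx (y ^ d * ((y ^ d)⁻¹ * y')) (mul_mem (zpow_mem hyY d) (hB hy))))
    (Commute.symm (comm_mem_iff_mk.1 (h2 _ (zpow_mem hxX c) _ hy)))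
  rw [← QuotientGroup.eq, eq_comm, QuotientGroup.mk_zpow, mk, mk, zpow_mul,
    ← comm_zpow_left (cen x hxX x), ← comm_zpow_right (x := (x : G ⧸ N) ^ c) (cen _ (zpow_mem hxX c) y),
    ← e]
  simp

/-- `y ∈ C(Z_2) ∖ γ_1` -/
structure CY (p k : ℕ) (y : G) : Prop where
  mc : MC p (k + 2) G
  p5 : 5 ≤ p
  yC : y ∈ kc G (k + 3)
  yT : y ∉ tsc G

/-- `⟨y⟩ γ_{j+1}` -/
abbrev RR (y : G) (j : ℕ) : Subgroup G := flt G j ⊔ zpowers y

theorem RR_anti (h : j ≤ l) : RR y l ≤ RR y j := sup_le_sup_right (flt_anti h) _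

theorem y_mem (y : G) (j : ℕ) : y ∈ RR y j := mem_sup_right (mem_zpowers y)

namespace CY
variable (h : CY p k y)
include h

theorem pg : IsPGroup p (⊤ : Subgroup G) := h.mc.pg.to_subgroup ⊤

theorem one (hx : x ∈ flt G (k + 5)) : x = 1 := h.mc.top.le hx

theorem hk (hr : r ≤ k + 2) : tsc G ≤ kc G r := MC.blackburn (by have := h.p5; omega) _ G h.mc r hr

theorem nk (ha : a ∉ tsc G) (r : ℕ) (hr : r < k + 3) : a ∉ kc G r :=
  h.mc.not_mem_kc (by omega) (h.hk (by omega)) ha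

theorem ex : ¬ tsc G ≤ kc G (k + 3) := fun e => h.mc.not_mem_kc le_rfl e h.yT h.yC

theorem lev (ha : a ∉ tsc G) (hr : r ≤ k + 3) (hc : c ∈ tsc G) (h1 : ⁅c, a⁆ ∈ flt G (r + 1)) :
    c ∈ flt G r :=
  h.mc.mem_flt (by omega) (fun i hi => h.nk ha i (by omega)) hc h1 _ le_rfl

theorem mem_tsc (hr : r ≤ k + 2) (hc : c ∈ flt G r) (hc' : c ∉ flt G (r + 1))
    (h1 : ⁅c, x⁆ ∈ flt G (r + 2)) : x ∈ tsc G :=
  by_contra fun e => h.nk e r (by omega) (h.mc.mem_kc (by omega) hc hc' h1)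

theorem idx (hj : j ≤ k + 3) : (flt G j).relIndex (RR y j) = p :=
  relIndex_sup_zp (fun e => h.yT (flt_anti j.zero_le e)) (flt_anti hj (h.lev h.yT le_rfl
    (pow_mem_of_relIndex (normal_le_normalizer _ _) h.mc.index_tsc trivial)
    (comm_one_iff.2 ((Commute.refl y).pow_left p).eq ▸ one_mem _)))

theorem card (e : j + l = k + 5) (hj : j ≤ k + 3) : Nat.card (RR y j) = p ^ (l + 1) := by
  rw [card_of_relIndex le_sup_left (h.idx hj), h.mc.card_flt e, pow_succ']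

theorem inf (hj : j ≤ k + 3) (hx : x ∈ RR y j) (hx' : x ∈ tsc G) : x ∈ flt G j :=
  ((eq_or_eq_of_relIndex (le_inf le_sup_left (flt_anti j.zero_le)) inf_le_left
    (h.idx hj)).resolve_right fun e => h.yT (e.ge (y_mem y j)).2).le ⟨hx, hx'⟩

theorem leC (hj : 1 ≤ j) : RR y j ≤ kc G (k + 3) :=
  sup_le ((flt_anti hj).trans (lcs_le_kc _)) (zpowers_le.2 h.yC)

theorem cZ (hs : s ∈ kc G (k + 3)) (hx : x ∈ flt G (k + 3)) : ⁅x, s⁆ = 1 := h.one (mem_cMod.1 hs x hx)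

theorem commR : ⁅RR y j, RR y j⁆ ≤ flt G (j + 1) :=
  commutator_sup_zpowers_le (normal_le_normalizer _ _) (nle _ y) (fun _ hx b _ => comm_mem_flt hx b)
    fun _ hx => comm_mem_symm (comm_mem_flt hx y)

theorem eqC : RR y 1 = kc G (k + 3) := by
  obtain ⟨s, hs, hs'⟩ := SetLike.not_le_iff_exists.1 h.ex
  refine eq_of_le_of_card_ge (h.leC le_rfl) ((h.mc.card_le_tsc _).trans ?_)
  rw [card_of_relIndex le_sup_left (h.idx (by omega))]
  exact Nat.mul_le_mul_left _ (card_le_of_le ((eq_or_eq_of_relIndex (le_inf (lcs_le_kc _)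
    lcs_one_le_tsc) inf_le_right (h.mc.relIndex (r := 0) (by omega))).resolve_right
      fun e => hs' (e.ge hs).1).le)

theorem count (hQ : flt G (k + 4) ≤ Q) (hT : ¬ Q ≤ tsc G) :
    Nat.card (normalizerIn ⊤ Q) ≤ p * Nat.card Q := by
  obtain ⟨a, ha, ha'⟩ := SetLike.not_le_iff_exists.1 hT
  have h1 := card_le_of_relIndex (relIndex_commMod_le (S := normalizerIn ⊤ Q) (B := Q ⊓ tsc G)
    (normal_le_normalizer (flt G (k + 4)) _) (nle _ a) fun s hs => ⟨comm_mem_symm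
      (comm_mem_of_nrm hs.2 ha), lcs_one_le_tsc (comm_mem_lcs (k := 0) trivial a)⟩)
  have h2 := H8.card_mul_relIndex' (le_inf hQ (flt_anti (Nat.zero_le _)) : _ ≤ Q ⊓ tsc G)
  have h3 := mul_card_le h.mc.pg (inf_le_left : Q ⊓ tsc G ≤ Q) fun e => ha' (e ha).2
  have h4 := (h.mc.card_le_tsc _).trans (Nat.mul_le_mul_left p ((card_le_of_le fun c (hc : c ∈
    normalizerIn ⊤ Q ⊓ commMod (flt G (k + 4)) a ⊓ tsc G) => h.lev ha' le_rfl hc.2 hc.1.2.2).trans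
      (h.mc.card_flt (b := 2) rfl).le))
  rw [h.mc.card_flt (b := 1) rfl] at h2
  refine h1.trans ((Nat.mul_le_mul_left _ h4).trans (le_trans (le_of_eq ?_) (Nat.mul_le_mul_left p h3)))
  rw [← h2]
  ring

theorem nrm (hj : j ≤ k + 2) : normalizerIn ⊤ (RR y (j + 1)) = RR y j := by
  refine (eq_of_le_of_card_ge (le_inf le_top fun s hs => normalizer_of_comm (S := ⊤) le_top fun x hx =>
    mem_sup_left (h.commR (commutator_mem_commutator hs (RR_anti j.le_succ hx))))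
    ((h.count ((flt_anti (by omega)).trans le_sup_left) fun e => h.yT (e (y_mem y _))).trans ?_)).symm
  rw [h.card (l := k + 4 - j) (by omega) (by omega), h.card (l := k + 4 - j + 1) (by omega) (by omega),
    ← pow_succ']

theorem zc_eq (h1 : 1 ≤ j) (hj : j ≤ k + 2) : zc (RR y j) = flt G (k + 3) := by
  obtain ⟨c, hc, hc'⟩ := h.mc.exists_mem (r := k + 2) (by omega)
  refine le_antisymm (fun x hx => ?_) fun x hx => mem_zc'.2 ⟨mem_sup_left (flt_anti (by omega) hx),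
    fun s hs => comm_one_symm (h.cZ (h.leC h1 hs) hx)⟩
  have := (mem_zc'.1 hx).2
  exact h.lev h.yT le_rfl (h.mem_tsc le_rfl hc hc' (this c (mem_sup_left (flt_anti hj hc)) ▸ one_mem _))
    (comm_one_symm (this y (y_mem y j)) ▸ one_mem _)

theorem aInv_up (h1 : 1 ≤ j) : ∀ d l, l + d = k + 3 → j + 1 ≤ l → F.AInv (RR y j) (flt G l)
  | 0, l, e, hl => by
    obtain rfl : l = k + 3 := e
    exact h.zc_eq h1 (by omega) ▸ aInv_zc F _
  | d + 1, l, e, hl => by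
    obtain ⟨l, rfl⟩ : ∃ l', l = l' + 1 := ⟨l - 1, by omega⟩
    obtain ⟨c, hc, hc'⟩ := h.mc.exists_mem (r := l) (by omega)
    have : flt G (l + 1) = RR y j ⊓ cMod (RR y j) (flt G (l + 2)) := le_antisymm
      (fun x hx => ⟨mem_sup_left (flt_anti (by omega) hx), mem_cMod.2 fun s _ =>
        comm_mem_symm (comm_mem_flt hx s)⟩) fun x hx => h.lev h.yT (by omega) (h.mem_tsc (by omega) hc hc'
          (mem_cMod.1 hx.2 c (mem_sup_left (flt_anti (by omega) hc))))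
          (comm_mem_symm (mem_cMod.1 hx.2 y (y_mem y j)))
    exact this ▸ aInv_cMod (aInv_self F _) (aInv_self F _) (aInv_up h1 d _ (by omega) (by omega))
      le_rfl le_rfl

theorem aInv_lev (h1 : 1 ≤ j) (h2 : j + 1 ≤ l) (h3 : l ≤ k + 3) : F.AInv (RR y j) (flt G l) :=
  h.aInv_up h1 (k + 3 - l) l (by omega) h2

theorem aInv_base [D.Normal] (h1 : 1 ≤ j) (h2 : j + 1 ≤ r) (h3 : r ≤ k + 2) (hD : F.AInv (RR y j) D)
    (h4 : D ≤ flt G (r + 2)) (h5 : ∀ x ∈ flt G j, ∀ c ∈ flt G r, ⁅c, x⁆ ∈ D) :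
    F.AInv (RR y j) (flt G j) := by
  obtain ⟨c, hc, hc'⟩ := h.mc.exists_mem (r := r) (by omega)
  have : flt G j = RR y j ⊓ cMod (flt G r) D := le_antisymm
    (fun x hx => ⟨mem_sup_left hx, mem_cMod.2 (h5 x hx)⟩) fun x hx =>
      h.inf (by omega) hx.1 (h.mem_tsc h3 hc hc' (h4 (mem_cMod.1 hx.2 c hc)))
  exact this ▸ aInv_cMod (aInv_self F _) (h.aInv_lev h1 h2 (by omega)) hD le_rfl
    ((flt_anti (by omega)).trans le_sup_left)

theorem aInv_mid (h1 : 2 ≤ j) (h2 : j ≤ k + 1) : F.AInv (RR y j) (flt G j) :=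
  h.aInv_base (r := k + 2) (by omega) (by omega) le_rfl (aInv_bot F _) bot_le fun _ hx _ hc =>
    h.one (comm_lcs (flt_le_lcs _ hc) (flt_le_lcs _ hx) (by omega))

/-- a full invariant flag -/
theorem op {t : ℕ} (hj : j ≤ t) (hj' : j ≤ k + 3) (hi : ∀ l, j ≤ l → l ≤ t → F.AInv (RR y j) (flt G l))
    (hs : s ∈ normalizer ((RR y j : Subgroup G) : Set G)) (h0 : ∀ x ∈ flt G t, ⁅x, s⁆ = 1) :
    cj s ∈ F.opStab p (RR y j) := by
  refine (F.iso_cj le_top trivial hs).mem_opStab_of_chain h.pg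
    (C := fun i => if i = 0 then ⊥ else if i ≤ t + 1 - j then flt G (t + 1 - i) else RR y j)
    (n := t + 2 - j) (fun i _ => ?_) rfl ?_ (fun τ hτ i _ => ?_) fun i hi x hx => ?_
  · split_ifs
    exacts [bot_le, (flt_anti (by omega)).trans le_sup_left, le_rfl]
  · rw [if_neg (by omega), if_neg (by omega)]
  · split_ifs
    exacts [aInv_bot F _ τ hτ, hi _ (by omega) (by omega) τ hτ, fun _ => hτ.mem]
  · rw [if_neg i.succ_ne_zero] at hx
    by_cases h1 : i + 1 ≤ t + 1 - j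
    · rw [if_pos h1] at hx
      by_cases h2 : i = 0
      · subst h2
        exact (conj_mem_iff_comm (nle ⊥ x)).2 (h0 x hx)
      · rw [if_neg h2, if_pos (by omega), show t + 1 - i = t + 1 - (i + 1) + 1 by omega]
        exact (conj_mem_iff_comm (nle _ x)).2 (comm_mem_flt hx s)
    · rw [if_neg h1] at hx
      rw [if_neg (by omega), if_pos (by omega), show t + 1 - i = j by omega]
      exact conj_mem_of_relIndex h.pg trivial (nle _ s) hs (h.idx hj').dvd x hx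

theorem op' (h1 : 2 ≤ j) (h2 : j ≤ k + 2) (hi : F.AInv (RR y j) (flt G j))
    (hs : s ∈ normalizerIn ⊤ (RR y j)) : cj s ∈ F.opStab p (RR y j) := by
  obtain ⟨j, rfl⟩ : ∃ i, j = i + 1 := ⟨j - 1, by omega⟩
  refine h.op (t := k + 3) (by omega) (by omega) (fun l e1 e2 => ?_) hs.2
    fun x hx => h.cZ (h.leC (by omega) ((h.nrm (by omega)).le hs)) hx
  rcases e1.eq_or_lt with rfl | e
  exacts [hi, h.aInv_lev (by omega) e e2]

theorem not_ess (h1 : 2 ≤ j) (h2 : j ≤ k + 2) (hi : F.AInv (RR y j) (flt G j)) :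
    ¬ F.IsEssential p (RR y j) := fun hE => by
  obtain ⟨j, rfl⟩ : ∃ i, j = i + 1 := ⟨j - 1, by omega⟩
  obtain ⟨g, hg, hg'⟩ := h.mc.exists_mem (r := j) (by omega)
  exact hg' (h.inf (by omega) (hE.isCentric.mem_of_cj_mem_opStab (hE.isRadical h.pg) trivial
    (h.op' h1 h2 hi ((h.nrm (by omega)).ge (mem_sup_left hg)))) (flt_anti j.zero_le hg))

end CY

end Cfsg.Agent.M7
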