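import Cfsg.Agent.M7.C1

/-! Essential subgroups of `C(Z_2)` which are not contained in `γ_1`. -/

set_option autoImplicit false
set_option linter.unusedSectionVars false

namespace Cfsg.Agent.M7

open Equiv Cfsg.Fus Cfsg.FusionSystem Subgroup Cfsg.Agent.H1
open scoped commutatorElement

universe u

variable {p : ℕ} [hp : Fact p.Prime] {G : Type u} [Group G] [Finite G]
  {F : FusionSystem (⊤ : Subgroup G)} {E Q T : Subgroup G} {k j l m : ℕ} {a b c s x y : G}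
  {β φ τ : Perm G}

namespace CY
variable (h : CY p k y)
include h

theorem Z_le (hE : F.IsCentric E) (hx : x ∈ flt G (k + 4)) : x ∈ zc E :=
  have : ∀ s, ⁅s, x⁆ = 1 := fun s => comm_one_symm (h.one (comm_mem_flt hx s))
  mem_zc'.2 ⟨hE.centralizerIn_le ⟨trivial, fun s _ => comm_one_iff.1 (this s)⟩, fun s _ => this s⟩

/-- the conjugates of `⟨y⟩ γ_{m+1}` are not contained in `γ_1` -/
theorem not_le (h2 : 2 ≤ k) (hE : F.IsEssential p (RR y (k + 2))) (hφ : F.IsMap T φ)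
    (hT : RR y (k + 1) ≤ T) : flt G (k + 4) ≤ img φ (RR y (k + 2)) ∧
      ¬ img φ (RR y (k + 2)) ≤ tsc G := by
  have hN := h.nrm (j := k + 1) (by omega)
  have i := (hφ.mono ((RR_anti (k + 1).le_succ).trans hT)).iso
  have e1 := essential_of_iso hE i (hE.isFullyNormalized.of_map hφ (hN.le.trans hT))
  have e2 := hE.isFullyNormalized.img_normalizerIn hφ (hN.le.trans hT)
  have e3 := img_zc i
  rw [h.zc_eq (by omega) le_rfl] at e3
  rw [hN] at e2
  have m1 := hφ.mono hT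
  have l1 : flt G (k + 3) ≤ RR y (k + 1) := (flt_anti (by omega)).trans le_sup_left
  generalize img φ (RR y (k + 2)) = E at *
  refine ⟨fun x hx => (h.Z_le e1.isCentric hx).1, fun hle => ?_⟩
  have nm : ∀ r ≤ k + 2, flt G (r + 2) ≤ E → flt G r ≤ normalizerIn ⊤ E := fun r hr h1 s hs =>
    ⟨trivial, normalizer_of_comm (S := ⊤) le_top fun x hx => h1 (mem_cMod.1 (h.hk hr (hle hx)) s hs)⟩
  have n1 := nm _ le_rfl fun x hx => (h.Z_le e1.isCentric hx).1
  have l2 : flt G (k + 2) ≤ E := fun g hg => e1.isCentric.mem_of_cj_mem_opStab (e1.isRadical h.pg)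
    trivial (mem_opStab_two h.pg (F.iso_cj le_top trivial (n1 hg).2) (aInv_zc F E)
      (fun x hx => conj_mem_of_comm (aInv_zc F E) le_top hx (h.Z_le e1.isCentric
        (comm_mem_symm (mem_cMod.1 (h.hk le_rfl (hle hx)) g hg)))) fun x hx hx' => by
      obtain ⟨n, hn, rfl⟩ := m1.mem_img.1 (e2.ge (n1 hg))
      obtain ⟨w, hw, rfl⟩ := (m1.mono l1).mem_img.1 (e3.ge hx)
      refine conj_mem_of_comm (aInv_phiF F E) le_top hx' ?_
      rw [← m1.homOn.map_commutator (l1 hw) hn, h.cZ (h.leC (by omega) hn) hw, m1.homOn.map_one]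
      exact one_mem _)
  have e4 := eq_of_le_of_card_ge (nm k (by omega) l2) (by
    rw [← e2, m1.card_img, h.card (l := 4) (by omega) (by omega), h.mc.card_flt (b := 5) rfl])
  have := card_le_of_le (fun x hx => mem_zc'.2 ⟨l2 hx, fun s hs => h.one (comm_lcs (flt_le_lcs _
    (e4.ge (le_normalizerIn le_top hs))) (flt_le_lcs _ hx) (by omega))⟩ : flt G (k + 2) ≤ zc E)
  rw [← e3, (m1.mono l1).card_img, h.mc.card_flt (b := 3) rfl, h.mc.card_flt (b := 2) rfl,
    Nat.pow_le_pow_iff_right hp.out.one_lt] at this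
  omega

theorem ext_C (hF : F.IsSaturated p) (hE : F.IsEssential p (RR y (k + 2))) :
    ∀ j ≤ k, ∀ β, F.Iso (RR y (j + 1)) (RR y (j + 1)) β →
      ∃ τ, F.Iso (RR y 1) (RR y 1) τ ∧ ∀ x ∈ RR y (j + 1), τ x = β x
  | 0, _, β, hβ => ⟨β, hβ, fun _ _ => rfl⟩
  | j + 1, hj, β, hβ => by
    have hN := h.nrm (j := j + 1) (by omega)
    have h2 : 2 ≤ k := by
      obtain ⟨n, hn⟩ := (h.mc.exc (by have := h.p5; omega) h.ex).1
      omega
    have hR : F.IsFullyNormalized (RR y (j + 2)) := ⟨le_top, fun Q hQ => by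
      obtain ⟨φ, hφ⟩ := hQ.exists_iso
      obtain ⟨h3, h4⟩ := h.not_le h2 hE hφ.isMap (RR_anti (by omega))
      have l : img φ (RR y (k + 2)) ≤ Q := img_le_iff.2 fun x hx => hφ.mem (RR_anti (by omega) hx)
      refine (h.count (h3.trans l) fun e => h4 (l.trans e)).trans ?_
      rw [← hφ.card_eq, hN, h.card (l := k + 3 - j) (by omega) (by omega),
        h.card (l := k + 3 - j + 1) (by omega) (by omega), ← pow_succ']⟩
    obtain ⟨τ, t1, t2⟩ := (hR.isReceptive hF h.pg).exists_ext_of_le hβ le_rfl fun s hs =>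
      (hR.isFullyAutomized hF h.pg).opStab_le (hβ.conj_mem_opStab (h.op' (by omega) (by omega)
        (h.aInv_mid (by omega) (by omega)) hs))
    have t3 := (t1.mono le_sup_right).iso_self fun s hs => by
      simpa [(hβ.congr t2).img_eq] using t1.mem_normalizerIn le_sup_left (mem_sup_right hs) hs.2
    rw [hN] at t3
    obtain ⟨ρ, h3, h4⟩ := ext_C hF hE j (by omega) τ t3
    exact ⟨ρ, h3, fun x hx => (h4 x (RR_anti (j + 1).le_succ hx)).trans (t2 x hx)⟩

variable [WIN.{u}]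

theorem weights (hτ : F.Iso (RR y 1) (RR y 1) τ) (h1 : ∀ w ∈ flt G (k + 3), τ w = w)
    (hb : b ∈ flt G (k + 2)) (hb' : b ∉ flt G (k + 3)) (h2 : (b ^ (-1 : ℤ))⁻¹ * τ b ∈ flt G (k + 3))
    (ha : a ∈ RR y 1) (ha' : a ∉ tsc G) (h3 : (a ^ (-1 : ℤ))⁻¹ * τ a ∈ flt G (k + 3)) : False := by
  have hp2 : p ≠ 2 := by have := h.p5; omega
  have fl : ∀ {l x}, 1 ≤ l → x ∈ flt G l → x ∈ RR y 1 := fun hl hx => mem_sup_left (flt_anti hl hx)
  have c1 : ∀ u ∈ flt G 1, ∀ g : G, ⁅⁅b, u⁆, g⁆ = 1 := fun u hu g =>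
    h.one (comm_mem_lcs (comm_lcs (flt_le_lcs _ hb) hu le_rfl) g)
  obtain ⟨x, hx, hx'⟩ := h.mc.exists_mem (r := 1) (by omega)
  have hz : ⁅b, x⁆ ∈ flt G (k + 4) := comm_lcs (flt_le_lcs _ hb) hx le_rfl
  have e1 : ⁅b⁻¹, τ x⁆ = ⁅b, x⁆ := by
    rw [← h1 _ (flt_anti (by omega) hz), hτ.homOn.map_commutator (fl (by omega) hb) (fl le_rfl hx),
      ← mul_inv_cancel_left (b ^ (-1 : ℤ)) (τ b), zpow_neg_one, ← mul_one (τ x)]
    rw [zpow_neg_one] at h2
    rw [comm_mul_central (by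
      rw [mul_one]; exact comm_one_iff.1 (h.cZ (h.leC le_rfl (hτ.mem (fl le_rfl hx))) h2))
      (Commute.one_left _), mul_one]
  have x1 : τ x ∈ flt G 1 := h.inf (by omega) (hτ.mem (fl le_rfl hx))
    (h.mem_tsc le_rfl (inv_mem hb) (by simpa using hb') (e1 ▸ hz))
  have x2 : (x ^ (-1 : ℤ))⁻¹ * τ x ∈ flt G 2 := by
    by_contra e
    rw [zpow_neg_one, inv_inv] at e
    refine WIN.pair h.p5 h.mc h.ex (by omega) hb hb' (mul_mem hx x1) e ?_
    have e2 := comm_one_iff.1 (c1 _ x1 b)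
    have e3 := comm_one_iff.1 (c1 _ x1 x)
    calc ⁅b, x * τ x⁆ = ⁅b, x⁆ * (x * ⁅b, τ x⁆) * x⁻¹ := by simp only [commutatorElement_def]; group
      _ = b⁻¹ * (⁅b, τ x⁆⁻¹ * (b * ⁅b, τ x⁆)) := by
        rw [← e1, ← e3]; simp only [commutatorElement_def]; group
      _ = 1 := by rw [← e2]; group
  have key : ∀ l ≤ k + 1, ∃ u ∈ flt G (l + 1), u ∉ flt G (l + 2) ∧
      (u ^ (-1 : ℤ) ^ (l + 1))⁻¹ * τ u ∈ flt G (l + 2) := by
    intro l hl
    induction l with
    | zero => exact ⟨x, hx, hx', by simpa using x2⟩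
    | succ l ih =>
      obtain ⟨u, u1, u2, u3⟩ := ih (by omega)
      refine ⟨⁅u, a⁆, comm_mem_flt u1 a, fun e => ha' (h.mem_tsc (by omega) u1 u2 e), ?_⟩
      rw [hτ.homOn.map_commutator (fl (by omega) u1) ha, pow_succ]
      exact pw_comm u3 h3 u1 (mem_top a) le_top (fun c hc v _ => comm_mem_flt hc v)
        (fun c hc w hw => comm_one_symm (h.cZ (h.leC le_rfl (fl (by omega) hc)) hw) ▸ one_mem _)
        fun c hc g => comm_mem_flt (comm_mem_flt hc a) g
  obtain ⟨u, u1, u2, u3⟩ := key _ le_rfl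
  rw [(h.mc.exc hp2 h.ex).1.neg_one_pow, zpow_one] at u3
  obtain ⟨w, hw, i, rfl⟩ := (mem_sup_zpowers (nle _ u)).1 ((h.mc.sup_eq (by omega) u1 u2).ge hb)
  refine hb' (mem_of_sq_mem h.pg hp2 trivial ?_)
  rw [hτ.homOn (fl (by omega) hw) (zpow_mem (fl (by omega) u1) i), h1 w hw,
    hτ.homOn.map_zpow (fl (by omega) u1), zpow_neg_one, inv_inv, ← QuotientGroup.eq_one_iff] at h2
  rw [← QuotientGroup.eq] at u3
  rw [← QuotientGroup.eq_one_iff, sq]
  simpa [← u3] using h2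

theorem not_ess_top (hF : F.IsSaturated p) : ¬ F.IsEssential p (RR y (k + 2)) := fun hE => by
  have hN := h.nrm (j := k + 1) (by omega)
  have lE : LEs F p (RR y (k + 2)) := ⟨h.pg, hF, hE.isFullyNormalized, fun g hg =>
    hE.isCentric.mem_of_cj_mem_opStab (hE.isRadical h.pg) hg, by
      rw [hN, relIndex_eq_of_card_eq (n := 1) (RR_anti (k + 1).le_succ) (h.card (l := 3) rfl (by omega))
        (h.card (l := 4) rfl (by omega)), pow_one]⟩
  have iZ := h.aInv_lev (F := F) (j := k + 2) (by omega) le_rfl le_rfl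
  have ZE : flt G (k + 3) ≤ RR y (k + 2) := (flt_anti (by omega)).trans le_sup_left
  obtain ⟨g, hg, hg'⟩ := h.mc.exists_mem (r := k + 1) (by omega)
  have b1 : ⁅y, g⁆ ∈ flt G (k + 2) := comm_mem_symm (comm_mem_flt hg y)
  have b2 : ⁅y, g⁆ ∉ flt G (k + 3) := fun e => h.yT (h.mem_tsc (by omega) hg hg' (comm_mem_symm e))
  have y1 : y ∉ cfix (RR y (k + 2)) (flt G (k + 3)) g := fun e => b2 e.2.2
  have e1 : cfix (RR y (k + 2)) (flt G (k + 3)) g = flt G (k + 2) :=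
    (eq_or_eq_of_relIndex (fun x hx => (mem_cfix (normal_le_normalizer _ _)).2
      ⟨mem_sup_left hx, comm_mem_flt hx g⟩) (cfix_le _ _ _)
      (h.idx (by omega))).resolve_right fun e => y1 (e.ge (y_mem y _))
  obtain ⟨a, W, q⟩ := lE.exists_gq ⟨le_top, le_rfl, ZE, aInv_self F _, iZ, fun e he x hx =>
    h.commR (commutator_mem_commutator hx he)⟩ (hN.ge (mem_sup_left hg)) (e1 ▸ h.idx (by omega))
    (fun e => h.not_ess (by omega) le_rfl (e1 ▸ e) hE) (y_mem y _) y1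
  obtain ⟨β, t1, t0, t2, t3, -, -⟩ := q.torus (-1) (-1) (by simp)
  obtain ⟨φ, hφ, e2⟩ := q.conj
  have aE : a ∈ RR y (k + 2) := e2 ▸ hφ.mem (mem_sup_left b1)
  obtain ⟨τ, t5, t6⟩ := h.ext_C hF hE k le_rfl β (hN ▸ t1)
  have t7 : ∀ x ∈ RR y (k + 2), τ x = β x := fun x hx => t6 x (RR_anti (k + 1).le_succ hx)
  exact h.weights t5 (fun w hw => (t7 w (ZE hw)).trans (inv_mul_eq_one.1 (lE.oQ_triv (aInv_bot F _) iZ ZE
      (fun s hs x hx => h.cZ (h.leC (by omega) (hN.le hs)) hx) t0 w hw)).symm) b1 b2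
    (t7 _ (mem_sup_left b1) ▸ t2) (RR_anti (by omega) aE)
    (fun e => q.ne (comm_mem_flt (h.inf (by omega) aE e) g)) (t7 _ aE ▸ t3)

end CY

theorem exists_cy (h : MC p m G) (hp5 : 5 ≤ p) (h1 : y ∈ kc G (m + 1)) (h2 : y ∉ tsc G) :
    ∃ k, m = k + 2 ∧ CY p k y := by
  obtain ⟨n, hn⟩ := (h.exc (by omega) fun e => h.not_mem_kc le_rfl e h2 h1).1
  rcases m with _ | _ | k
  · exact absurd h1 h2
  · omega
  · exact ⟨k, rfl, h, hp5, h1, h2⟩

variable [WIN.{u}]

/-- an essential subgroup of `C(Z_2)` which is not contained in `γ_1` is `C(Z_2)` -/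
theorem sec1 (h : MC p m G) (hF : F.IsSaturated p) (hE : F.IsEssential p E) (hp5 : 5 ≤ p)
    (h1 : E ≤ kc G (m + 1)) (h2 : ¬ E ≤ tsc G) : E = kc G (m + 1) := by
  obtain ⟨y, hy, hy'⟩ := SetLike.not_le_iff_exists.1 h2
  obtain ⟨k, rfl, c⟩ := exists_cy h hp5 (h1 hy) hy'
  have ZE : flt G (k + 3) ≤ E := fun x hx => hE.isCentric.centralizerIn_le ⟨trivial, fun s hs =>
    (comm_one_iff.1 (c.cZ (h1 hs) hx)).symm⟩
  obtain ⟨j, -, hj⟩ := WIN.nrm hp5 h (N := E ⊓ tsc G) inf_le_right hy' (normalizer_of_comm (S := ⊤)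
    le_top fun x hx => ⟨comm_mem_symm (comm_mem_of_nrm (le_normalizer hy) hx.1),
      comm_mem_symm (comm_mem_left _ hx.2 y)⟩)
    (.inl (le_inf ((flt_anti (by omega)).trans ZE) (flt_anti (Nat.zero_le _))))
  have j1 : j ≤ k + 3 := by
    by_contra e
    obtain ⟨x, hx, hx'⟩ := h.exists_mem (r := k + 3) (by omega)
    exact hx' (flt_anti (by omega) (hj.le ⟨ZE hx, flt_anti (Nat.zero_le _) hx⟩))
  obtain rfl : RR y j = E := eq_of_le_of_card_ge (sup_le (hj.ge.trans inf_le_left) (zpowers_le.2 hy))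
    (by rw [card_of_relIndex le_sup_left (c.idx j1), ← hj]; exact h.card_le_tsc E)
  rcases j with _ | _ | j
  · exact absurd (le_sup_left.trans h1) c.ex
  · exact c.eqC
  exfalso
  rcases (by omega : j + 2 ≤ k + 1 ∨ j = k ∨ j = k + 1) with e | rfl | rfl
  · exact c.not_ess (by omega) (by omega) (c.aInv_mid (by omega) e) hE
  · exact c.not_ess_top hF hE
  have ab : ⁅RR y (k + 3), RR y (k + 3)⁆ ≤ ⊥ := commutator_sup_zpowers_le (normal_le_normalizer _ _)
    (nle _ y) (fun _ ha _ hb => c.cZ (h1 (mem_sup_left hb)) ha) fun _ ha => comm_one_symm (c.cZ c.yC ha)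
  have hc := c.card (j := k + 3) (l := 2) rfl le_rfl
  rcases H8.card_cube_cases (Fus.isPGroup_of_le c.pg le_top) (H8.essAut_of_isEssential hE).not_stab hc
    with ⟨h7, h6⟩ | ⟨-, h5, -⟩ | h5
  · exact MC.no_cube (m := k + 1) h hp5 ⟨c.pg, hF, hE, ⟨⟨⟨h7⟩⟩, fun a ha =>
      congrArg Subtype.val (h6 ⟨a, ha⟩)⟩, hc⟩
  · obtain ⟨e1, e2⟩ := extraspecial_iff h5
    rw [← e1, le_bot_iff.1 ab, card_bot] at e2
    omega
  · omega

/-- `C(Z_2)` is essential only in groups of order `p ^ 6` -/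
theorem sec1m (h : MC p m G) (hp5 : 5 ≤ p) (hC : F.IsEssential p (kc G (m + 1)))
    (hx : ¬ tsc G ≤ kc G (m + 1)) : m = 2 := by
  obtain ⟨s, hs, hs'⟩ := h.exists_mem (r := 0) (by omega)
  have sC : s ∉ kc G (m + 1) := fun e => hx (h.le_kc hs hs' e)
  obtain ⟨y, hy, hy'⟩ : ∃ y ∈ kc G (m + 1), y ∉ tsc G := SetLike.not_le_iff_exists.1 fun e => by
    obtain ⟨t, -, ht⟩ := SetLike.not_le_iff_exists.1 (h.kc_ne (r := 1) (by omega))
    have h1 := ((h.unif fun r hr e' => (by omega : r ≤ m ∨ r = m + 1).elim (fun e2 => h.not_mem_kc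
      (by omega) (MC.blackburn (by omega) m G h r e2) ht e') fun e2 => ht (e (e2 ▸ e'))).index_cMod
      h.ne).2
    have h2 := relIndex_mul_index e
    rw [← relIndex_top_right (tsc G), h.index_tsc, show (kc G (m + 1)).index = p from h1,
      Nat.mul_eq_right hp.out.ne_zero] at h2
    exact hx (relIndex_eq_one.1 h2)
  obtain ⟨k, rfl, c⟩ := exists_cy h hp5 hy hy'
  by_contra hk
  have h2 : 2 ≤ k := by
    obtain ⟨n, hn⟩ := (h.exc (by omega) hx).1
    omega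
  rw [← c.eqC] at hC sC
  have i1 : F.AInv (RR y 1) (flt G 1) := c.aInv_base (r := 2) le_rfl le_rfl (by omega)
    (c.aInv_lev le_rfl (by omega) (by omega)) le_rfl fun _ hx _ hc => comm_lcs hc hx le_rfl
  have i2 : F.AInv (RR y 1) (flt G (k + 4)) := by
    obtain ⟨a, ha, ha'⟩ := h.exists_mem (r := 1) (by omega)
    obtain ⟨b, hb, hb'⟩ := h.exists_mem (r := k + 2) (by omega)
    have l : ⁅flt G 1, flt G (k + 2)⁆ ≤ flt G (k + 4) :=
      (lcs_comm 1 (k + 2)).trans (lcs_anti (by omega))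
    rw [← le_antisymm l ((h.sup_eq (r := k + 4) le_rfl (l (commutator_mem_commutator ha hb))
      fun e => WIN.pair hp5 h hx (by omega) ha ha' hb hb' (c.one e)).ge.trans
      (sup_le (h.top.le.trans bot_le) (zpowers_le.2 (commutator_mem_commutator ha hb))))]
    exact aInv_comm i1 (c.aInv_lev le_rfl (by omega) (by omega)) le_sup_left
      ((flt_anti (by omega)).trans le_sup_left)
  refine sC (hC.isCentric.mem_of_cj_mem_opStab (hC.isRadical c.pg) trivial (c.op (t := k + 4)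
    (by omega) (by omega) (fun l h3 h4 => ?_) (normalizer_of_comm (S := ⊤) le_top fun x _ =>
      mem_sup_left (comm_mem_lcs (k := 0) trivial x)) fun x hx => c.one (comm_mem_flt hx s)))
  rcases (by omega : l = 1 ∨ l = k + 4 ∨ 2 ≤ l ∧ l ≤ k + 3) with rfl | rfl | e
  exacts [i1, i2, c.aInv_lev le_rfl e.1 e.2]

end Cfsg.Agent.M7
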