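import Cfsg.Agent.M7.J

/-! The slice `LF` for `S5267`. -/

set_option autoImplicit false
set_option linter.unusedSectionVars false

namespace Cfsg.Agent.M7

open Module Cfsg.Agent.M9

universe u

theorem lf_arith {n a : ℕ} (hn : 4 ≤ n) (h : ∀ c, 0 < c → c < n → ¬ n ∣ a * c) :
    (∃ c, c + 3 ≤ n ∧ a * (c + 2) ≡ 1 [MOD n]) ∨ a ≡ 1 [MOD n] := by
  have hc : Nat.Coprime a n := by
    by_contra hc
    have h0 : 0 < Nat.gcd a n := Nat.gcd_pos_of_pos_right _ (by omega)
    have h1 : 1 < Nat.gcd a n := by unfold Nat.Coprime at hc; omega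
    refine h (n / Nat.gcd a n) (Nat.div_pos (Nat.gcd_le_right _ (by omega)) h0)
      (Nat.div_lt_self (by omega) h1) ?_
    obtain ⟨k, hk⟩ := Nat.gcd_dvd_left a n
    refine ⟨k, ?_⟩
    have e := Nat.mul_div_cancel' (Nat.gcd_dvd_right a n)
    generalize Nat.gcd a n = d at hk e
    rw [hk, mul_right_comm, e]
  obtain ⟨m, hm0, hm⟩ := Nat.exists_mul_mod_eq_one_of_coprime hc (by omega : 1 < n)
  have hm' : a * m ≡ 1 [MOD n] := by unfold Nat.ModEq; rw [hm, Nat.mod_eq_of_lt (by omega)]
  rcases m with _ | _ | m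
  · simp at hm
  · exact .inr (by simpa using hm')
  · exact .inl ⟨m, by omega, hm'⟩

theorem lf_pow {p : ℕ} [Fact p.Prime] {x : ZMod p} (hx : x ≠ 0) {k : ℕ} (h : k ≡ 1 [MOD p - 1]) :
    x ^ k = x := by
  rw [pow_eq_pow_of_modEq h (ZMod.pow_card_sub_one_eq_one hx), pow_one]

instance instLF : LF.{u} where
  out {p _ Γ V _ _ _ _ _ ρ H g r a U b₀ b₁} hp T hq hr hm h0 h1 h2 hb₀ hb₁ hU hw hg := by
    classical
    have m0 : b₀ ∈ U 1 := h1 ▸ Submodule.mem_span_singleton_self _
    have m1 : b₁ ∈ U 2 := h2 ▸ Submodule.mem_sup_right (Submodule.mem_span_singleton_self _)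
    have w0 : ∀ h ∈ H, ρ h b₀ = (r h ^ a) • b₀ := fun h hh => by
      simpa [h0, sub_eq_zero] using hw h hh 0 b₀ m0
    have f1 := fun h => ZMod.pow_card_sub_one_eq_one (hr h)
    have N0 := nz_vec (n := 1) hq (by omega) w0 hb₀
    by_contra hc
    rw [not_or] at hc
    have hL : ¬ ∀ y, ρ y b₀ ∈ Submodule.span (ZMod p) {b₀} := fun h => hc.1 fun y v hv => by
      rw [h1] at hv ⊢
      obtain ⟨c, rfl⟩ := Submodule.mem_span_singleton.1 hv
      rw [map_smul]
      exact Submodule.smul_mem _ _ (h y)
    rcases lf_arith (n := p - 1) (a := a) (by omega) fun c c0 c1 ⟨k, hk⟩ =>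
      hL (PTc.vec (n := 1) hq (by omega) T w0 (N0.pow (c - 1)) (fun h _ => by
        rw [← pow_succ', Nat.sub_add_cancel c0, ← pow_mul, hk, pow_mul, f1, one_pow]) (by omega))
      with ⟨c, c1, c2⟩ | ha
    · have hi : ∀ h ∈ H, ∀ v ∈ U 2, ρ h v ∈ U 2 := fun h hh v hv => by
        have := add_mem (hm (by omega : 1 ≤ 2) (hw h hh 1 v hv)) (Submodule.smul_mem _
          (r h ^ a * (r h)⁻¹ ^ 1) hv)
        rwa [sub_add_cancel] at this
      let B : Γ → End (ZMod p) (U 2) := fun h => if hh : h ∈ H then (ρ h).restrict (hi h hh) else 1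
      have hd : ∀ h ∈ H, LinearMap.det (B h) = ∏ j ∈ Finset.range 2, r h ^ a * (r h)⁻¹ ^ j ∧
          finrank (ZMod p) (U 2) = 2 := fun h hh => by
        have e : ∀ j ≤ 2, ((U j).comap (U 2).subtype).map (U 2).subtype = U j := fun j hj => by
          rw [Submodule.map_comap_subtype, inf_eq_right.2 (hm hj)]
        refine det_flag (U := fun j => (U j).comap (U 2).subtype)
          (b := fun j => if j = 0 then ⟨b₀, hm (by omega : 1 ≤ 2) m0⟩ else ⟨b₁, m1⟩) (by simp [h0])
          (by simp) (fun j hj => ?_) (fun j hj => ?_) fun j hj => ?_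
        · apply Submodule.map_injective_of_injective (U 2).injective_subtype
          rw [Submodule.map_sup, e _ hj, e _ hj.le, Submodule.map_span]
          interval_cases j
          · simp [h0, h1]
          · simpa using h2
        · interval_cases j
          · simpa [h0] using hb₀
          · simpa using hb₁
        · interval_cases j
          · simpa [B, hh] using hw h hh 0 b₀ m0
          · simpa [B, hh] using hw h hh 1 b₁ m1
      refine hc.2 fun y v hv => ?_
      have := PTc.det (n := 2) (ι := (U 2).subtype) (B := B) hq (fun h hh => by ext v; simp [B, hh])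
        (.inl (hd 1 H.one_mem).2.le) T (U 2).injective_subtype (N0.pow c) (fun h hh => by
          have := lf_pow (hr h) c2
          rw [(hd h hh).1, Finset.prod_range_succ, Finset.prod_range_one, ← mul_inv_cancel₀ (hr h)]
          conv_rhs => enter [1]; rw [← this]
          ring) (by omega) y ⟨v, hv⟩
      simpa using this
    · by_cases h3 : U 3 = ⊤
      · have hg' : (ρ g - 1) ^ (0 + 1) = 0 := by
          ext v
          simp [hg v (h3 ▸ trivial)]
        exact hL (PTc.vec hg' (by omega) T w0 ((nz_vec hg' (by omega) w0 hb₀).pow (p - 2))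
          (fun h _ => by
            rw [← pow_succ', lf_pow (hr h) ha, show p - 2 + 1 = p - 1 by omega, f1]) (by omega))
      · obtain ⟨i, i1, i2, i3, i4⟩ : ∃ i, 3 ≤ i ∧ i < p ∧ U i ≠ ⊤ ∧ U (i + 1) = ⊤ := by
          have hex : ∃ j, U j = ⊤ := ⟨p, hU⟩
          have j1 := Nat.find_spec hex
          have j2 : Nat.find hex ≤ p := Nat.find_min' hex hU
          have j3 : 3 < Nat.find hex := by
            by_contra h
            exact h3 (top_le_iff.1 (j1 ▸ hm (by omega)))
          exact ⟨Nat.find hex - 1, by omega, by omega, Nat.find_min hex (by omega),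
            by rwa [Nat.sub_add_cancel (by omega)]⟩
        obtain ⟨v, -, hv⟩ := SetLike.exists_of_lt (lt_top_iff_ne_top.2 i3)
        obtain ⟨l, l1, l2⟩ := exists_dual hv
        have Nl := nz_fn (n := 1) (H := H) (φ := l) (v := v) (χ := fun h => (r h)⁻¹ * r h ^ i) hq
          (by omega) (fun h hh v => by
            have := l2 _ (hw h hh i (ρ h⁻¹ v) (i4 ▸ trivial))
            rw [rho_inv', map_sub, map_smul, sub_eq_zero, lf_pow (hr h) ha, smul_eq_mul] at this
            rw [this, inv_pow]
            have := hr h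
            field_simp) (by rw [l1]; exact one_ne_zero)
        refine hL (PTc.vec (n := 1) hq (by omega) T w0 (Nl.mul (N0.pow (p - 1 - i))) (fun h _ => ?_)
          (by omega))
        rw [lf_pow (hr h) ha, mul_assoc, ← pow_add, Nat.add_sub_cancel' (by omega), f1, mul_one,
          mul_inv_cancel₀ (hr h)]

end Cfsg.Agent.M7
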