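import Cfsg.Agent.H1.Cube2

/-! Interface for `S5267` (see notes/m7.md).  `flt G j = γ_{j+1}`, `tsc G = flt G 0 = γ_1`,
`kc G (m + 1) = C(Z_2)`, `flt G (m + 2) = Z(G)`, `flt G (m + 3) = 1`. -/

set_option autoImplicit false

namespace Cfsg.Agent.M7

open Equiv Cfsg.Fus Cfsg.FusionSystem Subgroup Cfsg.Agent.H1
open scoped commutatorElement

universe u

section
variable {G : Type*} [Group G]

/-- extraspecial pearl type -/
def Xs (p : ℕ) (E : Subgroup G) : Prop :=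
  Nat.card E = p ^ 3 ∧ IsExtraspecial p E ∧ (p ≠ 2 → Monoid.exponent E = p) ∧
    (p = 2 → Nonempty (E ≃* QuaternionGroup 2))

/-- pearl type -/
def Prl (p : ℕ) (E : Subgroup G) : Prop :=
  (Nat.card E = p ^ 2 ∧ IsElementaryAbelian p E) ∨ Xs p E

/-- the conclusion of `S5267` -/
def Res (p m : ℕ) (F : FusionSystem (⊤ : Subgroup G)) : Prop :=
  (∀ E, F.IsEssential p E → Prl p E ∨ E = tsc G ∨ E = kc G (m + 1)) ∧
    (tsc G ≠ kc G (m + 1) → ∀ E, F.IsEssential p E → ¬ Xs p E)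

/-- `G / flt G K` is not exceptional -/
def NX (G : Type*) [Group G] (K : ℕ) : Prop := ∀ r, r + 2 ≤ K → tsc G ≤ kc G r

/-- `⟨g⟩` has one fixed point and regular orbits of length `p` on the cosets of `H` -/
structure PTc (p : ℕ) (H : Subgroup G) (g : G) : Prop where
  mem : g ∈ H
  pw : ∀ y, y⁻¹ * g ^ p * y ∈ H
  emb : ∀ y, y⁻¹ * g * y ∈ H → y ∈ H

variable {S : Subgroup G}

/-- the automorphisms of `P` which agree on `P` with an automorphism of `Q` -/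
def ext (F : FusionSystem S) (P Q : Subgroup G) (hP : P ≤ S) : Subgroup (F.stab P) where
  carrier := {σ | ∃ β, F.Iso Q Q β ∧ ∀ x ∈ P, β x = σ.1 x} ∪ {1}
  one_mem' := Or.inr rfl
  mul_mem' := by
    rintro σ τ (⟨β, h1, h2⟩ | rfl) (⟨γ, h3, h4⟩ | rfl)
    · exact Or.inl ⟨β * γ, h3.trans h1, fun x hx => by
        rw [Perm.mul_apply, h4 x hx, h2 _ (((mem_stab hP).1 τ.2).mem hx)]; rfl⟩
    · exact Or.inl ⟨β, h1, by simpa using h2⟩
    · exact Or.inl ⟨γ, h3, by simpa using h4⟩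
    · exact Or.inr (mul_one 1)
  inv_mem' := by
    rintro σ (⟨β, h1, h2⟩ | rfl)
    · exact Or.inl ⟨β⁻¹, h1.symm, fun x hx => by
        rw [Perm.inv_eq_iff_eq, h2 _ (((mem_stab hP).1 σ⁻¹.2).mem hx)]; simp⟩
    · exact Or.inr inv_one

theorem mem_ext {F : FusionSystem S} {P Q : Subgroup G} {hP : P ≤ S} (hQ : Q ≤ S) {σ : F.stab P} :
    σ ∈ ext F P Q hP ↔ ∃ β, F.Iso Q Q β ∧ ∀ x ∈ P, β x = σ.1 x :=
  ⟨fun h => h.elim id fun h => ⟨1, (mem_stab hQ).1 (one_mem _), fun _ _ => by rw [h]; rfl⟩, Or.inl⟩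

/-- conjugation as an element of `F.stab P` -/
abbrev cg (F : FusionSystem (⊤ : Subgroup G)) {P : Subgroup G} {g : G}
    (hg : g ∈ normalizer (P : Set G)) : F.stab P :=
  ⟨cj g, (F.iso_cj le_top trivial hg).mem_stab⟩

end

/-- slice: the primes `2` and `3` -/
class LOW : Prop where
  out : ∀ {p m : ℕ} [Fact p.Prime] {G : Type u} [Group G] [Finite G]
    {F : FusionSystem (⊤ : Subgroup G)}, p ≤ 3 → MC p m G → F.IsSaturated p → Res p m F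

/-- the core: no essential subgroup inside `γ_1` which is not normal -/
class CORE : Prop where
  out : ∀ {p m : ℕ} [Fact p.Prime] {G : Type u} [Group G] [Finite G]
    {F : FusionSystem (⊤ : Subgroup G)} {E : Subgroup G}, 5 ≤ p → MC p m G → F.IsSaturated p →
    F.IsEssential p E → E ≤ tsc G → ¬ E.Normal →
    (∀ R, F.IsEssential p R → Nat.card E < Nat.card (R ⊓ tsc G : Subgroup G) → R = tsc G) → False

/-- slice: normal subgroups, `p`-th powers and commutators in a group of maximal class -/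
class WIN : Prop where
  nrm : ∀ {p m : ℕ} [Fact p.Prime] {G : Type u} [Group G] [Finite G], 5 ≤ p → MC p m G →
    ∀ {N : Subgroup G} {s : G}, N ≤ tsc G → s ∉ tsc G → s ∈ normalizer (N : Set G) →
      flt G (m + 2) ≤ N ∨ s ∉ kc G (m + 1) → ∃ j ≤ m + 3, N = flt G j
  win : ∀ {p m : ℕ} [Fact p.Prime] {G : Type u} [Group G] [Finite G], 5 ≤ p → MC p m G →
    ∀ {K : ℕ} {x : G}, K ≤ m + 3 → x ∈ tsc G → x ^ p ∈ flt G K →
      x ∈ flt G (K + 1 - p) ∨ (K = p ∧ m + 3 = p)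
  com : ∀ {p m : ℕ} [Fact p.Prime] {G : Type u} [Group G] [Finite G], 5 ≤ p → MC p m G →
    ∀ {K a b : ℕ} {x y : G}, NX G K → a + b + 2 ≤ K → x ∈ flt G a → y ∈ flt G b →
      ⁅x, y⁆ ∈ flt G (a + b + 2)
  pair : ∀ {p m : ℕ} [Fact p.Prime] {G : Type u} [Group G] [Finite G], 5 ≤ p → MC p m G →
    ¬ tsc G ≤ kc G (m + 1) → ∀ {a b : ℕ} {x y : G}, a + b = m + 1 → x ∈ flt G a →
      x ∉ flt G (a + 1) → y ∈ flt G b → y ∉ flt G (b + 1) → ⁅x, y⁆ ≠ 1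

/-- slice: the weights of the automorphisms -/
class WTS : Prop where
  zero : ∀ {p m : ℕ} [Fact p.Prime] {G : Type u} [Group G] [Finite G], 5 ≤ p → MC p m G →
    ∀ {K : ℕ}, K ≤ m + 3 → NX G K → ∀ α : G ≃* G, ∃ r t : ℤ, ¬ (p : ℤ) ∣ r ∧ ¬ (p : ℤ) ∣ t ∧
      (∀ s, Wt α (tsc G) s r) ∧ ∀ j < K, ∀ x ∈ flt G j, Wt α (flt G (j + 1)) x (r ^ j * t)
  out : ∀ {p m : ℕ} [Fact p.Prime] {G : Type u} [Group G] [Finite G], 5 ≤ p → MC p m G →
    ∀ {K : ℕ}, K ≤ m + 3 → NX G K → ¬ ⁅tsc G, tsc G⁆ ≤ flt G K → ∃ e : ℕ, ∀ α : G ≃* G, ∃ r : ℤ,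
      ¬ (p : ℤ) ∣ r ∧ (∀ s, Wt α (tsc G) s r) ∧
      (∀ j < K, ∀ x ∈ flt G j, Wt α (flt G (j + 1)) x (r ^ (j + e))) ∧
      (K = m + 2 → ¬ tsc G ≤ kc G (m + 1) → ∀ x ∈ flt G (m + 2), Wt α ⊥ x (r ^ (m + 1 + 2 * e)))

/-- slice: quadratic action -/
class QA : Prop where
  out : ∀ {p m : ℕ} [Fact p.Prime] {G : Type u} [Group G] [Finite G], 5 ≤ p → MC p m G →
    ∀ {K i : ℕ} {g w : G}, K ≤ m + 3 → NX G K → 1 ≤ i → g ∈ flt G i → w ∈ tsc G → w ^ p ∈ flt G K →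
      (∀ y ∈ flt G (i + 1), ⁅y, w⁆ ∈ flt G K) → ⁅⁅w, g⁆, g⁆ ∈ flt G K

/-- slice: the strongly embedded subgroups -/
class RED : Prop where
  ess : ∀ {p m : ℕ} [Fact p.Prime] {G : Type u} [Group G] [Finite G]
    {F : FusionSystem (⊤ : Subgroup G)} {E : Subgroup G}, 5 ≤ p → MC p m G → F.IsSaturated p →
    F.IsEssential p E → E ≤ tsc G → ¬ E.Normal →
    (∀ R, F.IsEssential p R → Nat.card E < Nat.card (R ⊓ tsc G : Subgroup G) → R = tsc G) →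
    ∀ {g : G} (hg : g ∈ normalizer (E : Set G)), g ∉ E → g ^ p ∈ E →
      PTc p (ext F E (tsc G) le_top) (cg F hg)
  top : ∀ {p m : ℕ} [Fact p.Prime] {G : Type u} [Group G] [Finite G]
    {F : FusionSystem (⊤ : Subgroup G)}, 5 ≤ p → MC p m G → F.IsSaturated p →
    ∀ {s : G} (hs : s ∈ normalizer ((tsc G : Subgroup G) : Set G)), s ∉ tsc G →
      PTc p (ext F (tsc G) ⊤ le_top) (cg F hs)

/-- slice: the centre of an exceptional group -/
class EXC : Prop where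
  out : ∀ {p m : ℕ} [Fact p.Prime] {G : Type u} [Group G] [Finite G]
    {F : FusionSystem (⊤ : Subgroup G)} {E : Subgroup G}, 5 ≤ p → MC p m G → F.IsSaturated p →
    F.IsEssential p E → E ≤ tsc G → ¬ tsc G ≤ kc G (m + 1) → ∀ {i : ℕ} {g : G}, 1 ≤ i →
    g ∈ flt G i → g ∉ E → flt G (i + 1) ≤ E → ¬ E ≤ flt G i → ∀ hg : g ∈ normalizer (E : Set G),
    PTc p (ext F E (tsc G) le_top) (cg F hg) →
    (∀ β, F.Iso (tsc G) (tsc G) β → ∃ α, F.Iso ⊤ ⊤ α ∧ ∀ x ∈ tsc G, α x = β x) ∨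
      ⁅tsc G, tsc G⁆ ≤ flt G (m + 2) → F.AInv E (flt G (m + 2))

end Cfsg.Agent.M7
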