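import Cfsg.Agent.M7.V

/-! Linear algebra slices for `S5267` (see notes/m7.md). -/

set_option autoImplicit false

namespace Cfsg.Agent.M7

open Module

universe u

/-- slice: a quadratic element and a flag with weights `r ^ (a - j)` -/
class LF : Prop where
  out : ∀ {p : ℕ} [Fact p.Prime] {Γ V : Type u} [Group Γ] [Finite Γ] [AddCommGroup V] [Finite V]
    [Module (ZMod p) V] {ρ : Γ →* End (ZMod p) V} {H : Subgroup Γ} {g : Γ} {r : Γ → ZMod p} {a : ℕ}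
    {U : ℕ → Submodule (ZMod p) V} {b₀ b₁ : V}, 5 ≤ p → PTc p H g → (ρ g - 1) ^ 2 = 0 →
    (∀ h, r h ≠ 0) → Monotone U → U 0 = ⊥ → U 1 = Submodule.span (ZMod p) {b₀} →
    U 2 = U 1 ⊔ Submodule.span (ZMod p) {b₁} → b₀ ≠ 0 → b₁ ∉ U 1 → U p = ⊤ →
    (∀ h ∈ H, ∀ j, ∀ v ∈ U (j + 1), ρ h v - (r h ^ a * (r h)⁻¹ ^ j) • v ∈ U j) →
    (∀ v ∈ U 3, ρ g v = v) →
    (∀ y, ∀ v ∈ U 1, ρ y v ∈ U 1) ∨ ∀ y, ∀ v ∈ U 2, ρ y v ∈ U 2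

/-- slice: small uniserial modules -/
class SM : Prop where
  out : ∀ {p : ℕ} [Fact p.Prime] {Γ V : Type u} [Group Γ] [Finite Γ] [AddCommGroup V] [Finite V]
    [Module (ZMod p) V] {ρ : Γ →* End (ZMod p) V} {N : Subgroup Γ} {x : Γ} {r : Γ → ZMod p}
    {a d e c : ℕ} {U : ℕ → Submodule (ZMod p) V} {θ : Γ →* ZMod p}, 5 ≤ p → PTc p N x →
    (∀ h, r h ≠ 0) → e * c = p - 1 → θ x = 1 → (∀ h ∈ N, θ h = r h ^ e) → 2 ≤ d → 2 * d ≤ p - 1 →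
    Monotone U → U 0 = ⊥ → U d = ⊤ → (∀ j < d, U j ≠ U (j + 1)) →
    (∀ j, ∀ v ∈ U (j + 1), (ρ x - 1) v ∈ U j) →
    (∀ j, j + 2 ≤ d → ∀ v ∈ U (j + 2), (ρ x - 1) v ∈ U j → v ∈ U (j + 1)) →
    (∀ h ∈ N, ∀ j < d, ∀ v ∈ U (j + 1), ρ h v - (r h ^ a * (r h)⁻¹ ^ j) • v ∈ U j) →
    (∀ h ∈ N, ρ h * ρ x = ρ x ^ (r h).val * ρ h) →
    c ≤ 2 ∨ ∃ t, 0 < t ∧ t < d ∧ ∀ y, ∀ v ∈ U t, ρ y v ∈ U t

end Cfsg.Agent.M7
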