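import Cfsg.Agent.M7.B2

/-! The core of `S5267`. -/

set_option autoImplicit false
set_option linter.unusedSectionVars false

namespace Cfsg.Agent.M7

open Equiv Cfsg.Fus Cfsg.FusionSystem Subgroup Cfsg.Agent.H1 Cfsg.Agent.M9 Module
open scoped commutatorElement

universe u

variable {p m : ℕ} [hp : Fact p.Prime] {G : Type u} [Group G] [Finite G]
  {F : FusionSystem (⊤ : Subgroup G)} {E : Subgroup G} {g s w x : G} {K K₀ a b d i j n e e₀ c : ℕ}
  {r : F.stab (tsc G) → ZMod p} {V : Type u} [AddCommGroup V] [Finite V] [Module (ZMod p) V]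
  {π : G → V}

theorem Lin.finrank_eq {X : Type*} [Group X] {μ : X →* Perm G} {ρ : X →* End (ZMod p) V}
    (L : Lin μ (flt G a) (flt G b) π ρ) (h : MC p m G) (hab : a ≤ b) (hb : b ≤ m + 3) :
    finrank (ZMod p) V = b - a := by
  have := L.card
  rw [h.card_flt (a := a) (b := m + 3 - a) (by omega), h.card_flt (a := b) (b := m + 3 - b) (by omega),
    ← pow_add] at this
  have := Nat.pow_right_injective hp.out.two_le this
  omega

/-- the setting -/
structure Cx (F : FusionSystem (⊤ : Subgroup G)) (p m : ℕ) [Fact p.Prime] (E : Subgroup G) (g : G)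
    (i : ℕ) : Prop where
  mc : MC p m G
  p5 : 5 ≤ p
  sat : F.IsSaturated p
  ess : F.IsEssential p E
  le : E ≤ tsc G
  nn : ¬ E.Normal
  i1 : 1 ≤ i
  gm : g ∈ flt G i
  gE : g ∉ E
  fl : flt G (i + 1) ≤ E
  hg : g ∈ normalizer (E : Set G)
  pt : PTc p (ext F E (tsc G) le_top) (cg F hg)

/-- the next term of the chain -/
def Nxt (F : FusionSystem (⊤ : Subgroup G)) (E : Subgroup G) (g : G) (K : ℕ) : Prop :=
  ∃ j < K, flt G j ≤ E ∧ F.AInv E (flt G j) ∧ F.AInv (tsc G) (flt G j) ∧ ∀ x ∈ flt G j, ⁅x, g⁆ ∈ flt G K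

namespace Cx

variable (C : Cx F p m E g i) {ρ : F.stab E →* End (ZMod p) V}
include C

theorem p2 : p ≠ 2 := by have := C.p5; omega

theorem gt : g ∈ tsc G := flt_anti (Nat.zero_le i) C.gm

theorem lt_of (h : flt G a ≤ E) : i < a := not_le.1 fun e => C.gE (h (flt_anti e C.gm))

theorem im : i ≤ m + 2 := not_lt.1 fun e => C.gE (by
  rw [mem_bot.1 ((flt_bot C.mc e).le C.gm)]; exact one_mem _)

theorem nle' : ¬ E ≤ flt G i := fun h => by
  refine C.nn ?_
  rw [le_antisymm (fun x hx => by_contra fun e => C.gE ((sup_le C.fl (zpowers_le.2 hx))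
    ((C.mc.sup_eq C.im (h hx) e).ge C.gm))) C.fl]
  infer_instance

theorem exists_β : ∃ β : F.stab E → F.stab (tsc G), ∀ h ∈ ext F E (tsc G) le_top,
    ∀ x ∈ E, (β h).1 x = h.1 x := by
  classical
  exact ⟨fun h => if e : h ∈ ext F E (tsc G) le_top then
    ⟨_, ((mem_ext le_top).1 e).choose_spec.1.mem_stab⟩ else 1, fun h e => by
      simpa only [dif_pos e] using ((mem_ext le_top).1 e).choose_spec.2⟩

theorem lin (hK : i < K) (iE : F.AInv E (flt G K)) : ∃ (V : Type u) (_ : AddCommGroup V)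
    (_ : Finite V) (_ : Module (ZMod p) V) (π : G → V) (ρ : F.stab E →* End (ZMod p) V),
    Lin (F.stab E).subtype (opc p E (flt G K)) (flt G K) π ρ :=
  exists_lin _ (fun x hx => mem_opc.2 ⟨C.fl (flt_anti hK hx), fun y _ => comm_mem_right _ y hx,
      pow_mem hx p⟩) (fun x hx y hy => (mem_opc.1 hy).2.1 x (mem_opc.1 hx).1)
    (fun x hx => (mem_opc.1 hx).2.2)
    (fun σ => ((mem_stab le_top).1 σ.2).homOn.mono fun x hx => (mem_opc.1 hx).1)
    (fun σ => aInv_opc (aInv_self F E) iE le_rfl _ ((mem_stab le_top).1 σ.2))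
    fun σ => iE _ ((mem_stab le_top).1 σ.2)

variable (L : Lin (F.stab E).subtype (opc p E (flt G K)) (flt G K) π ρ)
include L

theorem quad (hq : ∀ w ∈ opc p E (flt G K), ⁅⁅w, g⁆, g⁆ ∈ flt G K) : (ρ (cg F C.hg) - 1) ^ 2 = 0 :=
  LinearMap.ext fun v => by
    obtain ⟨w, hw, rfl⟩ := L.surj v
    have h1 := L.comm (σ := cg F C.hg) (g := g) (fun _ _ => rfl) hw
    have h2 := L.comm (σ := cg F C.hg) (g := g) (fun _ _ => rfl) h1.1
    rw [pow_two, End.mul_apply, h1.2, h2.2]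
    refine (L.zero _ h2.1).2 ?_
    convert (flt_normal K).conj_mem _ (hq w hw) ⁅w, g⁆⁻¹ using 1
    simp only [commutatorElement_def]
    group

theorem quad' [QA.{u}] (hK : K ≤ m + 3) (hN : NX G K) : (ρ (cg F C.hg) - 1) ^ 2 = 0 :=
  C.quad L fun _ hw => QA.out C.p5 C.mc hK hN C.i1 C.gm (C.le (mem_opc.1 hw).1) (mem_opc.1 hw).2.2
    fun y hy => (mem_opc.1 hw).2.1 y (C.fl hy)

theorem inv_det (B : BD F p m K₀ s e₀ r) (hc : e * c = p - 1) (he : ∀ a, Ex r a → e ∣ a)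
    (S : Sc F p d K) (hK : K ≤ K₀ ∨ d = m + 2 ∧ K = m + 3) (hd : i < d)
    (hq : (ρ (cg F C.hg) - 1) ^ 2 = 0) (hn : K - d ≤ n ∨ finrank (ZMod p) V ≤ n + (K - d))
    (hc' : c * n + 2 ≤ p) : F.AInv E (flt G d) := by
  have ub := B.ub
  have p5 := C.p5
  have hD : flt G d ≤ opc p E (flt G K) := fun x hx => mem_opc.2 ⟨C.fl (flt_anti hd hx),
    fun y hy => S.cm x hx y (C.le hy), S.pw x hx⟩
  obtain ⟨V₀, _, _, _, π₀, ρ₀, L₀⟩ := S.lin
  obtain ⟨ι, i1, i2, i3⟩ := L.exists_incl L₀ hD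
  obtain ⟨β, hβ⟩ := C.exists_β
  have h1 := fun h hh => i3 h (β h) fun x hx => hβ h hh x (C.fl (flt_anti hd hx))
  have h0 := L₀.finrank_eq C.mc S.le (by omega)
  have h2 : finrank (ZMod p) V₀ ≤ n ∨
      finrank (ZMod p) (LinearMap.range (ρ (cg F C.hg) - 1)) ≤ n := hn.imp h0.le.trans fun h => by
    have h3 := (ρ (cg F C.hg) - 1).finrank_range_add_finrank_ker
    have h4 : LinearMap.range ι ≤ LinearMap.ker (ρ (cg F C.hg) - 1) := by
      rw [i2]
      rintro _ ⟨x, h5, h6, rfl⟩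
      have := L.comm (σ := cg F C.hg) (g := g) (fun _ _ => rfl) h5
      exact this.2.trans ((L.zero _ this.1).2 (S.cm x h6 g C.gt))
    have h5 := Submodule.finrank_mono h4
    rw [LinearMap.finrank_range_of_inj i1] at h5
    omega
  obtain ⟨c, rfl⟩ : ∃ k, c = k + 1 := ⟨c - 1, by
    rcases c with _ | c
    · omega
    · rfl⟩
  intro τ hτ x hx
  refine L.inv_of (σ := ⟨τ, hτ.mem_stab⟩) hD (flt_anti S.le) (fun v hv => ?_) hx
  rw [← i2] at hv ⊢
  obtain ⟨v, rfl⟩ := hv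
  exact C.pt.det hq h1 h2 i1 ((nz_det hq h1 h2 i1).pow c) (fun h _ => by
    rw [← pow_succ', B.det_pow hc he L₀ S.le hK]) (by rw [Nat.succ_mul] at hc'; omega) _ v

omit L

theorem stepF [QA.{u}] [LF.{u}] (B : BD F p m K₀ s e₀ r) (hK : K ≤ K₀) (hN : NX G K) (hi : i < K)
    (hf : ∀ β, β ∈ ext F (tsc G) ⊤ le_top) (iE : F.AInv E (flt G K))
    (hne : ¬ ∀ x ∈ E, ⁅x, g⁆ ∈ flt G K) : Nxt F E g K := by
  have ub := B.ub
  have p5 := C.p5
  have i1 := C.i1
  have h1 : ∀ x ∈ flt G (K - 2), ∀ y ∈ tsc G, ⁅x, y⁆ ∈ flt G K := fun x hx y hy =>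
    flt_anti (by omega) (mem_cMod.1 (hN (K - 2) (by omega) hy) x hx)
  have h2 : i < K - 2 := not_le.1 fun e => hne fun x hx =>
    comm_mem_symm (h1 g (flt_anti e C.gm) x (C.le hx))
  have hD : flt G (K - 2) ≤ opc p E (flt G K) := fun x hx => mem_opc.2 ⟨C.fl (flt_anti h2 hx),
    fun y hy => comm_mem_symm (h1 x hx y (C.le hy)),
    flt_anti (by omega) (pow_mem_flt (a := K - 3) C.mc C.p2 (flt_anti (by omega) hx))⟩
  obtain ⟨V, _, _, _, π, ρ, L⟩ := C.lin hi iE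
  obtain ⟨β, hβ⟩ := C.exists_β
  obtain ⟨b₀, e1, n1⟩ := L.fl_step (j := 0) C.mc (by omega) (by omega)
    ((flt_anti (by omega)).trans hD)
  obtain ⟨b₁, e2, n2⟩ := L.fl_step (j := 1) C.mc (by omega) (by omega) hD
  rw [L.fl_zero] at e1 n1
  have key : ∀ j, 0 < j → j ≤ 2 → (∀ y, ∀ v ∈ L.fl j, ρ y v ∈ L.fl j) → Nxt F E g K :=
    fun j j0 j2 h => ⟨K - j, by omega, (flt_anti (by omega)).trans C.fl, fun τ hτ x hx =>
      L.inv_of (σ := ⟨τ, hτ.mem_stab⟩) ((flt_anti (by omega)).trans hD) (flt_anti (by omega)) (h _) hx,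
      fun τ hτ x hx => by
        obtain ⟨α, h3, h4⟩ := (mem_ext le_rfl).1 (hf ⟨τ, hτ.mem_stab⟩)
        exact h4 x (flt_anti (Nat.zero_le _) hx) ▸ W2.map_flt (toAut h3) _ x hx,
      fun x hx => h1 x (flt_anti (by omega) hx) g C.gt⟩
  refine (LF.out (U := L.fl) (r := fun h => r (β h)) (a := K - 1 + e₀) p5 C.pt
    (C.quad' L (by omega) hN) (fun _ => B.ne _) L.fl_mono L.fl_zero (e1.trans (bot_sup_eq _)) e2 n1 n2
    (L.sub_top fun x hx => ?_) (fun h hh j v hv => ?_) ?_).elim (key 1 one_pos one_le_two)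
      (key 2 two_pos le_rfl)
  · exact (W2.win C.p2 C.mc (by omega) (C.le (mem_opc.1 hx).1) (mem_opc.1 hx).2.2).elim
      (fun e => flt_anti (by omega) e) fun e => flt_anti (b := 0) (by omega) (C.le (mem_opc.1 hx).1)
  · by_cases hj : j < K
    · exact L.fl_wt (B.ne _) hj (fun x hx hx' => by
        have := B.wt _ (hf (β h)) _ (by omega) x hx'
        rwa [hβ h hh x (mem_opc.1 hx).1] at this) hv
    · rw [Lin.fl, L.sub_top fun x hx => flt_anti (b := 0) (by omega) (C.le (mem_opc.1 hx).1)]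
      trivial
  · rintro _ ⟨x, h3, h4, rfl⟩
    have := L.comm (σ := cg F C.hg) (g := g) (fun _ _ => rfl) h3
    exact sub_eq_zero.1 (this.2.trans ((L.zero _ this.1).2 (flt_anti (by omega)
      (W2.com (a := 1) C.mc hN (by omega) (flt_anti i1 C.gm) h4))))

omit C in
theorem c_le (B : BD F p m K₀ s e₀ r) (hG : F.IsEssential p (tsc G)) (hc : e * c = p - 1)
    (he : Ex r e) : 2 * c ≤ p - 1 := by
  have := B.p5
  rcases e with _ | _ | e
  · omega
  · exact absurd he (B.not_ex hG)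
  · nlinarith

theorem edge (hT : flt G K = ⊥) (h0 : E ≤ opc p E (flt G K))
    (h3 : Nat.card (tsc G) ≤ p * Nat.card E) :
    Nat.card E ≤ p * Nat.card (opc p (tsc G) (flt G K)) := by
  have hG := MC.pt C.mc
  have h1 : ∀ x ∈ E, ∀ y ∈ E, ⁅x, y⁆ = 1 := fun x hx y hy => hT.le ((mem_opc.1 (h0 hy)).2.1 x hx)
  obtain ⟨s, h4, h5⟩ := exists_unif C.mc C.p2
  obtain ⟨u, hu, h6⟩ : ∃ u ∈ E, s * u * s⁻¹ ∉ E := by
    by_contra! h
    obtain ⟨j, -, rfl⟩ := W2.nrm C.p2 C.mc C.le h4 (mem_normalizer_of_finite h)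
      (.inr (h5 _ (by omega)))
    exact C.nn inferInstance
  have h7 := eq_sup_of_card hG C.le le_top h3 ((cMod_normal _ _).conj_mem u (C.le hu) s) h6
  have h8 : Nat.card (tsc G) ≤ p * Nat.card (E.map (MulAut.conj s).toMonoidHom) := by
    rwa [card_map_of_injective (MulAut.conj s).injective]
  have h9 : E.map (MulAut.conj s).toMonoidHom ≤ tsc G := by
    rintro _ ⟨x, hx, rfl⟩
    exact (cMod_normal _ _).conj_mem x (C.le hx) s
  refine le_trans ?_ (Nat.mul_le_mul_left p (card_le_of_le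
    (H := E ⊓ E.map (MulAut.conj s).toMonoidHom) fun x hx => mem_opc.2
      ⟨C.le hx.1, fun y hy => hT.ge ?_, (mem_opc.1 (h0 hx.1)).2.2⟩))
  · exact card_le_of_relIndex ((relIndex_le_of_le_right C.le index_ne_zero_of_finite).trans
      (relIndex_le_of_card h9 h8))
  · refine comm_one_of_sup (fun a ha => h1 a ha x hx.1) ?_ y (h7.ge hy)
    obtain ⟨z, hz, rfl⟩ := hx.2
    rw [← MulAut.conj_apply, MulEquiv.coe_toMonoidHom, ← map_commutatorElement, h1 u hu z hz, map_one]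

theorem stepE [QA.{u}] [SM.{u}] (B : BD F p m K₀ s e₀ r) (hK : K ≤ K₀) (hN : NX G K) (hi : i < K)
    (hG : F.IsEssential p (tsc G)) (iE : F.AInv E (flt G K)) (iB : F.AInv (tsc G) (flt G K))
    (hne : ¬ ∀ x ∈ E, ⁅x, g⁆ ∈ flt G K) : Nxt F E g K := by
  have ub := B.ub
  have p5 := C.p5
  have i1 := C.i1
  have lvl : ∀ k ≤ K, 3 ≤ k → ∀ d ≤ m + 3, opc p (tsc G) (flt G k) = flt G d → d + 2 ≤ k :=
    fun k hk k2 d hd e => by
    have := (flt_le_iff C.mc hd).1 fun x (hx : x ∈ flt G (k - 2)) => e.le (mem_opc.2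
      ⟨flt_anti (Nat.zero_le _) hx, fun y hy => comm_mem_symm (flt_anti (by omega)
        (mem_cMod.1 (hN (k - 2) (by omega) hy) x hx)),
        flt_anti (by omega) (pow_mem_flt (a := k - 3) C.mc C.p2 (flt_anti (by omega) hx))⟩)
    omega
  have K3 : i + 1 < K := not_le.1 fun e => hne fun x _ =>
    flt_anti e (comm_mem_symm (comm_mem_flt C.gm x))
  obtain ⟨d, hd, e1, S⟩ := exists_sc C.mc C.p2 iB
  replace S := S (by omega)
  have dK := lvl K le_rfl (by omega) d hd e1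
  have id : i < d := not_le.1 fun e => hne fun x hx => S.cm g (flt_anti e C.gm) x (C.le hx)
  have hD : flt G d ≤ opc p E (flt G K) := fun x hx => mem_opc.2 ⟨C.fl (flt_anti id hx),
    fun y hy => S.cm x hx y (C.le hy), S.pw x hx⟩
  obtain ⟨a, ia, ha, hw⟩ : ∃ a, F.AInv (tsc G) (flt G a) ∧ opc p E (flt G K) ≤ flt G a ∧
      (a = K + 1 - p ∨ a = 0 ∧ K = p ∧ m + 3 = p) := by
    by_cases h : K = p ∧ m + 3 = p
    · exact ⟨0, aInv_self F _, fun x hx => C.le (mem_opc.1 hx).1, .inr ⟨rfl, h⟩⟩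
    refine ⟨_, ?_, fun x hx => (W2.win C.p2 C.mc (by omega) (C.le (mem_opc.1 hx).1)
      (mem_opc.1 hx).2.2).resolve_right h, .inl rfl⟩
    by_cases h' : K + 1 - p = 0
    · rw [h']; exact aInv_self F _
    intro τ hτ x hx
    have h1 : x ∈ tsc G := flt_anti (Nat.zero_le _) hx
    refine (W2.win C.p2 C.mc (by omega) (hτ.mem h1) ?_).resolve_right h
    rw [← hτ.homOn.map_pow h1]
    exact iB τ hτ _ (flt_anti (by omega) (pow_mem_flt (a := K - p) C.mc C.p2 (flt_anti (by omega) hx)))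
  have ad : a ≤ d := (flt_le_iff C.mc (by omega)).1 (hD.trans ha)
  by_cases hΩ : flt G a ≤ opc p E (flt G K)
  · obtain ⟨j, -, h1⟩ := eq_flt' C.mc C.p2 inf_le_left
      (aInv_cMod (aInv_self F _) ia iB le_rfl (flt_anti (Nat.zero_le a)))
    have h2 : j ≤ i := not_lt.1 fun e => C.nle' fun x hx => flt_anti e.le (h1.le ⟨C.le hx,
      mem_cMod.2 fun y hy => comm_mem_symm ((mem_opc.1 (hΩ hy)).2.1 x hx)⟩)
    exact ⟨a, by omega, fun x hx => (mem_opc.1 (hΩ hx)).1,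
      le_antisymm ha hΩ ▸ aInv_opc (aInv_self F E) iE le_rfl, ia,
      mem_cMod.1 (h1.ge (flt_anti h2 C.gm)).2⟩
  obtain ⟨V, _, _, _, π, ρ, L⟩ := C.lin hi iE
  obtain ⟨e, c, hc, he, he'⟩ := B.exists_e
  have c2 := c_le B hG hc he
  have h1 := L.card
  have h2 := mul_card_le C.mc.pg ha hΩ
  rw [C.mc.card_flt (a := K) (b := m + 3 - K) (by omega), ← pow_add] at h1
  rw [← h1, C.mc.card_flt (a := a) (b := m + 3 - a) (by omega), ← pow_succ',
    Nat.pow_le_pow_iff_right hp.out.one_lt] at h2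
  suffices ∃ n, (K - d ≤ n ∨ finrank (ZMod p) V ≤ n + (K - d)) ∧ c * n + 2 ≤ p from
    this.elim fun n h => ⟨d, by omega, (flt_anti id).trans C.fl, C.inv_det L B hc he' S (.inl hK) id
      (C.quad' L (by omega) hN) h.1 h.2, S.ia, fun x hx => comm_mem_symm (S.cm x hx g C.gt)⟩
  by_cases h3 : finrank (ZMod p) V ≤ 1 + (K - d)
  · exact ⟨1, .inr h3, by omega⟩
  have h4 : c ≤ 2 := by
    obtain ⟨d', hd', e2, S'⟩ := exists_sc C.mc C.p2 S.ia
    replace S' := S' hd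
    have := lvl d (by omega) (by omega) d' hd' e2
    have := hp.out.eq_two_or_odd
    by_cases h : 2 * (K - d) ≤ p - 1
    · exact B.small hG hc he he' (K - d) d K (by omega) S hK (by omega) h
    by_cases h' : a ≤ d'
    · exact B.small hG hc he he' (d - d') d' d (by omega) S' (by omega) (by omega) (by omega)
    · exact B.small hG hc he he' (d - a) a d (by omega) (S'.split (by omega) ad ia).2 (by omega)
        (by omega) (by omega)
  have h5 : finrank (ZMod p) V + 2 ≤ p := by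
    by_contra h
    obtain ⟨rfl, h5, h6⟩ := hw.resolve_left (by omega)
    have h7 : Nat.card (tsc G) ≤ p * Nat.card (opc p E (flt G K)) := by
      rw [← h1, C.mc.card_tsc, ← pow_succ', Nat.pow_le_pow_iff_right hp.out.one_lt]; omega
    have h8 : opc p E (flt G K) ≤ E := fun x hx => (mem_opc.1 hx).1
    have h9 := mul_card_le C.mc.pg C.le fun e => C.gE (e C.gt)
    have h10 := eq_of_le_of_card_ge h8 (Nat.le_of_mul_le_mul_left (h9.trans h7) hp.out.pos)
    have := (card_le_of_le h8).trans (C.edge (flt_bot C.mc (by omega)) h10.ge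
      (h7.trans (Nat.mul_le_mul_left p (card_le_of_le h8))))
    rw [← h1, e1, C.mc.card_flt (a := d) (b := m + 3 - d) (by omega), ← pow_succ',
      Nat.pow_le_pow_iff_right hp.out.one_lt] at this
    omega
  refine ⟨min (K - d) (finrank (ZMod p) V - (K - d)), by omega, ?_⟩
  have := Nat.mul_le_mul_right (min (K - d) (finrank (ZMod p) V - (K - d))) h4
  omega

theorem exc [RED.{u}] [EXC.{u}] (hx : ¬ tsc G ≤ kc G (m + 1)) (hi : i < m + 2) :
    F.AInv E (flt G (m + 2)) := by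
  have p5 := C.p5
  by_cases hG : F.IsEssential p (tsc G)
  swap
  · exact EXC.out p5 C.mc C.sat C.ess C.le hx C.i1 C.gm C.gE C.fl C.nle' C.hg C.pt
      (.inl fun _ => exists_ext_top C.sat (MC.pt C.mc) hG C.mc.index_tsc)
  by_cases hA : ⁅tsc G, tsc G⁆ ≤ flt G (m + 2)
  · exact EXC.out p5 C.mc C.sat C.ess C.le hx C.i1 C.gm C.gE C.fl C.nle' C.hg C.pt (.inr hA)
  obtain ⟨s, e₀, r, B⟩ := exists_bd C.mc p5 C.sat (by omega) (.inr ⟨rfl, hx⟩)
    (W2.nx C.p2 C.mc le_rfl) hA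
  have b0 := flt_bot C.mc (le_refl (m + 3))
  have i0 : ∀ P : Subgroup G, F.AInv P (flt G (m + 3)) := fun P τ hτ x hx => by
    rw [mem_bot.1 (b0.le hx), hτ.homOn.map_one]; exact one_mem _
  obtain ⟨V, _, _, _, π, ρ, L⟩ := C.lin (K := m + 3) (by omega) (i0 E)
  obtain ⟨e, c, hc, he, he'⟩ := B.exists_e
  have c2 := c_le B hG hc he
  refine C.inv_det (n := 1) L B hc he' ⟨by omega, bi_top C.mc C.p2 hx, i0 _, fun x hx y _ =>
    comm_mem_symm (comm_mem_flt hx y), fun x => W2.pow_flt C.mc⟩ (.inr ⟨rfl, rfl⟩) hi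
    (C.quad L fun w hw => comm_mem_flt ?_ g) (.inl (by omega)) (by omega)
  obtain ⟨h1, h2, -⟩ := mem_opc.1 hw
  by_cases h0 : w = 1
  · simp [h0]
  obtain ⟨b, h3, h4, h5⟩ := W2.exists_level C.mc (C.le h1) h0
  refine comm_lcs (flt_le_lcs b h4) (flt_le_lcs i C.gm) (not_lt.1 fun e => ?_)
  obtain ⟨y, h6, h7⟩ := C.mc.exists_mem (r := m + 1 - b) (by omega)
  exact W2.pair C.p2 C.mc hx (by omega) h6 h7 h4 h5
    (b0.le (h2 y (C.fl (flt_anti (by omega) h6))))

theorem false [RED.{u}] [QA.{u}] [LF.{u}] [SM.{u}] [EXC.{u}] : ∀ K ≤ m + 3, flt G K ≤ E →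
    F.AInv E (flt G K) → F.AInv (tsc G) (flt G K) → Ch F E g (flt G K) → False := by
  intro K
  induction K using Nat.strong_induction_on with
  | _ K ih =>
  intro hK hE iE iB ch
  have hi := C.lt_of hE
  have hne : ¬ ∀ x ∈ E, ⁅x, g⁆ ∈ flt G K := fun h =>
    C.gE ((ch.step le_rfl (aInv_self F E) h).mem (MC.pt C.mc) C.ess C.hg)
  suffices Nxt F E g K from this.elim fun j ⟨h1, h2, h3, h4, h5⟩ =>
    ih j h1 (by omega) h2 h3 h4 (ch.step h2 h3 h5)
  obtain ⟨K₀, h1, h2, h3, h4⟩ : ∃ K₀ ≤ m + 3, (K₀ = m + 3 ∨ K₀ = m + 2 ∧ ¬ tsc G ≤ kc G (m + 1)) ∧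
      NX G K₀ ∧ (K ≤ K₀ ∨ K = m + 3 ∧ ¬ tsc G ≤ kc G (m + 1)) := by
    by_cases hx : tsc G ≤ kc G (m + 1)
    · refine ⟨_, le_rfl, .inl rfl, fun r hr => ?_, .inl hK⟩
      by_cases h : r = m + 1
      · rwa [h]
      · exact W2.nx C.p2 C.mc le_rfl r (by omega)
    · exact ⟨m + 2, by omega, .inr ⟨rfl, hx⟩, W2.nx C.p2 C.mc le_rfl,
        (le_or_gt K (m + 2)).imp id fun h => ⟨by omega, hx⟩⟩
  rcases h4 with h4 | ⟨rfl, hx⟩
  · obtain ⟨s, e₀, r, B⟩ := exists_bd C.mc C.p5 C.sat h1 h2 h3 fun h => hne fun x hx =>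
      flt_anti h4 (h (commutator_mem_commutator (C.le hx) C.gt))
    have hN : NX G K := fun r hr => h3 r (hr.trans h4)
    by_cases hG : F.IsEssential p (tsc G)
    · exact C.stepE B h4 hN hi hG iE iB hne
    · exact C.stepF B h4 hN hi (fun β => (mem_ext le_rfl).2 (exists_ext_top C.sat (MC.pt C.mc) hG
        C.mc.index_tsc ((mem_stab le_top).1 β.2))) iE hne
  · have : i < m + 2 := not_le.1 fun e => hne fun x _ =>
      flt_anti (by omega) (comm_mem_symm (comm_mem_flt C.gm x))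
    exact ⟨m + 2, by omega, (flt_anti this).trans C.fl, C.exc hx this, bi_top C.mc C.p2 hx,
      fun x hx => comm_mem_flt hx g⟩

end Cx

instance instCORE [RED.{u}] [QA.{u}] [LF.{u}] [SM.{u}] [EXC.{u}] : CORE.{u} where
  out := fun {p m} _ {G} _ _ {F E} hp5 h hF hE hle nn hmax => by
    have b0 := flt_bot h (le_refl (m + 3))
    have i0 : ∀ P : Subgroup G, F.AInv P (flt G (m + 3)) := fun P τ hτ x hx => by
      rw [mem_bot.1 (b0.le hx), hτ.homOn.map_one]; exact one_mem _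
    obtain ⟨i, h1, h2⟩ := W2.exists_last (P := fun j => flt G j ≤ E)
      (fun e => nn (le_antisymm hle e ▸ inferInstance)) (b0.le.trans bot_le)
    obtain ⟨g, h3, h4⟩ := SetLike.not_le_iff_exists.1 h1
    have hg : g ∈ normalizer (E : Set G) :=
      normalizer_of_comm le_top fun x _ => h2 (comm_mem_flt h3 x)
    refine Cx.false ⟨h, hp5, hF, hE, hle, nn, Nat.pos_of_ne_zero ?_, h3, h4, h2, hg,
      RED.ess hp5 h hF hE hle nn hmax hg h4 (h2 (W2.pow_flt h h3))⟩ (m + 3) le_rfl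
      (b0.le.trans bot_le) (i0 _) (i0 _) (b0 ▸ .bot)
    rintro rfl
    exact nn (normal_of_comm_mem fun x _ g => h2 (comm_mem_lcs (k := 0) trivial g))

end Cfsg.Agent.M7
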