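import Cfsg.Agent.M7.J

/-! Elementary abelian sections as modules. -/

set_option autoImplicit false
set_option linter.unusedSectionVars false

namespace Cfsg.Agent.M7

open Equiv Cfsg.Fus Subgroup Cfsg.Agent.H1 Module
open scoped commutatorElement

universe u

variable {p : ℕ} [hp : Fact p.Prime]

/-- `V = D / T` with the action of `X` -/
structure Lin {G X V : Type*} [Group G] [Group X] [AddCommGroup V] [Module (ZMod p) V]
    (μ : X →* Perm G) (D T : Subgroup G) (π : G → V) (ρ : X →* End (ZMod p) V) : Prop where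
  le : T ≤ D
  mul : ∀ x ∈ D, ∀ y ∈ D, π (x * y) = π x + π y
  zero : ∀ x ∈ D, π x = 0 ↔ x ∈ T
  surj : ∀ v, ∃ x ∈ D, π x = v
  mem : ∀ σ, ∀ x ∈ D, μ σ x ∈ D
  act : ∀ σ, ∀ x ∈ D, ρ σ (π x) = π (μ σ x)

/-- endomorphisms of an elementary abelian group as linear maps -/
def homLin (p : ℕ) (M : Type*) [CommGroup M] [Module (ZMod p) (Additive M)] :
    Monoid.End M →* End (ZMod p) (Additive M) where
  toFun α := (MonoidHom.toAdditive α).toZModLinearMap p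
  map_one' := rfl
  map_mul' _ _ := rfl

open scoped IsMulCommutative in
theorem exists_lin {G : Type u} {X : Type*} [Group G] [Finite G] [Group X] (μ : X →* Perm G)
    {D T : Subgroup G} (le : T ≤ D) (hc : ∀ x ∈ D, ∀ y ∈ D, ⁅x, y⁆ ∈ T) (hw : ∀ x ∈ D, x ^ p ∈ T)
    (h1 : ∀ σ, HomOn (μ σ) D) (h2 : ∀ σ, ∀ x ∈ D, μ σ x ∈ D) (h3 : ∀ σ, ∀ x ∈ T, μ σ x ∈ T) :
    ∃ (V : Type u) (_ : AddCommGroup V) (_ : Finite V) (_ : Module (ZMod p) V) (π : G → V)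
      (ρ : X →* End (ZMod p) V), Lin μ D T π ρ := by
  classical
  haveI : (T.subgroupOf D).Normal := ⟨fun x hx g => by
    have := mul_mem (hc g g.2 x x.2) hx
    simpa [commutatorElement_def, mem_subgroupOf] using this⟩
  haveI : IsMulCommutative (D ⧸ T.subgroupOf D) := ⟨⟨fun a b => by
    obtain ⟨a, rfl⟩ := QuotientGroup.mk_surjective a
    obtain ⟨b, rfl⟩ := QuotientGroup.mk_surjective b
    exact comm_mem_iff_mk.1 (hc a a.2 b b.2)⟩⟩
  have one : ∀ x : D, (x : D ⧸ T.subgroupOf D) = 1 ↔ (x : G) ∈ T := fun x =>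
    QuotientGroup.eq_one_iff x
  letI : Module (ZMod p) (Additive (D ⧸ T.subgroupOf D)) :=
    AddCommGroup.zmodModule fun v => by
      obtain ⟨x, hx⟩ := QuotientGroup.mk_surjective (Additive.toMul v)
      rw [← ofMul_toMul v, ← hx, ← ofMul_pow, ofMul_eq_zero]
      exact (one (x ^ p)).2 (hw x x.2)
  let f : X →* Monoid.End (D ⧸ T.subgroupOf D) :=
    { toFun := fun σ => QuotientGroup.map _ _
        ((h1 σ).toHom.codRestrict D fun x => h2 σ x x.2) fun x hx => h3 σ x hx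
      map_one' := QuotientGroup.monoidHom_ext _ (MonoidHom.ext fun x => congrArg QuotientGroup.mk
        (Subtype.ext (by change μ 1 x = x; simp)))
      map_mul' := fun σ τ => QuotientGroup.monoidHom_ext _ (MonoidHom.ext fun x =>
        congrArg QuotientGroup.mk (Subtype.ext (by change μ (σ * τ) x = μ σ (μ τ x); simp))) }
  refine ⟨Additive (D ⧸ T.subgroupOf D), inferInstance, inferInstance, inferInstance,
    fun x => if hx : x ∈ D then Additive.ofMul (⟨x, hx⟩ : D) else 0, (homLin p _).comp f,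
    le, fun x hx y hy => ?_, fun x hx => ?_, fun v => ?_, h2, fun σ x hx => ?_⟩
  · simp only [dif_pos hx, dif_pos hy, dif_pos (D.mul_mem hx hy)]
    rfl
  · simp only [dif_pos hx]
    exact ofMul_eq_zero.trans (one _)
  · obtain ⟨x, hx⟩ := QuotientGroup.mk_surjective (Additive.toMul v)
    exact ⟨x, x.2, by simp only [dif_pos x.2]; exact congrArg Additive.ofMul hx⟩
  · simp only [dif_pos hx, dif_pos (h2 σ x hx)]
    rfl

namespace Lin

variable {G X V : Type*} [Group G] [Group X] [AddCommGroup V] [Module (ZMod p) V]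
  {μ : X →* Perm G} {D T A B : Subgroup G} {π : G → V} {ρ : X →* End (ZMod p) V}
  {x y g : G} {σ : X} {v : V} (L : Lin μ D T π ρ)
include L

/-- `π` as a homomorphism -/
def hom : D →* Multiplicative V :=
  MonoidHom.mk' (fun x => Multiplicative.ofAdd (π x)) fun a b => congrArg _ (L.mul _ a.2 _ b.2)

theorem one : π 1 = 0 := (L.zero 1 D.one_mem).2 T.one_mem

theorem inv (hx : x ∈ D) : π x⁻¹ = -π x := congrArg Multiplicative.toAdd (map_inv L.hom ⟨x, hx⟩)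

theorem zpow (hx : x ∈ D) (n : ℤ) : π (x ^ n) = (n : ZMod p) • π x := by
  rw [Int.cast_smul_eq_zsmul]
  exact congrArg Multiplicative.toAdd (map_zpow L.hom ⟨x, hx⟩ n)

theorem pow (hx : x ∈ D) (n : ℕ) : π (x ^ n) = (n : ZMod p) • π x := by
  simpa using L.zpow hx n

theorem div (hx : x ∈ D) (hy : y ∈ D) : π (x⁻¹ * y) = π y - π x := by
  rw [L.mul _ (inv_mem hx) _ hy, L.inv hx]; abel

theorem eq_iff (hx : x ∈ D) (hy : y ∈ D) : π x = π y ↔ x⁻¹ * y ∈ T := by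
  rw [← L.zero _ (mul_mem (inv_mem hx) hy), L.div hx hy, sub_eq_zero, eq_comm]

/-- the image of `A ⊓ D` -/
def sub (A : Subgroup G) : Submodule (ZMod p) V where
  carrier := {v | ∃ x ∈ D, x ∈ A ∧ π x = v}
  zero_mem' := ⟨1, one_mem _, one_mem _, L.one⟩
  add_mem' := by
    rintro _ _ ⟨x, h1, h2, rfl⟩ ⟨y, h3, h4, rfl⟩
    exact ⟨x * y, mul_mem h1 h3, mul_mem h2 h4, L.mul _ h1 _ h3⟩
  smul_mem' := by
    rintro c _ ⟨x, h1, h2, rfl⟩
    exact ⟨x ^ c.val, pow_mem h1 _, pow_mem h2 _, by rw [L.pow h1, ZMod.natCast_zmod_val]⟩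

theorem mem_sub' : v ∈ L.sub A ↔ ∃ x ∈ D, x ∈ A ∧ π x = v := Iff.rfl

theorem pi_mem (hx : x ∈ D) (h : x ∈ A) : π x ∈ L.sub A := ⟨x, hx, h, rfl⟩

theorem mem_sub (hx : x ∈ D) (hA : T ≤ A) : π x ∈ L.sub A ↔ x ∈ A :=
  ⟨fun ⟨_, h1, h2, h3⟩ => (mul_mem_cancel_left (inv_mem h2)).1 (hA ((L.eq_iff h1 hx).1 h3)),
    L.pi_mem hx⟩

theorem sub_mono (h : A ≤ B) : L.sub A ≤ L.sub B := fun _ ⟨x, h1, h2, h3⟩ => ⟨x, h1, h h2, h3⟩

theorem sub_bot (h : A ≤ T) : L.sub A = ⊥ :=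
  eq_bot_iff.2 fun _ ⟨x, h1, h2, h3⟩ => h3.symm.trans ((L.zero x h1).2 (h h2))

theorem sub_top (h : D ≤ A) : L.sub A = ⊤ :=
  eq_top_iff.2 fun v _ => let ⟨x, h1, h2⟩ := L.surj v; ⟨x, h1, h h1, h2⟩

theorem sub_sup [A.Normal] (hx : x ∈ D) (h : A ⊔ zpowers x = B) :
    L.sub B = L.sub A ⊔ Submodule.span (ZMod p) {π x} := by
  refine le_antisymm ?_ (sup_le (L.sub_mono (le_sup_left.trans h.le)) ((Submodule.span_singleton_le_iff_mem _ _).2
    (L.pi_mem hx (h.le (mem_sup_right (mem_zpowers x))))))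
  rintro _ ⟨y, h1, h2, rfl⟩
  rw [← h, ← SetLike.mem_coe, normal_mul] at h2
  obtain ⟨a, ha, _, ⟨k, rfl⟩, rfl⟩ := h2
  have h3 := (mul_mem_cancel_right (zpow_mem hx k)).1 h1
  rw [L.mul _ h3 _ (zpow_mem hx k), L.zpow hx]
  exact Submodule.add_mem_sup (L.pi_mem h3 ha) (Submodule.smul_mem _ _ (Submodule.mem_span_singleton_self _))

theorem comm (hσ : ∀ x ∈ D, μ σ x = g * x * g⁻¹) (hx : x ∈ D) :
    ⁅g, x⁆ ∈ D ∧ (ρ σ - 1) (π x) = π ⁅g, x⁆ := by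
  have h := L.mem σ x hx
  rw [hσ x hx] at h
  refine ⟨mul_mem h (inv_mem hx), ?_⟩
  rw [commutatorElement_def, L.mul _ h _ (inv_mem hx), L.inv hx, LinearMap.sub_apply, L.act σ x hx,
    hσ x hx, sub_eq_add_neg]
  rfl

theorem wt (hx : x ∈ D) {c : ℤ} (h : (x ^ c)⁻¹ * μ σ x ∈ A) :
    ρ σ (π x) - (c : ZMod p) • π x ∈ L.sub A := by
  rw [L.act σ x hx, ← L.zpow hx, ← L.div (zpow_mem hx c) (L.mem σ x hx)]
  exact L.pi_mem (mul_mem (inv_mem (zpow_mem hx c)) (L.mem σ x hx)) h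

theorem inv_of (hA : A ≤ D) (hT : T ≤ A) (h : ∀ v ∈ L.sub A, ρ σ v ∈ L.sub A) (hx : x ∈ A) :
    μ σ x ∈ A := by
  have := h _ (L.pi_mem (hA hx) hx)
  rwa [L.act σ x (hA hx), L.mem_sub (L.mem σ x (hA hx)) hT] at this

theorem ext {τ : X} (h : ∀ x ∈ D, (μ σ x)⁻¹ * μ τ x ∈ T) : ρ σ = ρ τ := LinearMap.ext fun v => by
  obtain ⟨x, hx, rfl⟩ := L.surj v
  rw [L.act σ x hx, L.act τ x hx, L.eq_iff (L.mem σ x hx) (L.mem τ x hx)]
  exact h x hx

theorem card [Finite V] : p ^ finrank (ZMod p) V * Nat.card T = Nat.card D := by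
  have h1 : L.hom.ker = T.subgroupOf D := Subgroup.ext fun x => L.zero x x.2
  have h2 : L.hom.range = ⊤ := eq_top_iff.2 fun v _ =>
    let ⟨x, h1, h2⟩ := L.surj v.toAdd; ⟨⟨x, h1⟩, congrArg Multiplicative.ofAdd h2⟩
  have h3 := L.hom.ker.index_mul_card
  rw [index_ker, h2, h1, Nat.card_congr (subgroupOfEquivOfLe L.le).toEquiv, card_top] at h3
  rw [← h3, Nat.card_congr Multiplicative.toAdd, Module.natCard_eq_pow_finrank (K := ZMod p) (V := V),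
    Nat.card_zmod]

theorem exists_incl {X₀ V₀ : Type*} [Group X₀] [AddCommGroup V₀] [Module (ZMod p) V₀]
    {μ₀ : X₀ →* Perm G} {D₀ : Subgroup G} {π₀ : G → V₀} {ρ₀ : X₀ →* End (ZMod p) V₀}
    (L₀ : Lin μ₀ D₀ T π₀ ρ₀) (h : D₀ ≤ D) : ∃ ι : V₀ →ₗ[ZMod p] V, Function.Injective ι ∧
      LinearMap.range ι = L.sub D₀ ∧ ∀ σ σ₀, (∀ x ∈ D₀, μ₀ σ₀ x = μ σ x) → ρ σ ∘ₗ ι = ι ∘ₗ ρ₀ σ₀ := by
  choose s s1 s2 using L₀.surj
  have e : ∀ x ∈ D₀, π (s (π₀ x)) = π x := fun x hx =>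
    (L.eq_iff (h (s1 _)) (h hx)).2 ((L₀.eq_iff (s1 _) hx).1 (s2 _))
  refine ⟨(AddMonoidHom.mk' (fun v => π (s v)) fun a b => ?_).toZModLinearMap p,
    fun a b (e' : π (s a) = π (s b)) => ?_, le_antisymm ?_ ?_, fun σ σ₀ hσ => LinearMap.ext fun v => ?_⟩
  · rw [← L.mul _ (h (s1 a)) _ (h (s1 b)), ← e _ (mul_mem (s1 a) (s1 b)), L₀.mul _ (s1 a) _ (s1 b),
      s2, s2]
  · rw [← s2 a, ← s2 b, L₀.eq_iff (s1 a) (s1 b), ← L.eq_iff (h (s1 a)) (h (s1 b)), e']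
  · rintro _ ⟨v, rfl⟩
    exact L.pi_mem (h (s1 v)) (s1 v)
  · rintro _ ⟨x, -, h2, rfl⟩
    exact ⟨π₀ x, e x h2⟩
  · change ρ σ (π (s v)) = π (s (ρ₀ σ₀ v))
    rw [L.act σ _ (h (s1 v)), ← hσ _ (s1 v), ← e _ (L₀.mem σ₀ _ (s1 v)), ← L₀.act σ₀ _ (s1 v), s2]

end Lin

end Cfsg.Agent.M7
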