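import Cfsg.Agent.M7.I
import Cfsg.Agent.M9.D

/-! The trace lemma. -/

set_option autoImplicit false
set_option linter.unusedSectionVars false

namespace Cfsg.Agent.M7

open Module Polynomial Subgroup Cfsg.Agent.H1 Cfsg.Agent.M9

variable {p : ℕ} [hp : Fact p.Prime] {n a b : ℕ}

section PD
variable {f f' : ℕ → ZMod p}

/-- polynomial functions of degree at most `n` -/
def PD (n : ℕ) (f : ℕ → ZMod p) : Prop :=
  ∃ q : (ZMod p)[X], q.natDegree ≤ n ∧ ∀ k : ℕ, f k = q.eval (k : ZMod p)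

theorem PD.mono (h : PD a f) (e : a ≤ b) : PD b f := h.imp fun _ h => ⟨h.1.trans e, h.2⟩

theorem PD.congr (h : PD a f) (e : ∀ k, f' k = f k) : PD a f' := (funext e : f' = f) ▸ h

theorem pd_const (c : ZMod p) : PD n fun _ => c := ⟨C c, by simp, by simp⟩

theorem PD.add (h : PD n f) (h' : PD n f') : PD n fun k => f k + f' k :=
  let ⟨q, h1, h2⟩ := h
  let ⟨q', h3, h4⟩ := h'
  ⟨q + q', natDegree_add_le_of_degree_le h1 h3, fun k => by rw [eval_add, ← h2, ← h4]⟩

theorem PD.mul (h : PD a f) (h' : PD b f') : PD (a + b) fun k => f k * f' k :=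
  let ⟨q, h1, h2⟩ := h
  let ⟨q', h3, h4⟩ := h'
  ⟨q * q', natDegree_mul_le.trans (add_le_add h1 h3), fun k => by rw [eval_mul, ← h2, ← h4]⟩

theorem pd_sum {ι : Type*} (s : Finset ι) {F : ι → ℕ → ZMod p} (h : ∀ i ∈ s, PD n (F i)) :
    PD n fun k => ∑ i ∈ s, F i k := by
  classical
  induction s using Finset.induction_on with
  | empty => simpa using pd_const 0
  | insert i s hi ih =>
    simp only [Finset.sum_insert hi]
    exact (h i (by simp)).add (ih fun j hj => h j (by simp [hj]))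

theorem pd_prod {ι : Type*} (s : Finset ι) {F : ι → ℕ → ZMod p} {d : ι → ℕ}
    (h : ∀ i ∈ s, PD (d i) (F i)) : PD (∑ i ∈ s, d i) fun k => ∏ i ∈ s, F i k := by
  classical
  induction s using Finset.induction_on with
  | empty => simpa using pd_const 1
  | insert i s hi ih =>
    simp only [Finset.sum_insert hi, Finset.prod_insert hi]
    exact (h i (by simp)).mul (ih fun j hj => h j (by simp [hj]))

theorem pd_cast : PD 1 fun k => (k : ZMod p) := ⟨X, by simp, by simp⟩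

theorem pd_choose (h : n < p) : PD n fun k => (k.choose n : ZMod p) := by
  have h1 : (n.factorial : ZMod p) ≠ 0 := fun e =>
    absurd ((hp.out.dvd_factorial).1 ((ZMod.natCast_eq_zero_iff _ _).1 e)) (by omega)
  refine ⟨C (n.factorial : ZMod p)⁻¹ * descPochhammer (ZMod p) n,
    (natDegree_C_mul_le _ _).trans (descPochhammer_natDegree _ _).le, fun k => ?_⟩
  rw [eval_mul, eval_C, descPochhammer_eval_eq_descFactorial,
    Nat.descFactorial_eq_factorial_mul_choose, Nat.cast_mul, inv_mul_cancel_left₀ h1]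

theorem PD.sum_eq (h : PD n f) (hn : n + 2 ≤ p) : ∑ i : Fin p, f i = 0 := by
  obtain ⟨q, h1, h2⟩ := h
  have e : ∑ i : Fin p, f i = ∑ x : ZMod p, q.eval x :=
    Fintype.sum_bijective (fun i : Fin p => ((i : ℕ) : ZMod p))
      ((Fintype.bijective_iff_surjective_and_card _).2 ⟨fun x => ⟨⟨x.val, x.val_lt⟩, by simp⟩,
        by simp⟩) _ _ fun i => h2 i
  simp only [e, eval_eq_sum_range]
  rw [Finset.sum_comm]
  refine Finset.sum_eq_zero fun j hj => ?_
  rw [← Finset.mul_sum, FiniteField.sum_pow_lt_card_sub_one, mul_zero]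
  rw [ZMod.card]
  have := Finset.mem_range.1 hj
  omega

variable {V : Type*} [AddCommGroup V] [Module (ZMod p) V]

theorem pd_pow {A : End (ZMod p) V} (h : (A - 1) ^ (n + 1) = 0) (hn : n < p)
    (l : End (ZMod p) V →ₗ[ZMod p] ZMod p) : PD n fun k => l (A ^ k) := by
  refine (pd_sum (Finset.range (n + 1)) (F := fun j k => (k.choose j : ZMod p) * l ((A - 1) ^ j))
    fun j hj => ((pd_choose (p := p) (n := j) (by have := Finset.mem_range.1 hj; omega)).mul
      (pd_const (n := 0) _)).mono (by have := Finset.mem_range.1 hj; omega)).congr fun k => ?_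
  have e : A ^ k = ∑ j ∈ Finset.range (k + 1), (k.choose j : ZMod p) • (A - 1) ^ j := by
    conv_lhs => rw [← sub_add_cancel A 1, (Commute.one_right _).add_pow]
    refine Finset.sum_congr rfl fun j _ => ?_
    rw [one_pow, mul_one, Nat.cast_smul_eq_nsmul, nsmul_eq_mul, Nat.cast_comm]
  rw [e, map_sum]
  simp only [map_smul, smul_eq_mul]
  rw [Finset.sum_subset (Finset.range_mono (le_max_left (k + 1) (n + 1))),
    Finset.sum_subset (Finset.range_mono (le_max_right (k + 1) (n + 1)))]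
  · intro j _ hj
    rw [pow_eq_zero_of_le (by simpa using hj) h, map_zero, mul_zero]
  · intro j _ hj
    rw [Nat.choose_eq_zero_of_lt (by simpa using hj), Nat.cast_zero, zero_mul]

end PD

variable {Γ : Type*} [Group Γ] [Finite Γ] {H : Subgroup Γ} {g y : Γ} {f f' χ χ' : Γ → ZMod p}

theorem PTc.cs_eq (T : PTc p H g) (hF : ∀ h ∈ H, ∀ x, f (x * h) = f x)
    (hs : ∀ x, ∑ i : Fin p, f (g ^ (i : ℕ) * x) = 0) : M9.cs H f = f 1 := by
  classical
  letI := Fintype.ofFinite (Γ ⧸ H)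
  rw [M9.cs, ← Finset.add_sum_erase _ _ (Finset.mem_univ ((1 : Γ) : Γ ⧸ H)), out_eq hF,
    Finset.sum_cancels_of_partition_cancels (MulAction.orbitRel (zpowers g) (Γ ⧸ H)), add_zero]
  intro q hq
  obtain ⟨x, rfl⟩ := QuotientGroup.mk_surjective q
  have hb : ∀ x : Γ, (x : Γ ⧸ H) ∈ Finset.univ.erase ((1 : Γ) : Γ ⧸ H) ↔ x ∉ H := fun x => by
    simp [QuotientGroup.eq]
  have hK : ∀ u, u ∈ H.comap (MulAut.conj x⁻¹).toMonoidHom ↔ x⁻¹ * u * x ∈ H := fun u => by
    simp [mem_comap]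
  have hp0 : (0 : ℤ) < p := by exact_mod_cast hp.out.pos
  rw [← hs x]
  symm
  refine Finset.sum_bij (fun i _ => ((g ^ (i : ℕ) * x : Γ) : Γ ⧸ H)) (fun i _ => ?_)
    (fun i _ j _ h => ?_) (fun a ha => ?_) (fun i _ => (out_eq hF _).symm)
  · exact Finset.mem_filter.2 ⟨(hb _).2 fun h => (hb x).1 hq
      ((mul_mem_cancel_left (pow_mem T.mem _)).1 h), ⟨⟨_, npow_mem_zpowers g i⟩, rfl⟩⟩
  · by_contra hn
    refine (hb x).1 hq (T.emb x ((hK g).1 (mem_of_zpow_mem (p := p) (k := (j : ℕ) - (i : ℕ))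
      (fun e => hn (Fin.ext ?_)) ((hK _).2 ?_) ((hK _).2 (T.pw x)))))
    · have := Int.eq_zero_of_abs_lt_dvd e (by have := i.2; have := j.2; rw [abs_lt]; omega)
      omega
    · have := QuotientGroup.eq.1 h
      rwa [zpow_sub, zpow_natCast, zpow_natCast, ← ((Commute.refl g).pow_pow i j).inv_left.eq,
        ← mul_assoc, ← mul_inv_rev, mul_assoc]
  · obtain ⟨⟨u, k, rfl⟩, rfl⟩ := (Finset.mem_filter.1 ha).2
    have h1 := Int.emod_lt_of_pos k hp0
    have h2 := Int.emod_nonneg k hp0.ne'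
    refine ⟨⟨(k % p).toNat, by omega⟩, Finset.mem_univ _, QuotientGroup.eq.2 ?_⟩
    have h3 := (hK _).1 (zpow_mem ((hK _).2 (T.pw x)) (k / p))
    change (g ^ (k % p).toNat * x)⁻¹ * (g ^ k * x) ∈ H
    convert h3 using 1
    rw [← zpow_natCast g, Int.toNat_of_nonneg h2, ← zpow_natCast, ← zpow_mul, mul_inv_rev,
      mul_assoc, mul_assoc, ← mul_assoc (g ^ (k % p))⁻¹, ← zpow_neg, ← zpow_add,
      Int.emod_def]
    congr 3
    ring

theorem PTc.const (T : PTc p H g) (hF : ∀ h ∈ H, ∀ x, f (x * h) = f x)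
    (hs : ∀ y x, ∑ i : Fin p, f (y * (g ^ (i : ℕ) * x)) = 0) (y : Γ) : f y = f 1 := by
  have h2 := T.cs_eq (f := fun x => f (y * x)) (fun h hh x => by rw [← mul_assoc, hF h hh]) (hs y)
  rw [mul_one] at h2
  rw [← h2, cs_tr hF, T.cs_eq hF fun x => by simpa using hs 1 x]

/-- the trace lemma in degree `0` -/
theorem PTc.zero (T : PTc p H g) {P : Γ → Prop} (h1 : ∀ h ∈ H, ∀ x, P x → P (x * h))
    (h2 : ∀ y x, P (y * x) → P (y * (g * x))) (h3 : P 1) (y : Γ) : P y := by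
  classical
  have h4 : ∀ y x (k : ℕ), P (y * x) → P (y * (g ^ k * x)) := fun y x k h => by
    induction k with
    | zero => simpa using h
    | succ k ih => simpa only [pow_succ', mul_assoc] using h2 y _ ih
  have h5 : ∀ y x (k : ℕ), P (y * (g ^ k * x)) ↔ P (y * x) := fun y x k => ⟨fun h => by
    have := h4 y _ (k * (orderOf g - 1)) h
    rwa [← mul_assoc (g ^ _), ← pow_add, ← Nat.mul_succ, Nat.succ_eq_add_one,
      Nat.sub_add_cancel (orderOf_pos g), mul_comm k, pow_mul, pow_orderOf_eq_one, one_pow,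
      one_mul] at this, h4 y x k⟩
  have := T.const (f := fun x => if P x then 1 else 0) (fun h hh x => if_congr
    ⟨fun e => by simpa using h1 _ (H.inv_mem hh) _ e, h1 h hh x⟩ rfl rfl)
    (fun y x => by simp [h5]) y
  by_contra e
  simp [e, h3] at this

variable (H g) in
/-- functions of weight `χ` and degree at most `n` -/
structure SI (χ : Γ → ZMod p) (n : ℕ) (f : Γ → ZMod p) : Prop where
  wt : ∀ h ∈ H, ∀ x, f (x * h) = f x * χ h
  deg : ∀ y x, PD n fun k => f (y * (g ^ k * x))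

variable (H g) in
/-- there are enough functions of weight `χ` and degree at most `n` -/
def Nz (χ : Γ → ZMod p) (n : ℕ) : Prop := ∀ y, ∃ f, SI H g χ n f ∧ f y ≠ 0

theorem SI.mul (h : SI H g χ a f) (h' : SI H g χ' b f') :
    SI H g (fun x => χ x * χ' x) (a + b) fun x => f x * f' x :=
  ⟨fun u hu x => by rw [h.wt u hu, h'.wt u hu]; ring, fun y x => (h.deg y x).mul (h'.deg y x)⟩

theorem SI.mono (h : SI H g χ a f) (e : a ≤ b) (e' : ∀ h ∈ H, χ h = χ' h) : SI H g χ' b f :=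
  ⟨fun u hu x => by rw [h.wt u hu, e' u hu], fun y x => (h.deg y x).mono e⟩

theorem Nz.mono (h : Nz H g χ a) (e : a ≤ b) (e' : ∀ h ∈ H, χ h = χ' h) : Nz H g χ' b :=
  fun y => (h y).imp fun _ h => ⟨h.1.mono e e', h.2⟩

theorem Nz.mul (h : Nz H g χ a) (h' : Nz H g χ' b) : Nz H g (fun x => χ x * χ' x) (a + b) := fun y =>
  let ⟨_, h1, h2⟩ := h y
  let ⟨_, h3, h4⟩ := h' y
  ⟨_, h1.mul h3, mul_ne_zero h2 h4⟩

theorem nz_one : Nz H g (fun _ => (1 : ZMod p)) 0 := fun _ =>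
  ⟨fun _ => 1, ⟨fun _ _ _ => by simp, fun _ _ => pd_const _⟩, one_ne_zero⟩

theorem Nz.pow (h : Nz H g χ a) : ∀ c : ℕ, Nz H g (fun x => χ x ^ c) (c * a)
  | 0 => nz_one.mono (by simp) (by simp)
  | c + 1 => ((h.pow c).mul h).mono (by rw [Nat.succ_mul]) fun _ _ => (pow_succ _ _).symm

theorem si_hom (θ : Γ →* ZMod p) (hg : θ g = 1) : SI H g θ 0 θ :=
  ⟨fun _ _ _ => map_mul _ _ _, fun y x => (pd_const (θ (y * x))).congr fun k => by simp [hg]⟩

theorem hom_ne (θ : Γ →* ZMod p) (y : Γ) : θ y ≠ 0 := ((Group.isUnit y).map θ).ne_zero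

theorem PTc.si (T : PTc p H g) (h : SI H g χ n f) (e : ∀ h ∈ H, χ h = 1) (hn : n + 2 ≤ p) (y : Γ) :
    f y = f 1 :=
  T.const (fun u hu x => by rw [h.wt u hu, e u hu, mul_one]) (fun y x => (h.deg y x).sum_eq hn) y

theorem hom_g (θ : Γ →* ZMod p) (h : ∃ k, θ g ^ p ^ k = 1) : θ g = 1 := by
  obtain ⟨k, h⟩ := h
  rwa [ZMod.pow_card_pow] at h

theorem nz_hom (θ : Γ →* ZMod p) (hg : θ g = 1) : Nz H g θ 0 := fun y => ⟨θ, si_hom θ hg, hom_ne θ y⟩

theorem PTc.hom (T : PTc p H g) (θ : Γ →* ZMod p) (hg : θ g = 1) (c : ℕ) (e : ∀ h ∈ H, θ h ^ c = 1)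
    (y : Γ) : θ y ^ c = 1 := by
  simpa using T.si (si_hom ((powMonoidHom c).comp θ) (by simp [hg])) e hp.out.two_le y

theorem PTc.key (T : PTc p H g) (h : SI H g χ a f) (h0 : f 1 = 0) (h' : Nz H g χ' b)
    (e : ∀ h ∈ H, χ h * χ' h = 1) (hn : a + b + 2 ≤ p) (y : Γ) : f y = 0 := by
  obtain ⟨f', h1, h2⟩ := h' y
  have := T.si (h.mul h1) e hn y
  rw [h0, zero_mul] at this
  exact (mul_eq_zero.1 this).resolve_right h2

end Cfsg.Agent.M7
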