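import Cfsg.Agent.M7.B

/-! The slice `QA` of `S5267`: quadratic action. -/

set_option autoImplicit false
set_option linter.unusedSectionVars false

namespace Cfsg.Agent.M7.Q3

open Cfsg.Fus Subgroup Cfsg.Agent.H1 Cfsg.Agent.M9 Module Polynomial
open scoped commutatorElement

universe u

variable {p : ℕ} [hp : Fact p.Prime]

theorem semi {R A : Type*} [CommSemiring R] [Semiring A] [Algebra R A] {Y N N' : A}
    (h : Y * N = N' * Y) (f : R[X]) : Y * aeval N f = aeval N' f * Y := by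
  induction f using Polynomial.induction_on' with
  | add a b ha hb => rw [map_add, map_add, mul_add, add_mul, ha, hb]
  | monomial n a =>
    rw [aeval_monomial, aeval_monomial, ← mul_assoc, ← Algebra.commutes, mul_assoc, mul_assoc,
      (SemiconjBy.pow_right h n).eq]

theorem expand {K : Type*} [CommRing K] (e : ℕ) (u : K[X]) : ∃ r : K[X],
    r.eval 0 = (e + 1) * u.eval 0 ^ 2 ∧ (X ^ (e + 1) * u).comp
      (X + (X ^ (e + 1) * u) * (1 + X)) - X ^ (e + 1) * u = X ^ (2 * e + 1) * r := by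
  obtain ⟨k, hk⟩ := ((X ^ (e + 1) * u).map C).binomExpansion X ((X ^ (e + 1) * u) * (1 + X))
  refine ⟨(((e : K[X]) + 1) * u + X * derivative u) * u * (1 + X) + k * X * u ^ 2 * (1 + X) ^ 2,
    by simp; ring, ?_⟩
  rw [Polynomial.comp, ← eval_map, hk, derivative_map, eval_map, eval_map, eval₂_C_X, eval₂_C_X,
    derivative_mul, derivative_X_pow]
  simp only [Nat.add_sub_cancel, Nat.cast_succ, map_add, map_natCast, map_one]
  ring

/-- the Heisenberg argument -/
theorem heis {A : Type*} [Ring A] [Algebra (ZMod p) A] {N Y Y' : A} {f : (ZMod p)[X]}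
    (hf : X ∣ f) (hN : N ^ p = 0) (hY : Y * Y' = 1) (h1 : Y * aeval N f = aeval N f * Y)
    (h2 : Y * N = (N + aeval N f * (1 + N)) * Y) : aeval N f * aeval N f = 0 := by
  by_cases h0 : f = 0
  · simp [h0]
  obtain ⟨u, hu, hu'⟩ := exists_eq_pow_rootMultiplicity_mul_and_not_dvd f h0 0
  rw [C_0, sub_zero] at hu hu'
  obtain ⟨e, he⟩ : ∃ e, f.rootMultiplicity 0 = e + 1 :=
    ⟨f.rootMultiplicity 0 - 1, by
      have : f.rootMultiplicity 0 ≠ 0 := fun e => hu' (by rwa [hu, e, pow_zero, one_mul] at hf)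
      omega⟩
  rw [he] at hu
  have key : N ^ (2 * e + 2) = 0 := by
    by_cases hpe : p ≤ e + 1
    · exact pow_eq_zero_of_le (by omega) hN
    obtain ⟨r, r1, r2⟩ := expand e u
    rw [← hu] at r2
    have h3 := semi h2 f
    have h4 : aeval N (X ^ (2 * e + 1) * r) = 0 := by
      have := congrArg (· * Y') (h3.symm.trans h1)
      simp only [mul_assoc, hY, mul_one] at this
      rw [← r2, map_sub, aeval_comp, sub_eq_zero, ← this]
      simp
    have h5 : ¬ X ∣ r := by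
      rw [X_dvd_iff, coeff_zero_eq_eval_zero] at hu' ⊢
      rw [r1]
      refine mul_ne_zero (fun e' => ?_) (pow_ne_zero 2 hu')
      rw [← Nat.cast_succ, ZMod.natCast_eq_zero_iff] at e'
      exact hpe (Nat.le_of_dvd (Nat.succ_pos e) e')
    obtain ⟨a, b, hab⟩ := (irreducible_X.coprime_iff_not_dvd.2 h5).pow_left (m := p)
    have h6 : (X : (ZMod p)[X]) ^ (2 * e + 2) =
        X ^ (2 * e + 2) * a * X ^ p + X * b * (X ^ (2 * e + 1) * r) := by
      linear_combination (-X ^ (2 * e + 2)) * hab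
    have := congrArg (aeval N) h6
    rwa [map_add, map_mul _ _ (X ^ p), map_mul _ (X * b), h4, map_pow, map_pow, aeval_X, hN, mul_zero,
      mul_zero, add_zero] at this
  rw [← map_mul, hu, show X ^ (e + 1) * u * (X ^ (e + 1) * u) = X ^ (2 * e + 2) * u ^ 2 by ring,
    map_mul, map_pow, aeval_X, key, zero_mul]

theorem sq_pow {A : Type*} [Ring A] {T : A} (h : (T - 1) * (T - 1) = 0) (n : ℕ) :
    (T ^ n - 1) * (T ^ n - 1) = 0 := by
  nth_rw 1 [← geom_sum_mul]
  rw [← mul_geom_sum, mul_assoc, ← mul_assoc (T - 1), h, zero_mul, mul_zero]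

variable {m : ℕ} {G : Type u} [Group G] [Finite G] {K i b : ℕ} {g w s : G}

section
variable {V : Type*} [AddCommGroup V] [Module (ZMod p) V] {π : G → V} {ρ : G →* End (ZMod p) V}
  (L : Lin cj (flt G b) (flt G K) π ρ)
include L

theorem step (g : G) {x : G} (hx : x ∈ flt G b) : (ρ g - 1) (π x) = π ⁅g, x⁆ :=
  (L.comm (fun _ _ => rfl) hx).2

theorem nil (j : ℕ) {x : G} (hx : x ∈ flt G b) : ∃ y ∈ flt G (b + j), ((ρ s - 1) ^ j) (π x) = π y := by
  induction j with
  | zero => exact ⟨x, hx, rfl⟩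
  | succ j ih =>
    obtain ⟨y, h1, h2⟩ := ih
    exact ⟨⁅s, y⁆, comm_mem_symm (comm_mem_flt h1 s), by
      rw [pow_succ', End.mul_apply, h2, step L s (flt_anti (Nat.le_add_right b j) h1)]⟩

theorem cyc (h : MC p m G) (hK : K ≤ m + 3) (hs : ∀ r < m + 2, s ∉ kc G r) : ∀ d j, j + d = K →
    b ≤ j → ∀ x ∈ flt G j, x ∉ flt G (j + 1) ∨ d = 0 → ∀ y ∈ flt G j,
      ∃ q : (ZMod p)[X], π y = aeval (ρ s - 1) q (π x)
  | 0, j, e, hj, _, _, _, y, hy => ⟨0, by
      rw [(L.zero y (flt_anti hj hy)).2 (e ▸ hy)]; simp⟩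
  | d + 1, j, e, hj, x, hx, hx', y, hy => by
    have hx'' := hx'.resolve_right (by omega)
    have hxb := flt_anti hj hx
    have h1 := L.pi_mem (flt_anti hj hy) hy
    rw [L.sub_sup hxb (h.sup_eq (by omega) hx hx''), Submodule.mem_sup] at h1
    obtain ⟨_, ⟨a, -, ha, rfl⟩, _, h2, h3⟩ := h1
    obtain ⟨c, rfl⟩ := Submodule.mem_span_singleton.1 h2
    obtain ⟨q, hq⟩ := cyc h hK hs d (j + 1) (by omega) (by omega) ⁅s, x⁆
      (comm_mem_symm (comm_mem_flt hx s)) (by
        by_cases hd : d = 0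
        · exact .inr hd
        · exact .inl fun e' => hs j (by omega) (h.mem_kc (by omega) hx hx'' (comm_mem_symm e'))) a ha
    refine ⟨q * X + C c, ?_⟩
    rw [← h3, hq, ← step L s hxb]
    simp [Algebra.algebraMap_eq_smul_one]

end

theorem qa (hp2 : p ≠ 2) (h : MC p m G) (hK : K ≤ m + 3) (hi : 1 ≤ i) (hg : g ∈ flt G i)
    (hw : w ∈ tsc G) (hwp : w ^ p ∈ flt G K) (hc : ∀ y ∈ flt G (i + 1), ⁅y, w⁆ ∈ flt G K) :
    ⁅⁅w, g⁆, g⁆ ∈ flt G K := by
  by_cases hwK : w ∈ flt G K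
  · exact flt_anti (by omega) (comm_mem_flt (comm_mem_flt hwK g) g)
  obtain ⟨b, hb, w1, w2⟩ := W2.exists_level h hw fun e => hwK (e ▸ one_mem _)
  have bK : b < K := not_le.1 fun e => hwK (flt_anti e w1)
  obtain ⟨s, -, hs⟩ := exists_unif h hp2
  have cb : ∀ x ∈ flt G b, ∀ y ∈ flt G (i + 1), ⁅y, x⁆ ∈ flt G K := fun x hx => mem_cMod.1
    (flt_le_of_mem h hs (N := cMod (flt G (i + 1)) (flt G K)) (m + 2 - b) b (by omega) w
      (mem_cMod.2 hc) w1 w2 hx)
  by_cases hbi : b ≤ i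
  · exact cb g (flt_anti hbi hg) _ (comm_mem_symm (comm_mem_flt hg w))
  have bp : K ≤ b - 1 + p := (W2.win hp2 h hK hw hwp).elim
    (fun e => by
      have : ¬ b + 1 ≤ K + 1 - p := fun e' => w2 (flt_anti e' e)
      omega) fun e => by omega
  obtain ⟨V, _, _, _, π, ρ, L⟩ := exists_lin (p := p) (cj : G →* Equiv.Perm G) (D := flt G b)
    (T := flt G K) (flt_anti bK.le) (fun x hx y hy => cb y hy x (flt_anti (by omega) hx))
    (fun x hx => flt_anti bp (pow_mem_flt h hp2 (by rwa [show b - 1 + 1 = b by omega])))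
    (fun σ => homOn_cj σ _) (fun σ x hx => (flt_normal b).conj_mem x hx σ)
    fun σ x hx => (flt_normal K).conj_mem x hx σ
  have triv : ∀ a ∈ flt G (i + 1), ρ a = 1 := fun a ha => sub_eq_zero.1 (LinearMap.ext fun v => by
    obtain ⟨x, hx, rfl⟩ := L.surj v
    rw [step L a hx, LinearMap.zero_apply,
      L.zero _ (flt_anti b.le_succ (comm_mem_symm (comm_mem_flt hx a)))]
    exact cb x hx a ha)
  obtain ⟨k, rfl⟩ : ∃ k, i = k + 1 := ⟨i - 1, by omega⟩
  obtain ⟨y, y1, y2⟩ := h.exists_mem (r := k) (by omega)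
  have z1 : ⁅y, s⁆ ∈ flt G (k + 1) := comm_mem_flt y1 s
  have z2 : ⁅y, s⁆ ∉ flt G (k + 2) := fun e => hs k (by omega) (h.mem_kc (by omega) y1 y2 e)
  set z := ⁅y, s⁆ with hz
  have cz : ∀ a, Commute (ρ z) (ρ a) := fun a => by
    rw [Commute, SemiconjBy, ← map_mul, ← map_mul, show z * a = ⁅z, a⁆ * (a * z) by
      simp [commutatorElement_def], map_mul, triv _ (comm_mem_flt z1 a), one_mul]
  have hN : (ρ s - 1) ^ p = 0 := LinearMap.ext fun v => by
    obtain ⟨x, hx, rfl⟩ := L.surj v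
    obtain ⟨u, u1, u2⟩ := nil L (s := s) p hx
    rw [u2]
    exact (L.zero _ (flt_anti (Nat.le_add_right _ _) u1)).2 (flt_anti (by omega) u1)
  obtain ⟨q, hq⟩ := cyc L h hK hs (K - (b + 1)) (b + 1) (by omega) b.le_succ ⁅s, w⁆
    (comm_mem_symm (comm_mem_flt w1 s)) (by
      by_cases hd : K - (b + 1) = 0
      · exact .inr hd
      · exact .inl fun e' => hs b (by omega) (h.mem_kc (by omega) w1 w2 (comm_mem_symm e'))) ⁅z, w⁆
    (comm_mem_symm (comm_mem_flt w1 z))
  have hZ : ρ z - 1 = aeval (ρ s - 1) (q * X) := LinearMap.ext fun v => by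
    obtain ⟨x, hx, rfl⟩ := L.surj v
    obtain ⟨r, hr⟩ := cyc L h hK hs (K - b) b (by omega) le_rfl w w1 (.inl w2) x hx
    have c1 : (ρ z - 1) * (ρ s - 1) = (ρ s - 1) * (ρ z - 1) :=
      ((cz s).sub_left (Commute.one_left _)).sub_right (Commute.one_right _)
    rw [hr, ← End.mul_apply, semi c1 r, End.mul_apply, step L z w1, hq, ← step L s w1,
      ← End.mul_apply, ← End.mul_apply, ← End.mul_apply, ← map_mul, ← map_mul, mul_comm (q * X),
      ← mul_assoc, map_mul _ _ X, aeval_X]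
  have hZZ : (ρ z - 1) * (ρ z - 1) = 0 := by
    rw [hZ]
    refine heis (Y := ρ y) (Y' := ρ y⁻¹) (Dvd.intro_left q rfl) hN (by rw [← map_mul]; simp) ?_ ?_
    · rw [← hZ]; exact ((cz y).sub_left (Commute.one_left _)).symm
    · have : ρ y * ρ s = ρ z * ρ s * ρ y := by
        rw [← map_mul, ← map_mul, ← map_mul, hz]; simp [commutatorElement_def]
      rw [← hZ, mul_sub, this]
      noncomm_ring
  have hg' := (h.sup_eq (by omega) z1 z2).ge hg
  rw [← SetLike.mem_coe, normal_mul] at hg'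
  obtain ⟨a, ha, c, hc', rfl⟩ := hg'
  obtain ⟨n, rfl⟩ := mem_powers_iff_mem_zpowers.2 hc'
  have e := sq_pow hZZ n
  dsimp only at e ⊢
  rw [← map_pow, show ρ (z ^ n) = ρ (a * z ^ n) by rw [map_mul, triv a ha, one_mul]] at e
  set g := a * z ^ n
  have g1 : ⁅g, w⁆ ∈ flt G b := flt_anti b.le_succ (comm_mem_symm (comm_mem_flt w1 g))
  have g2 := comm_mem_symm g1
  refine comm_mem_symm ((L.zero _ (flt_anti b.le_succ (comm_mem_symm (comm_mem_flt g2 g)))).1 ?_)
  rw [← step L g g2, ← commutatorElement_inv g w, L.inv g1, map_neg, ← step L g w1, ← End.mul_apply,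
    e, LinearMap.zero_apply, neg_zero]

end Cfsg.Agent.M7.Q3

namespace Cfsg.Agent.M7

universe u

instance instQA : QA.{u} where
  out := fun h5 h _ _ _ _ hK _ => Q3.qa (by omega) h hK

end Cfsg.Agent.M7
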