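import Cfsg.Agent.M7.W
import Cfsg.Agent.H8.Semi

/-! The strongly embedded subgroups `ext F P Q`. -/

set_option autoImplicit false
set_option linter.unusedSectionVars false

namespace Cfsg.Agent.M7

open Equiv Cfsg.Fus Cfsg.FusionSystem Subgroup Cfsg.Agent.H1
open scoped commutatorElement

universe u

namespace R6

theorem isPMod_sup {X : Type*} [Group X] {p k : ℕ} {U : Subgroup X} {h : X}
    (hn : h ∈ normalizer (U : Set X)) (hk : h ^ p ^ k ∈ U) : IsPMod p U (U ⊔ zpowers h) := by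
  intro σ hσ
  obtain ⟨a, ha, i, rfl⟩ := (mem_sup_zpowers hn).1 hσ
  have e : ∀ n : ℕ, (a * h ^ i) ^ n * ((h ^ i) ^ n)⁻¹ ∈ U := fun n => by
    induction n with
    | zero => simp
    | succ n ih =>
      have := mul_mem ha (Fus.conj_mem_of_mem_normalizer (zpow_mem hn i) ih)
      rw [pow_succ', pow_succ]
      convert this using 1
      group
  refine ⟨k, (mul_mem_cancel_right (inv_mem ?_)).1 (e _)⟩
  rw [← zpow_natCast, ← zpow_mul, mul_comm, zpow_mul, zpow_natCast]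
  exact zpow_mem hk i

variable {p m : ℕ} [hp : Fact p.Prime] {G : Type u} [Group G] [Finite G]
  {F : FusionSystem (⊤ : Subgroup G)} {P Q : Subgroup G} {g : G}

theorem conj_innS (hQ : P ≤ Q) (hN : normalizerIn ⊤ P ≤ Q) {σ : F.stab P}
    (hσ : σ ∈ ext F P Q le_top) {u : Perm G} (hu : u ∈ innS ⊤ P) : σ.1 * u * σ.1⁻¹ ∈ innS ⊤ P := by
  obtain ⟨β, h1, h2⟩ := (mem_ext le_top).1 hσ
  obtain ⟨n, -, hn, h3⟩ := mem_innS.1 hu
  have i := (mem_stab le_top).1 σ.2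
  refine mem_innS_of_setStab (mul_mem (mul_mem i.mem_setStab (innS_le_setStab _ _ hu))
    (inv_mem i.mem_setStab)) (mem_top (β n)) fun x hx => ?_
  have hx' := i.symm.mem hx
  rw [Perm.mul_apply, Perm.mul_apply, h3 _ hx', ← h2 _ (Fus.conj_mem_of_mem_normalizer hn hx'),
    h1.homOn.map_conj (hN ⟨trivial, hn⟩) (hQ hx'), h2 _ hx', perm_apply_inv_self]

theorem ptc (hG : IsPGroup p (⊤ : Subgroup G)) (hF : F.IsSaturated p) (hn : F.IsFullyNormalized P)
    (hc : centralizerIn ⊤ P ≤ P) [Q.Normal] (hN : normalizerIn ⊤ P ≤ Q)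
    (hext : ∀ R (σ : Perm G), P < R → R ≤ Q → F.IsMap R σ → (∀ x ∈ R, σ x ∈ Q) →
      ∃ β, F.Iso Q Q β ∧ ∀ x ∈ R, β x = σ x)
    (hg : g ∈ normalizer (P : Set G)) (hg' : g ∉ P) (hp' : g ^ p ∈ P) :
    PTc p (ext F P Q le_top) (cg F hg) := by
  have hQ : P ≤ Q := (le_normalizerIn le_top).trans hN
  have cjm : ∀ (σ : F.stab P) (s : G), (∀ x ∈ P, σ.1 x = s * x * s⁻¹) → σ ∈ ext F P Q le_top :=
    fun σ s hs => (mem_ext le_top).2 ⟨cj s, F.iso_cj le_top trivial (nle _ s), fun x hx => (hs x hx).symm⟩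
  have inn : ∀ (y : F.stab P) {e : G}, e ∈ P → ∀ x ∈ P, (y.1⁻¹ * cj e * y.1) x =
      y.1⁻¹ e * x * (y.1⁻¹ e)⁻¹ := fun y e he x hx => by
    have i := (mem_stab le_top).1 y.2
    simpa using i.symm.homOn.conj_cj (y := x) he (by simpa using i.mem hx)
  refine ⟨cjm _ g fun _ _ => rfl, fun y => cjm _ (y.1⁻¹ (g ^ p)) fun x hx => ?_, fun y hy => ?_⟩
  · rw [← inn y hp' x hx, map_pow]; rfl
  have i := (mem_stab le_top).1 y.2
  obtain ⟨k, hk⟩ := hG ⟨g, trivial⟩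
  have h1 : (y⁻¹ * cg F hg * y).1 ∈ innS ⊤ P := ((hn.isFullyAutomized hF hG).le_innS le_sup_left
    (sup_le (F.innS_le_stab le_top) (zpowers_le.2 (y⁻¹ * cg F hg * y).2))
    ((isPMod_innS hG P).trans (isPMod_sup (k := k) (mem_normalizer_iff.2 fun u =>
      ⟨conj_innS hQ hN hy, fun hu => by simpa [mul_assoc] using conj_innS hQ hN (inv_mem hy) hu⟩)
      (by
        have : (y⁻¹ * cg F hg * y).1 = y.1⁻¹ * cj g * y.1⁻¹⁻¹ := by rw [inv_inv]; rfl
        rw [this, conj_pow, ← map_pow, show g ^ p ^ k = 1 from congrArg Subtype.val hk]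
        simp)))).le (mem_sup_right (mem_zpowers _))
  obtain ⟨s, -, hs, h2⟩ := mem_innS.1 h1
  have h3 : ∀ x ∈ P, (y.1 * cj s * y.1⁻¹) x = g * x * g⁻¹ := fun x hx => by
    rw [Perm.mul_apply, Perm.mul_apply, cj_apply, ← h2 _ (i.symm.mem hx)]
    simp
  have hs' : s ∉ P := fun e => hg' ((mul_mem_cancel_left (inv_mem (i.mem e))).1 (hc ⟨trivial,
    fun x hx => by
      have := (h3 x hx).symm.trans (i.homOn.conj_cj e (i.symm.mem hx))
      rw [cj_apply] at this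
      calc x * ((y.1 s)⁻¹ * g) = (y.1 s)⁻¹ * (y.1 s * x * (y.1 s)⁻¹) * g := by group
        _ = _ := by rw [← this]; group⟩))
  obtain ⟨τ, t1, t2⟩ := H8.exists_ext_elt (hn.isReceptive hF hG) i trivial hs
    (mem_innS.2 ⟨g, trivial, hg, h3⟩)
  have l : P ⊔ zpowers s ≤ normalizerIn ⊤ P := sup_le (le_normalizerIn le_top) (zpowers_le.2 ⟨trivial, hs⟩)
  obtain ⟨β, b1, b2⟩ := hext _ τ (left_lt_sup.2 fun e => hs' (e (mem_zpowers s))) (l.trans hN) t1
    fun x hx => hN (by simpa [(i.congr t2).img_eq] using t1.mem_normalizerIn le_sup_left hx (l hx).2)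
  exact (mem_ext le_top).2 ⟨β, b1, fun x hx => (b2 x (mem_sup_left hx)).trans (t2 x hx)⟩

theorem iso_tsc {τ : Perm G} (h : F.Iso ⊤ ⊤ τ) : F.Iso (tsc G) (tsc G) τ :=
  (h.isMap.mono le_top).iso_self fun _ hx =>
    map_mem_tsc { τ with map_mul' := fun _ _ => h.homOn trivial trivial } hx

theorem ext_tsc (hG : IsPGroup p (⊤ : Subgroup G)) (hF : F.IsSaturated p) {n : ℕ}
    (hmax : ∀ R, F.IsEssential p R → n < Nat.card (R ⊓ tsc G : Subgroup G) → R = tsc G)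
    {σ : Perm G} (hσ : F.IsMap P σ) : n < Nat.card (P ⊓ tsc G : Subgroup G) →
      ∃ β, F.Iso (tsc G) (tsc G) β ∧ ∀ x ∈ P ⊓ tsc G, β x = σ x := by
  refine hF.alperin_ind hG (M := fun P σ => n < Nat.card (P ⊓ tsc G : Subgroup G) →
      ∃ β, F.Iso (tsc G) (tsc G) β ∧ ∀ x ∈ P ⊓ tsc G, β x = σ x) ?_ ?_ ?_ hσ
  · rintro R τ (rfl | hR) hτ hn
    · exact ⟨τ, iso_tsc hτ, fun _ _ => rfl⟩
    · exact ⟨τ, hmax R hR hn ▸ hτ, fun _ _ => rfl⟩
  · intro P R σ τ _ ih hP h hn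
    obtain ⟨β, h1, h2⟩ := ih (hn.trans_le (card_le_of_le (inf_le_inf_right _ hP)))
    exact ⟨β, h1, fun x hx => (h2 x ⟨hP hx.1, hx.2⟩).trans (h x hx.1).symm⟩
  · intro P R σ τ h0 _ i1 i2 h hn
    obtain ⟨β, h1, h2⟩ := i1 hn
    have e : ∀ x ∈ P ⊓ tsc G, σ x ∈ R ⊓ tsc G := fun x hx => ⟨h x hx.1, h2 x hx ▸ h1.mem hx.2⟩
    obtain ⟨γ, h3, h4⟩ := i2 (hn.trans_le ((h0.mono inf_le_left).card_le e))
    exact ⟨γ * β, h1.trans h3, fun x hx => by rw [Perm.mul_apply, h2 x hx, h4 _ (e x hx)]; rfl⟩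

end R6

instance instRED : RED.{u} where
  ess := fun {p m} _ {G} _ _ {F E} hp5 h hF hE hle nn hmax g hg hg' hp' => by
    have hG : IsPGroup p (⊤ : Subgroup G) := h.pg.to_subgroup ⊤
    refine R6.ptc hG hF hE.isFullyNormalized hE.isCentric.centralizerIn_le (fun s hs => ?_)
      (fun R σ h1 h2 h3 _ => ?_) hg hg' hp'
    · by_contra e
      obtain ⟨j, -, rfl⟩ := W2.nrm (by omega) h hle e hs.2 (.inl fun x hx =>
        hE.isCentric.centralizerIn_le ⟨trivial, fun s _ => comm_one_iff.1 (comm_one_symm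
          (mem_bot.1 (h.top.le (comm_mem_flt hx s))))⟩)
      exact nn inferInstance
    · simpa [inf_eq_left.2 h2] using R6.ext_tsc hG hF hmax h3
        (by rw [inf_eq_left.2 h2]; exact card_lt_of_lt_of_finite h1)
  top := fun {p m} _ {G} _ _ {F} _ h hF s hs hs' => by
    have hG : IsPGroup p (⊤ : Subgroup G) := h.pg.to_subgroup ⊤
    refine R6.ptc hG hF (F.isFullyNormalized_of_le_normalizer le_top (normal_le_normalizer _ _))
      (fun x hx => ?_) le_top (fun R σ h1 _ h3 _ => ?_) hs hs' ?_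
    · exact mem_cMod.2 fun y hy => comm_one_iff.2 (hx.2 y (lcs_one_le_tsc hy)) ▸ one_mem _
    · obtain rfl : R = ⊤ := (eq_or_eq_of_relIndex h1.le le_top h.index_tsc).resolve_left h1.ne'
      exact ⟨σ, h3.iso_self fun _ _ => trivial, fun _ _ => rfl⟩
    · exact W2.pow_tsc h s

end Cfsg.Agent.M7
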