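import Cfsg.Agent.M7.J

/-! Small uniserial modules. -/

set_option autoImplicit false
set_option linter.unusedSectionVars false

namespace Cfsg.Agent.M7

open Module Cfsg.Agent.M9

universe u

variable {p : ℕ} [hp : Fact p.Prime] {V : Type*} [AddCommGroup V] [Module (ZMod p) V]

/-- a version of the logarithm -/
noncomputable def lg (A : End (ZMod p) V) : End (ZMod p) V := -∑ κ : ZMod p, κ⁻¹ • A ^ κ.val

theorem lg_wt {A B : End (ZMod p) V} (hA : A ^ p = 1) {r : ZMod p} (hr : r ≠ 0)
    (h : B * A = A ^ r.val * B) : B * lg A = r • (lg A * B) := by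
  have h1 : ∀ k : ℕ, B * A ^ k = A ^ (r.val * k) * B := fun k => by
    induction k with
    | zero => simp
    | succ k ih => rw [pow_succ, ← mul_assoc, ih, mul_assoc, h, ← mul_assoc, ← pow_add, Nat.mul_succ]
  simp only [lg, mul_neg, neg_mul, smul_neg, Finset.mul_sum, Finset.sum_mul, Finset.smul_sum,
    neg_inj, mul_smul_comm, smul_mul_assoc, h1, smul_smul]
  refine Fintype.sum_equiv (Equiv.mulLeft₀ r hr) _ _ fun κ => ?_
  rw [Equiv.mulLeft₀_apply, mul_inv, mul_inv_cancel_left₀ hr, ZMod.val_mul, ← pow_eq_pow_mod _ hA]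

theorem lg_lead (hp2 : 2 < p) (A : End (ZMod p) V) :
    ∃ B : End (ZMod p) V, (∀ W : Submodule (ZMod p) V, (∀ v ∈ W, A v ∈ W) → ∀ v ∈ W, B v ∈ W) ∧
      lg A = A - 1 + B * (A - 1) * (A - 1) := by
  have h1 : ∀ k : ℕ, ∃ B : End (ZMod p) V,
      (∀ W : Submodule (ZMod p) V, (∀ v ∈ W, A v ∈ W) → ∀ v ∈ W, B v ∈ W) ∧
      A ^ k = 1 + (k : ZMod p) • (A - 1) + B * (A - 1) * (A - 1) := fun k => by
    induction k with
    | zero => exact ⟨0, fun W _ _ _ => W.zero_mem, by simp⟩
    | succ k ih =>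
      obtain ⟨B, h0, h⟩ := ih
      refine ⟨A * B + (k : ZMod p) • 1, fun W hW v hv =>
        add_mem (hW _ (h0 W hW v hv)) (W.smul_mem _ hv), ?_⟩
      rw [pow_succ', h, Nat.cast_succ]
      simp only [mul_add, add_mul, mul_sub, sub_mul, mul_smul_comm, smul_mul_assoc, add_smul,
        smul_sub, mul_one, one_mul, one_smul, mul_assoc]
      abel
  choose B hB0 hB using h1
  refine ⟨-∑ κ : ZMod p, κ⁻¹ • B κ.val, fun W hW v hv => ?_, ?_⟩
  · simp only [LinearMap.neg_apply, LinearMap.sum_apply, LinearMap.smul_apply]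
    exact neg_mem (W.sum_mem fun κ _ => W.smul_mem _ (hB0 _ W hW v hv))
  have e1 : ∑ κ : ZMod p, κ⁻¹ = 0 := by
    rw [← Equiv.sum_comp (Equiv.inv (ZMod p))]
    simpa using FiniteField.sum_pow_lt_card_sub_one (K := ZMod p) 1 (by rw [ZMod.card]; omega)
  have e2 : ∑ κ : ZMod p, κ⁻¹ * κ = -1 := by
    rw [← Finset.add_sum_erase _ _ (Finset.mem_univ 0), Finset.sum_congr rfl fun κ hκ =>
      inv_mul_cancel₀ (Finset.ne_of_mem_erase hκ)]
    simp [Nat.cast_sub hp.out.one_le]
  simp only [lg, hB, smul_add, Finset.sum_add_distrib, smul_smul, ← Finset.sum_smul, e1,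
    ZMod.natCast_zmod_val, e2, neg_mul, Finset.sum_mul, smul_mul_assoc]
  simp only [zero_smul, neg_smul, one_smul]
  abel

instance instSM : SM.{u} where
  out := fun {p} hp {Γ V} _ _ _ _ _ {ρ N x r a d e c U θ} p5 T hr hc θx θN d2 dp mono U0 Ud ne sh uni
      wt cj => by
    by_contra! H
    obtain ⟨c3, H⟩ := H
    obtain ⟨L, rfl⟩ : ∃ L, d = L + 1 := ⟨d - 1, by omega⟩
    have shk : ∀ k j, ∀ v ∈ U (j + k), ((ρ x - 1) ^ k) v ∈ U j := fun k => by
      induction k with
      | zero => exact fun _ _ h => h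
      | succ k ih => exact fun j v h => by rw [pow_succ, End.mul_apply]; exact ih j _ (sh _ v h)
    have nil : (ρ x - 1) ^ (L + 1) = 0 := LinearMap.ext fun v => by
      have := shk (L + 1) 0 v (by rw [zero_add, Ud]; trivial)
      rwa [U0] at this
    have Lp : L < p := by omega
    have rp : ∀ h, r h ^ (p - 1) = 1 := fun h => ZMod.pow_card_sub_one_eq_one (hr h)
    have xp : ρ x ^ p = 1 := by
      have h := sub_one_pow (p := p) (ρ x)
      rw [pow_eq_zero_of_le (by omega) nil, ← Finset.sum_range] at h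
      rw [← sub_eq_zero, ← mul_geom_sum, ← h, mul_zero]
    have inv0 : ∀ j, ∀ v ∈ U j, (ρ x - 1) v ∈ U (j - 1) := fun j v hv => by
      rcases j with _ | j
      · rw [U0, Submodule.mem_bot] at hv; simp [hv]
      · exact sh j v hv
    have invx : ∀ j, ∀ v ∈ U j, ρ x v ∈ U j := fun j v hv => by
      simpa using add_mem (mono (Nat.sub_le j 1) (inv0 j v hv)) hv
    obtain ⟨B, hB0, hB⟩ := lg_lead (p := p) (by omega) (ρ x)
    have hl : ∀ v, lg (ρ x) v = (ρ x - 1) v + B ((ρ x - 1) ((ρ x - 1) v)) := fun v => by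
      rw [hB]; rfl
    have l1 : ∀ j ≤ L, ∀ v, lg (ρ x) v ∈ U j ↔ v ∈ U (j + 1) := fun j hj v => by
      refine ⟨fun h => ?_, fun h => hl v ▸ add_mem (sh j v h)
        (hB0 _ (invx j) _ (mono (Nat.sub_le j 1) (inv0 j _ (sh j v h))))⟩
      have key : ∀ n, j + n ≤ L → v ∈ U (j + n + 1) → v ∈ U (j + 1) := fun n => by
        induction n with
        | zero => exact fun _ h => h
        | succ n ih =>
          refine fun hn hv => ih (by omega) (uni _ (by omega) v hv ?_)
          have h2 := hB0 _ (invx _) _ (sh _ _ (sh _ v hv))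
          exact (add_mem_cancel_right h2).1 (hl v ▸ mono (Nat.le_add_right j n) h)
      exact key (L - j) (by omega) (by rw [show j + (L - j) = L by omega, Ud]; trivial)
    have l2 : ∀ t ≤ L + 1, ∀ v, (lg (ρ x) ^ t) v = 0 ↔ v ∈ U t := fun t => by
      induction t with
      | zero => exact fun _ v => by simp [U0]
      | succ t ih => exact fun ht v => by rw [pow_succ, End.mul_apply, ih (by omega), l1 t (by omega)]
    have l3 : ∀ t : ℕ, ∀ h ∈ N, ρ h * lg (ρ x) ^ t = (r h ^ (t : ℤ)) • (lg (ρ x) ^ t * ρ h) :=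
      fun t h hh => by
      rw [zpow_natCast]
      induction t with
      | zero => simp
      | succ t ih =>
        rw [pow_succ, ← mul_assoc, ih, smul_mul_assoc, mul_assoc, lg_wt xp (hr h) (cj h hh),
          mul_smul_comm, smul_smul, ← pow_succ, mul_assoc]
    obtain ⟨v₀, -, hv₀⟩ := SetLike.exists_of_lt (lt_of_le_of_ne (mono L.le_succ) (ne L (by omega)))
    obtain ⟨b₀, hb₀, hb₀'⟩ := SetLike.exists_of_lt (lt_of_le_of_ne (mono (Nat.le_succ 0)) (ne 0 (by omega)))
    let W : ℤ → ℕ → Prop := fun w n => Nz N x (fun h => r h ^ w) n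
    have Wm : ∀ {w w' n n'}, W w n → W w' n' → W (w + w') (n + n') := fun h h' =>
      (Nz.mul h h').mono le_rfl fun u _ => (zpow_add₀ (hr u) _ _).symm
    have W0 : ∀ n, W 0 n := fun n => nz_one.mono (Nat.zero_le _) (by simp)
    have We : ∀ k : ℤ, W (e * k) 0 := fun k => by
      have h1 : ∀ k : ℕ, W (e * k) 0 := fun k => ((nz_hom θ θx).pow k).mono (by simp) fun u hu => by
        rw [θN u hu, ← pow_mul, ← Nat.cast_mul, zpow_natCast]
      have c0 : (0 : ℤ) < c := by omega
      refine (h1 (k % c).toNat).mono le_rfl fun u _ => ?_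
      rw [Int.toNat_of_nonneg (Int.emod_nonneg _ c0.ne'), Int.emod_def, mul_sub, ← mul_assoc,
        zpow_sub₀ (hr u), ← Nat.cast_mul, hc, zpow_mul _ ((p - 1 : ℕ) : ℤ), zpow_natCast, rp, one_zpow,
        div_one]
    have Wn : ∀ {w w' : ℤ} {n}, W w n → (e : ℤ) ∣ w' + w → W (-w') n := fun {w w' n} h ⟨k, hk⟩ => by
      have := Wm h (We (-k))
      rwa [show w + e * -k = -w' by linear_combination hk, add_zero] at this
    have Wc : ∀ w : ℤ, ∀ h ∈ N, r h ^ w * r h ^ (-w) = 1 := fun w h _ => by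
      rw [← zpow_add₀ (hr h), add_neg_cancel, zpow_zero]
    have kA : ∀ {w n}, W w n → (e : ℤ) ∣ a + w → L + n + 2 ≤ p → False := fun h h' hn => by
      obtain ⟨y, v, hv, hy⟩ := H 1 one_pos (by omega)
      refine hy ((Submodule.span_singleton_le_iff_mem _ _).2 hv (T.vec nil Lp (χ := fun h => r h ^ (a : ℤ))
        (fun u hu => ?_) (Wn h h') (Wc _) hn y))
      simpa [U0, sub_eq_zero] using wt u hu 0 (by omega) v hv
    have kB : ∀ {w n}, W w n → (e : ℤ) ∣ L - a + w → L + n + 2 ≤ p → False := fun h h' hn => by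
      obtain ⟨y, v, hv, hy⟩ := H L (by omega) (by omega)
      obtain ⟨φ, h1, h2⟩ := exists_dual hy
      refine one_ne_zero (h1.symm.trans (T.fn nil Lp (χ := fun h => r h ^ ((L : ℤ) - a))
        (fun u hu z => ?_) (Wn h h') (Wc _) hn y (h2 v hv)))
      have h3 := h2 _ (wt u hu L (by omega) (ρ u⁻¹ z) (by rw [Ud]; trivial))
      rw [rho_inv', map_sub, map_smul, sub_eq_zero] at h3
      have := hr u
      rw [h3, zpow_sub₀ this, zpow_natCast, zpow_natCast, smul_eq_mul, inv_pow]
      field_simp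
    have kC : ∀ {t : ℕ} {w n}, 0 < t → t ≤ L → W w n → (e : ℤ) ∣ t + w → L + L + n + 2 ≤ p → False :=
      fun {t _ _} t0 tL h h' hn => by
      obtain ⟨y, v, hv, hy⟩ := H t t0 (by omega)
      exact hy ((l2 t (by omega) _).1 (T.op nil Lp (l3 t) (Wn h h') (Wc _) hn y ((l2 t (by omega) _).2 hv)))
    have WC : ∀ t : ℕ, t ≤ L → W t (L + L) := fun t ht =>
      nz_op nil Lp (l3 t) (v := v₀) fun h => hv₀ (mono ht ((l2 t (by omega) _).1 h))
    have Ws : ∀ k w : ℕ, w ≤ k * L → W w (k * (L + L)) := fun k => by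
      induction k with
      | zero => exact fun w hw => by simpa [show w = 0 by omega] using W0 0
      | succ k ih =>
        intro w hw
        have := Wm (ih (w - L) (by rw [Nat.succ_mul] at hw; omega)) (WC (min w L) (min_le_right _ _))
        rwa [← Nat.cast_add, show w - L + min w L = w by omega, ← Nat.succ_mul] at this
    have e0 : 0 < e := Nat.pos_of_ne_zero fun h => by rw [h] at hc; omega
    have e3 : 3 * e ≤ p - 1 := by rw [← hc, mul_comm]; exact Nat.mul_le_mul_left _ c3
    have L0 : 0 < L := by omega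
    have hq : ∀ q : ℕ, e ≤ q * L + L → p < L + L + q * (L + L) + 2 := fun q h => lt_of_not_ge fun h' =>
      kC (t := min e L) (by omega) (min_le_right _ _) (Ws q (e - L) (by omega))
        (by rw [← Nat.cast_add, show min e L + (e - L) = e by omega]) h'
    have q1 := Nat.div_add_mod (e - 1) L
    have q2 := Nat.mod_lt (e - 1) L0
    have q3 := hq ((e - 1) / L) (by rw [mul_comm]; omega)
    rw [mul_add, mul_comm _ L] at q3
    have q4 : (e - 1) / L = 1 := by
      generalize (e - 1) / L = q at q1 q3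
      rcases q with _ | _ | q
      · omega
      · rfl
      · simp only [mul_add] at q1 q3; omega
    rw [q4] at q1 q3
    have ez : (0 : ℤ) < e := by omega
    have v1 := Int.emod_nonneg ((a : ℤ) - L) ez.ne'
    have v2 := Int.emod_lt_of_pos ((a : ℤ) - L) ez
    have v3 := Int.emod_add_mul_ediv ((a : ℤ) - L) e
    obtain ⟨v, hv⟩ := Int.eq_ofNat_of_zero_le v1
    rw [hv] at v2 v3
    by_cases hvL : v ≤ L
    · exact kB (WC v hvL) ⟨-(((a : ℤ) - L) / e), by linear_combination v3⟩ (by omega)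
    · refine kA (WC (2 * e - v - L) (by omega)) ⟨((a : ℤ) - L) / e + 2, ?_⟩ (by omega)
      rw [Nat.cast_sub (by omega), Nat.cast_sub (by omega)]
      push_cast
      linear_combination -v3

end Cfsg.Agent.M7
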