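import Cfsg.Agent.M7.P
import Cfsg.Agent.M9.S1

/-! Matrix coefficients and determinants. -/

set_option autoImplicit false
set_option linter.unusedSectionVars false

namespace Cfsg.Agent.M7

open Module Polynomial Subgroup Cfsg.Agent.H1 Cfsg.Agent.M9

variable {p : ℕ} [hp : Fact p.Prime] {n a b : ℕ} {Γ V V₀ : Type*} [Group Γ] [Finite Γ]
  [AddCommGroup V] [Module (ZMod p) V] [AddCommGroup V₀] [Module (ZMod p) V₀]
  {ρ : Γ →* End (ZMod p) V} {H : Subgroup Γ} {g y : Γ} {χ χ' : Γ → ZMod p} {v : V}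
  {φ : V →ₗ[ZMod p] ZMod p} {A : End (ZMod p) V}

theorem exists_dual {U : Submodule (ZMod p) V} (h : v ∉ U) :
    ∃ l : V →ₗ[ZMod p] ZMod p, l v = 1 ∧ ∀ u ∈ U, l u = 0 := by
  obtain ⟨l, h1, h2⟩ := Submodule.exists_le_ker_of_notMem h
  exact ⟨(l v)⁻¹ • l, by simp [h1], fun u hu => by simp [LinearMap.mem_ker.1 (h2 hu)]⟩

theorem rho_ne (y : Γ) (h : v ≠ 0) : ρ y v ≠ 0 := fun e => h (by rw [← rho_inv (ρ := ρ) y v, e, map_zero])

theorem nil_inv (h : (ρ g - 1) ^ n = 0) : (ρ g⁻¹ - 1) ^ n = 0 := by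
  have e : ρ g⁻¹ - 1 = -ρ g⁻¹ * (ρ g - 1) := by
    rw [neg_mul, mul_sub, ← map_mul, inv_mul_cancel, map_one, mul_one, neg_sub]
  have c : Commute (-ρ g⁻¹) (ρ g - 1) :=
    (((Commute.refl g).inv_left.map ρ).sub_right (Commute.one_right _)).neg_left
  rw [e, c.mul_pow, h, mul_zero]

variable (hg : (ρ g - 1) ^ (n + 1) = 0) (hn : n < p)
include hg hn

theorem pd_vec (l : V →ₗ[ZMod p] ZMod p) (v : V) : PD n fun k => l (ρ (g ^ k) v) :=
  (pd_pow hg hn (l ∘ₗ LinearMap.applyₗ v)).congr fun k => by simp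

theorem si_vec (hv : ∀ h ∈ H, ρ h v = χ h • v) (l : V →ₗ[ZMod p] ZMod p) :
    SI H g χ n fun y => l (ρ y v) :=
  ⟨fun h hh x => by rw [rho_mul, hv h hh, map_smul, map_smul, smul_eq_mul, mul_comm],
    fun y x => (pd_vec hg hn (l ∘ₗ ρ y) (ρ x v)).congr fun k => by simp⟩

theorem nz_vec (hv : ∀ h ∈ H, ρ h v = χ h • v) (h0 : v ≠ 0) : Nz H g χ n := fun y =>
  let ⟨l, h1, _⟩ := exists_dual (U := (⊥ : Submodule (ZMod p) V)) (rho_ne (ρ := ρ) y h0)
  ⟨_, si_vec hg hn hv l, by rw [h1]; exact one_ne_zero⟩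

theorem PTc.vec (T : PTc p H g) (hv : ∀ h ∈ H, ρ h v = χ h • v) (h' : Nz H g χ' b)
    (e : ∀ h ∈ H, χ h * χ' h = 1) (hb : n + b + 2 ≤ p) (y : Γ) :
    ρ y v ∈ Submodule.span (ZMod p) {v} := by
  by_contra h
  obtain ⟨l, h1, h2⟩ := exists_dual h
  exact one_ne_zero (h1.symm.trans (T.key (si_vec hg hn hv l)
    (by simpa using h2 v (Submodule.mem_span_singleton_self v)) h' e hb y))

theorem si_fn (hφ : ∀ h ∈ H, ∀ v, φ (ρ h⁻¹ v) = χ h * φ v) (v : V) :
    SI H g χ n fun y => φ (ρ y⁻¹ v) :=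
  ⟨fun h hh x => by rw [mul_inv_rev, rho_mul, hφ h hh, mul_comm], fun y x =>
    (pd_vec (nil_inv hg) hn (φ ∘ₗ ρ x⁻¹) (ρ y⁻¹ v)).congr fun k => by simp⟩

theorem nz_fn (hφ : ∀ h ∈ H, ∀ v, φ (ρ h⁻¹ v) = χ h * φ v) (h0 : φ v ≠ 0) : Nz H g χ n := fun y =>
  ⟨_, si_fn hg hn hφ (ρ y v), by rwa [rho_inv]⟩

theorem PTc.fn (T : PTc p H g) (hφ : ∀ h ∈ H, ∀ v, φ (ρ h⁻¹ v) = χ h * φ v) (h' : Nz H g χ' b)
    (e : ∀ h ∈ H, χ h * χ' h = 1) (hb : n + b + 2 ≤ p) (y : Γ) (hv : φ v = 0) : φ (ρ y v) = 0 := by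
  simpa using T.key (si_fn hg hn hφ v) (by simpa using hv) h' e hb y⁻¹

theorem si_op [Finite V] (hA : ∀ h ∈ H, ρ h * A = χ h • (A * ρ h)) (l : V →ₗ[ZMod p] ZMod p) (v : V) :
    SI H g χ (n + n) fun y => l (ρ y (A (ρ y⁻¹ v))) :=
  ⟨fun h hh x => by rw [op_wt (hA h hh), map_smul, smul_eq_mul, mul_comm], fun y x => by
    have B := Module.finBasis (ZMod p) V
    refine (pd_sum Finset.univ fun i _ => (pd_vec (nil_inv hg) hn (B.coord i) (ρ y⁻¹ v)).mul
      (pd_vec hg hn (l ∘ₗ ρ y) (ρ x (A (ρ x⁻¹ (B i)))))).congr fun k => ?_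
    conv_lhs => rw [mul_inv_rev, mul_inv_rev, rho_mul, rho_mul, rho_mul, rho_mul,
      ← B.sum_repr (ρ (g ^ k)⁻¹ (ρ y⁻¹ v))]
    simp only [map_sum, map_smul, smul_eq_mul, Basis.coord_apply, inv_pow, LinearMap.comp_apply]⟩

theorem nz_op [Finite V] (hA : ∀ h ∈ H, ρ h * A = χ h • (A * ρ h)) (h0 : A v ≠ 0) :
    Nz H g χ (n + n) := fun y =>
  let ⟨l, h1, _⟩ := exists_dual (U := (⊥ : Submodule (ZMod p) V)) (rho_ne (ρ := ρ) y h0)
  ⟨_, si_op hg hn hA l (ρ y v), by rw [rho_inv, h1]; exact one_ne_zero⟩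

theorem PTc.op [Finite V] (T : PTc p H g) (hA : ∀ h ∈ H, ρ h * A = χ h • (A * ρ h)) (h' : Nz H g χ' b)
    (e : ∀ h ∈ H, χ h * χ' h = 1) (hb : n + n + b + 2 ≤ p) (y : Γ) (hv : A v = 0) :
    A (ρ y v) = 0 := by
  by_contra h
  obtain ⟨l, h1, -⟩ := exists_dual (U := (⊥ : Submodule (ZMod p) V)) (rho_ne (ρ := ρ) y⁻¹ h)
  have := T.key (si_op hg hn hA l v) (by simp [hv]) h' e hb y⁻¹
  rw [inv_inv, h1] at this
  exact one_ne_zero this

omit hg hn

theorem pd_det [Finite V₀] (A B : End (ZMod p) V₀) (h : finrank (ZMod p) (LinearMap.range B) ≤ n) :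
    PD n fun k => LinearMap.det (A + (k : ZMod p) • B) := by
  classical
  obtain ⟨C, hC⟩ := (LinearMap.ker B).exists_isCompl
  let E := ((Module.finBasis (ZMod p) (LinearMap.ker B)).prod (Module.finBasis (ZMod p) C)).map
    (Submodule.prodEquivOfIsCompl _ _ hC)
  have h1 : finrank (ZMod p) C ≤ n := by
    have := B.finrank_range_add_finrank_ker
    have := Submodule.finrank_add_eq_of_isCompl hC
    omega
  have h2 : ∀ i, B (E (.inl i)) = 0 := fun i => by simp [E]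
  simp only [← LinearMap.det_toMatrix E, Matrix.det_apply', map_add, map_smul, Matrix.add_apply,
    Matrix.smul_apply, smul_eq_mul]
  refine pd_sum _ fun σ _ => ((pd_const (n := 0) _).mul (pd_prod _ (d := Sum.elim (fun _ => 0)
    fun _ => 1) fun i _ => ?_)).mono (by simpa using h1)
  rcases i with i | i
  · simpa [LinearMap.toMatrix_apply, h2] using pd_const _
  · exact (pd_const _).add (pd_cast.mul (pd_const (n := 0) _))

variable {ι : V₀ →ₗ[ZMod p] V} {B : Γ → End (ZMod p) V₀} [Finite V] [Finite V₀]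
  (hq : (ρ g - 1) ^ 2 = 0) (hι : ∀ h ∈ H, ρ h ∘ₗ ι = ι ∘ₗ B h)
  (hr : finrank (ZMod p) V₀ ≤ n ∨ finrank (ZMod p) (LinearMap.range (ρ g - 1)) ≤ n)
include hq hι hr

theorem si_det (L : V →ₗ[ZMod p] V₀) :
    SI H g (fun h => LinearMap.det (B h)) n fun y => LinearMap.det (L ∘ₗ ρ y ∘ₗ ι) :=
  ⟨fun h hh x => by
    rw [← LinearMap.det_comp, map_mul, End.mul_eq_comp]
    simp only [LinearMap.comp_assoc, hι h hh], fun y x => by
    refine (pd_det (L ∘ₗ ρ (y * x) ∘ₗ ι) (L ∘ₗ (ρ y * (ρ g - 1) * ρ x) ∘ₗ ι) ?_).congr fun k => ?_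
    · rcases hr with h | h
      · exact (Submodule.finrank_le _).trans h
      · refine le_trans (Submodule.finrank_mono ?_)
          ((Submodule.finrank_map_le (L ∘ₗ ρ y) _).trans h)
        rintro _ ⟨v, rfl⟩
        exact ⟨_, ⟨_, rfl⟩, rfl⟩
    · have e : ρ g ^ k = 1 + (k : ZMod p) • (ρ g - 1) := by
        induction k with
        | zero => simp
        | succ k ih =>
          have e : (ρ g - 1) * ρ g = ρ g - 1 := by
            rw [← sub_eq_zero, ← mul_sub_one, ← pow_two, hq]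
          rw [pow_succ, ih, add_mul, one_mul, smul_mul_assoc, e, Nat.cast_succ, add_smul, one_smul]
          abel
      congr 1
      ext v
      simp [e]⟩

theorem nz_det (hi : Function.Injective ι) : Nz H g (fun h => LinearMap.det (B h)) n := fun y => by
  obtain ⟨L, hL⟩ := ι.exists_leftInverse_of_injective (LinearMap.ker_eq_bot.2 hi)
  refine ⟨_, si_det hq hι hr (L ∘ₗ ρ y⁻¹), ?_⟩
  rw [show (L ∘ₗ ρ y⁻¹) ∘ₗ ρ y ∘ₗ ι = L ∘ₗ ι from LinearMap.ext fun v => by simp [rho_inv], hL]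
  simp

theorem PTc.det (T : PTc p H g) (hi : Function.Injective ι) (h' : Nz H g χ' b)
    (e : ∀ h ∈ H, LinearMap.det (B h) * χ' h = 1) (hb : n + b + 2 ≤ p) (y : Γ) (v : V₀) :
    ρ y (ι v) ∈ LinearMap.range ι := by
  by_contra h
  obtain ⟨l, h1, h2⟩ := exists_dual h
  obtain ⟨L, hL⟩ := ι.exists_leftInverse_of_injective (LinearMap.ker_eq_bot.2 hi)
  have h0 : v ≠ 0 := fun e => h (by simp [e])
  have := T.key (si_det hq hι hr ((L - l.smulRight (L (ρ y (ι v)))) ∘ₗ ρ y))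
    (LinearMap.det_eq_zero_iff_ker_ne_bot.2 fun e =>
      h0 (LinearMap.ker_eq_bot'.1 e v (by simp [h1]))) h' e hb y⁻¹
  rw [show ((L - l.smulRight (L (ρ y (ι v)))) ∘ₗ ρ y) ∘ₗ ρ y⁻¹ ∘ₗ ι = L ∘ₗ ι from
    LinearMap.ext fun v => by simp [rho_inv', h2], hL] at this
  simp at this

omit hq hι hr

/-- the determinant of a triangular map -/
theorem det_flag {U : ℕ → Submodule (ZMod p) V} {b : ℕ → V} {c : ℕ → ZMod p} (h0 : U 0 = ⊥)
    (hn : U n = ⊤) (h1 : ∀ j < n, U (j + 1) = U j ⊔ Submodule.span (ZMod p) {b j})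
    (h2 : ∀ j < n, b j ∉ U j) (h3 : ∀ j < n, A (b j) - c j • b j ∈ U j) :
    LinearMap.det A = ∏ j ∈ Finset.range n, c j ∧ finrank (ZMod p) V = n := by
  have h4 : ∀ k ≤ n, U k = Submodule.span (ZMod p) (b '' Set.Iio k) := fun k hk => by
    induction k with
    | zero => simpa using h0
    | succ k ih =>
      rw [h1 k hk, ih (by omega), ← Submodule.span_union, ← Set.image_singleton, ← Set.image_union]
      congr 2
      ext x
      simp [Nat.lt_succ_iff_lt_or_eq]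
  have h5 : ∀ k ≤ n, Set.range (fun i : Fin k => b i) = b '' Set.Iio k := fun k _ => by
    ext x
    exact ⟨fun ⟨i, e⟩ => ⟨i, i.2, e⟩, fun ⟨i, hi, e⟩ => ⟨⟨i, hi⟩, e⟩⟩
  have h6 : ∀ k ≤ n, LinearIndependent (ZMod p) fun i : Fin k => b i := fun k hk => by
    induction k with
    | zero => exact linearIndependent_empty_type
    | succ k ih =>
      refine linearIndependent_fin_succ'.2 ⟨ih (by omega), ?_⟩
      change b k ∉ Submodule.span (ZMod p) (Set.range fun i : Fin k => b i)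
      rw [h5 k (by omega), ← h4 k (by omega)]
      exact h2 k hk
  let E := Basis.mk (h6 n le_rfl) (by rw [h5 n le_rfl, ← h4 n le_rfl, hn])
  have h7 : ∀ i j : Fin n, j ≤ i → ∀ u ∈ U j, E.repr u i = 0 := fun i j e u hu => by
    rw [h4 j j.2.le] at hu
    refine (Submodule.span_le (p := LinearMap.ker (E.coord i))).2 ?_ hu
    rintro _ ⟨k, hk, rfl⟩
    have : b k = E ⟨k, hk.trans j.2⟩ := by simp [E]
    simp [this, Finsupp.single_apply, Fin.ext_iff, (lt_of_lt_of_le hk (Fin.le_def.1 e)).ne]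
  have h8 : ∀ i j : Fin n, j ≤ i → LinearMap.toMatrix E E A i j = if j = i then c j else 0 :=
    fun i j e => by
    have : b j = E j := by simp [E]
    have h9 := h7 i j e _ (h3 j j.2)
    rw [this, map_sub, map_smul] at h9
    simpa [LinearMap.toMatrix_apply, Finsupp.single_apply, sub_eq_zero] using h9
  refine ⟨?_, by simpa using finrank_eq_card_basis E⟩
  rw [← LinearMap.det_toMatrix E, Matrix.det_of_upperTriangular fun i j e => by
    rw [h8 i j (le_of_lt e), if_neg (ne_of_lt (show j < i from e))], Finset.prod_range]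
  exact Finset.prod_congr rfl fun i _ => by rw [h8 i i le_rfl, if_pos rfl]

end Cfsg.Agent.M7
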