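import Cfsg.Agent.M7.W
import Cfsg.Agent.M7.P

/-! The slice `EXC` of `S5267`. -/

set_option autoImplicit false
set_option linter.unusedSectionVars false

namespace Cfsg.Agent.M7

open Equiv Cfsg.Fus Cfsg.FusionSystem Subgroup Cfsg.Agent.H1
open scoped commutatorElement

universe u

section
variable {Ω : Type*} [Group Ω] {S E : Subgroup Ω} [Finite S] {F : FusionSystem S} {p : ℕ}
  [hp : Fact p.Prime] {g z : Ω}

/-- the automorphisms moving the elements of `E` by elements of `V` -/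
def mvBy (F : FusionSystem S) (hE : E ≤ S) (V : Subgroup Ω) : Subgroup (F.stab E) where
  carrier := {σ | ∀ x ∈ E, x⁻¹ * σ.1 x ∈ V}
  one_mem' := fun x _ => by simp
  mul_mem' := fun {σ τ} h h' x hx => by
    simpa [mul_assoc] using V.mul_mem (h' x hx) (h _ (((mem_stab hE).1 τ.2).mem hx))
  inv_mem' := fun {σ} h x hx => by
    simpa using V.inv_mem (h _ (((mem_stab hE).1 σ⁻¹.2).mem hx))

open scoped IsMulCommutative in
theorem exists_tau (hS : IsPGroup p S) (hE : F.IsEssential p E) (hg : g ∈ S)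
    (hn : g ∈ normalizer (E : Set Ω)) (hgE : g ∉ E) (hz : z ∈ E) (hzp : z ^ p = 1)
    (hgz : g * z * g⁻¹ = z) (ht : ∀ x ∈ E, x⁻¹ * (g * x * g⁻¹) ∈ zpowers z) :
    ∃ φ τ, F.Iso E E φ ∧ F.Iso E E τ ∧ g * φ z * g⁻¹ ≠ φ z ∧ φ z * τ (φ z) ∈ phiF E ∧
      (∀ x ∈ E, x⁻¹ * τ x ∈ zpowers z ⊔ zpowers (φ z)) ∧
      (cj g)⁻¹ * (τ * cj g * τ⁻¹) ∈ innS E E := by
  have h := fSec_phiF hS hE
  haveI := finite_of_le hE.le
  haveI := h.normal
  haveI := h.comm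
  have hA := (isPGroup_of_le hS hE.le).to_quotient ((phiF E).subgroupOf E)
  set γ : F.stab E := ⟨cj g, (F.iso_cj hE.le hg hn).mem_stab⟩ with hγ
  have t : Tv p (h.act γ) (⟨z, hz⟩ : E) := by
    refine ⟨fun e => hgE (hE.isCentric.mem_of_cj_mem_innS hg ((h.act_eq_one γ).1 e)),
      (QuotientGroup.eq_one_iff ((⟨z, hz⟩ : E) ^ p)).2 (by simp [mem_subgroupOf, hzp]),
      (h.act_mk_eq γ _ _).2 (by simp [γ, hgz]), fun x => ?_⟩
    obtain ⟨x, rfl⟩ := QuotientGroup.mk_surjective x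
    obtain ⟨k, e⟩ := ht x x.2
    refine ⟨k, eq_inv_mul_of_mul_eq ((h.act_mk_eq γ x (x * (⟨z, hz⟩ : E) ^ k)).2 ?_).symm⟩
    simp [γ, show z ^ k = _ from e, mul_assoc]
  obtain ⟨-, _, ⟨φ, rfl⟩, h2, h3, -⟩ := t.main hA h.strEmb ⟨γ, rfl⟩
  have t' := t.conj (h.act φ)
  have hφ := (mem_stab hE.le).1 φ.2
  obtain ⟨_, h5, h6, h7⟩ := t.torus t' h2 h3 (c := -1) (d := -1) (by simp)
  obtain ⟨τ, h8, rfl⟩ : _ ∈ (closure {γ, φ * γ * φ⁻¹}).map h.act := by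
    simpa only [MonoidHom.map_closure, Set.image_pair, map_mul, map_inv] using h5
  refine ⟨φ, τ, hφ, (mem_stab hE.le).1 τ.2, fun e => h2 ((h.act_mk_eq γ ⟨_, hφ.mem hz⟩
    ⟨_, hφ.mem hz⟩).2 (by simp [γ, e])), ?_, (closure_le (mvBy F hE.le _)).2 ?_ h8, ?_⟩
  · simpa using (h.act_mk_eq τ ⟨_, hφ.mem hz⟩ ((⟨_, hφ.mem hz⟩ : E) ^ (-1 : ℤ))).1 h7
  · rintro _ (rfl | rfl) x hx
    · exact mem_sup_left (ht x hx)
    · obtain ⟨y, hy, rfl⟩ := hφ.exists_eq hx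
      obtain ⟨k, e⟩ := ht y hy
      have h9 := Fus.conj_mem_of_mem_normalizer hn hy
      refine mem_sup_right ⟨k, ?_⟩
      simp only [← hφ.homOn.map_zpow hz, show z ^ k = _ from e, hφ.homOn.map_mul (E.inv_mem hy) h9,
        hφ.homOn.map_inv hy]
      simp [γ]
  · refine (h.act_eq_one (γ⁻¹ * (τ * γ * τ⁻¹))).1 ?_
    rw [map_mul, map_mul, map_mul, map_inv, map_inv,
      t.conj_torus t' h2 h3 (by simp) h6 h7 fun w e e' => closure_pair_fix e e' h5]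
    simp

end

variable {p m : ℕ} [hp : Fact p.Prime] {G : Type u} [Group G] [Finite G]
  {F : FusionSystem (⊤ : Subgroup G)} {E : Subgroup G} {a i j l : ℕ} {c e g w x z : G} {φ : Perm G}

theorem cen (hp2 : p ≠ 2) (h : MC p m G) (h2 : ¬ tsc G ≤ kc G (m + 1)) (e : a + j = m + 2)
    (hx : x ∈ tsc G) (hc : ∀ y ∈ flt G j, ⁅x, y⁆ = 1) : x ∈ flt G a := by_contra fun hn => by
  obtain ⟨b, -, h3, h4⟩ := W2.exists_level h hx fun e => hn (e ▸ one_mem _)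
  have hb : b < a := lt_of_not_ge fun e => hn (flt_anti e h3)
  obtain ⟨y, h5, h6⟩ := h.exists_mem (r := m + 1 - b) (by omega)
  exact W2.pair hp2 h h2 (by omega) h3 h4 h5 h6 (hc y (flt_anti (by omega) h5))

theorem cflt (hx : x ∈ flt G a) (hc : c ∈ flt G j) (e : l ≤ a + j) : ⁅x, c⁆ ∈ flt G (l + 1) :=
  comm_lcs (flt_le_lcs a hx) (flt_le_lcs j hc) (Nat.succ_le_succ e)

/-- the setting of `EXC` -/
structure ExS (F : FusionSystem (⊤ : Subgroup G)) (p m : ℕ) (E : Subgroup G) (a i : ℕ) (g z : G) :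
    Prop where
  p2 : p ≠ 2
  mc : MC p m G
  ess : F.IsEssential p E
  le : E ≤ tsc G
  ex : ¬ tsc G ≤ kc G (m + 1)
  i1 : 1 ≤ i
  ai : a + i = m + 1
  gi : g ∈ flt G i
  gE : g ∉ E
  iE : flt G (i + 1) ≤ E
  Ei : ¬ E ≤ flt G i
  gn : g ∈ normalizer (E : Set G)
  zZ : z ∈ flt G (m + 2)

namespace ExS
variable (t : ExS F p m E a i g z)
include t

theorem ZE : flt G (m + 2) ≤ E := (flt_anti (by have := t.ai; omega)).trans t.iE

theorem zc1 (hx : x ∈ flt G (m + 2)) (y : G) : ⁅x, y⁆ = 1 := t.mc.top.le (comm_mem_flt hx y)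

theorem zp : z ^ p = 1 := t.mc.top.le (W2.pow_flt t.mc t.zZ)

theorem Z_le (h : z ≠ 1) : flt G (m + 2) ≤ zpowers z := by
  rw [← t.mc.sup_eq le_rfl t.zZ fun e => h (t.mc.top.le e)]
  exact sup_le (t.mc.top.le.trans bot_le) le_rfl

theorem norm (h1 : z ≠ 1) (hE : E ≤ flt G a) (hc : c ∈ normalizer (E : Set G)) (hl : l < i) (h2 : c ∈ flt G l)
    (h3 : c ∉ flt G (l + 1)) : ∃ x ∈ E, x ∈ flt G l ∧ x ∉ flt G (l + 1) := by
  obtain ⟨_, _, q⟩ := (fSec_phiF (t.mc.pg.to_subgroup ⊤) t.ess).exists_qTv (t.mc.pg.to_subgroup ⊤)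
    trivial t.gn t.gE (t.ZE t.zZ) (t.zp ▸ one_mem _)
    (by simp [← comm_one_iff.1 (t.zc1 t.zZ g)]) fun x hx => mem_sup_right (t.Z_le h1 (by
      simpa [commutatorElement_def, mul_assoc] using cflt (inv_mem (hE hx)) t.gi t.ai.ge))
  obtain ⟨k, hk⟩ := q.norm c trivial hc
  have h4 := inv_mem (zpow_mem (flt_anti hl t.gi) k)
  exact ⟨_, hk, mul_mem (flt_anti l.le_succ h4) h2, fun e => h3 ((mul_mem_cancel_left h4).1 e)⟩

variable (hφ : F.Iso E E φ) (hw : ⁅φ z, g⁆ ≠ 1)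
include hφ hw

theorem z1 : z ≠ 1 := fun e => hw (by simp [e, hφ.homOn.map_one])

theorem wa : φ z ∈ flt G a := cen t.p2 t.mc t.ex (j := i + 1) (by have := t.ai; omega)
  (t.le (hφ.mem (t.ZE t.zZ))) fun y hy => by
    obtain ⟨y, h1, rfl⟩ := hφ.exists_eq (t.iE hy)
    rw [← hφ.homOn.map_commutator (t.ZE t.zZ) h1, t.zc1 t.zZ, hφ.homOn.map_one]

theorem wN (hc : c ∈ zpowers (φ z)) (h1 : c ∈ flt G (a + 1)) : c = 1 := by_contra fun e => by
  obtain ⟨k, hk⟩ := exists_zpow_eq_of_prime (p := p)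
    (by rw [← hφ.homOn.map_pow (t.ZE t.zZ), t.zp, hφ.homOn.map_one]) hc e (mem_zpowers _)
  exact hw (t.mc.top.le (cflt (hk ▸ zpow_mem h1 k) t.gi (by have := t.ai; omega)))

theorem central (he : e ∈ E) (h1 : ∀ y ∈ E, ⁅e, y⁆ ∈ flt G (m + 2)) (hx : x ∈ E) : ⁅e, x⁆ = 1 := by
  have h2 : ∀ y ∈ E, ⁅φ e, y⁆ ∈ zpowers (φ z) := fun y hy => by
    obtain ⟨y, hy', rfl⟩ := hφ.exists_eq hy
    obtain ⟨k, hk⟩ := t.Z_le (t.z1 hφ hw) (h1 y hy')
    exact ⟨k, by simp only [← hφ.homOn.map_commutator he hy', ← hk, hφ.homOn.map_zpow (t.ZE t.zZ)]⟩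
  have := t.ai
  have := t.i1
  have h3 : φ e ∈ flt G a := by_contra fun hn => by
    obtain ⟨b, -, h3, h4⟩ := W2.exists_level t.mc (t.le (hφ.mem he)) fun e => hn (e ▸ one_mem _)
    have hb : b < a := lt_of_not_ge fun e => hn (flt_anti e h3)
    obtain ⟨y, h5, h6⟩ := t.mc.exists_mem (r := m + 1 - b) (by omega)
    exact W2.pair t.p2 t.mc t.ex (by omega) h3 h4 h5 h6 (t.wN hφ hw
      (h2 y (t.iE (flt_anti (by omega) h5))) (cflt h3 h5 (by omega)))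
  apply φ.injective
  rw [hφ.homOn.map_one, hφ.homOn.map_commutator he hx]
  exact t.wN hφ hw (h2 _ (hφ.mem hx)) (comm_mem_flt h3 _)

theorem le_a : E ≤ flt G a := by_contra fun hn => by
  obtain ⟨b, h1, h2⟩ := W2.exists_last (P := fun j => ¬ E ≤ flt G j) (not_not.2 t.le) hn
  rw [not_not] at h1
  have hb : b < a := lt_of_not_ge fun e => hn (h1.trans (flt_anti e))
  have := t.ai
  obtain ⟨x, h3, h4⟩ := SetLike.not_le_iff_exists.1 h2
  obtain ⟨y, h5, h6⟩ := t.mc.exists_mem (r := m + 1 - b) (by omega)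
  exact W2.pair t.p2 t.mc t.ex (by omega) h5 h6 (h1 h3) h4 (t.central hφ hw
    (t.iE (flt_anti (by omega) h5)) (fun v hv => cflt h5 (h1 hv) (by omega)) h3)

theorem abel (h : ⁅tsc G, tsc G⁆ ≤ flt G (m + 2)) : False := by
  have hm : m ≠ 0 := fun e => t.ex (e ▸ le_rfl)
  have := t.ai
  have := t.i1
  have k : ∀ l < i, ∃ x ∈ E, x ∈ flt G l ∧ x ∉ flt G (l + 1) := fun l hl => by
    obtain ⟨c, h1, h2⟩ := t.mc.exists_mem (r := l) (by omega)
    exact t.norm (t.z1 hφ hw) (t.le_a hφ hw) (normalizer_of_comm (S := ⊤) le_top fun x hx =>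
      t.ZE (h (commutator_mem_commutator (flt_anti l.zero_le h1) (t.le hx)))) hl h1 h2
  obtain ⟨x, h1, -, h2⟩ := k 0 t.i1
  have ha : a = 0 := by_contra fun e => h2 (flt_anti (by omega) (t.le_a hφ hw h1))
  obtain ⟨x, h1, h2, h3⟩ := k 1 (by omega)
  obtain ⟨y, h4, h5, h6⟩ := k m (by omega)
  exact W2.pair t.p2 t.mc t.ex (by omega) h2 h3 h5 h6 (t.central hφ hw h1
    (fun v hv => h (commutator_mem_commutator (t.le h1) (t.le hv))) h4)

omit hφ hw in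
theorem flag (h1 : z ≠ 1) (hE : E ≤ flt G a) (T : PTc p (ext F E (tsc G) le_top) (cg F t.gn))
    (h : ∀ β, F.Iso (tsc G) (tsc G) β → ∃ α, F.Iso ⊤ ⊤ α ∧ ∀ x ∈ tsc G, α x = β x) : False := by
  obtain ⟨φ, τ, hφ, hτ, h2, h3, h4, h5⟩ := exists_tau (t.mc.pg.to_subgroup ⊤) t.ess trivial t.gn t.gE
    (t.ZE t.zZ) t.zp (by simp [← comm_one_iff.1 (t.zc1 t.zZ g)]) fun x hx => t.Z_le h1 (by
      simpa [commutatorElement_def, mul_assoc] using cflt (inv_mem (hE hx)) t.gi t.ai.ge)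
  have hw : ⁅φ z, g⁆ ≠ 1 := fun e => h2 (by simp [← comm_one_iff.1 e])
  obtain ⟨e, he, h6⟩ := mem_innS_self.1 h5
  obtain ⟨β, b1, b2⟩ := (mem_ext le_top).1 (inv_mem_iff.1 (T.emb (⟨τ, hτ.mem_stab⟩ : F.stab E)⁻¹
    ((mem_ext le_top).2 ⟨cj (g * e), F.iso_cj le_top trivial (normal_le_normalizer _ ⊤ trivial),
      fun x hx => by
        rw [map_mul, Perm.mul_apply, cj_apply e, ← h6 x hx, ← Perm.mul_apply, mul_inv_cancel_left]
        rfl⟩)))
  obtain ⟨α, a1, a2⟩ := h β b1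
  have a3 : ∀ x ∈ E, toAut a1 x = τ x := fun x hx => (a2 x (t.le hx)).trans (b2 x hx)
  generalize toAut a1 = α at a3
  have wg : g⁻¹ * α g ∈ E := t.ess.isCentric.mem_of_cj_mem_innS trivial
    (mem_of_congr (fixP_le_innS E E) h5 fun x hx => by
      obtain ⟨y, hy, rfl⟩ := hτ.exists_eq hx
      simp only [map_mul, map_inv, Perm.mul_apply, cj_apply]
      rw [show τ⁻¹ (τ y) = y by simp, ← a3 _ (Fus.conj_mem_of_mem_normalizer t.gn hy), ← a3 y hy,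
        map_mul α, map_mul α, map_inv α])
  obtain ⟨r, s, -, -, -, wt⟩ := W2.wzero t.mc (K := m + 2) (by omega) (W2.nx t.p2 t.mc le_rfl) α
  have key : ∀ {l c x}, l ≤ m + 1 → x ∈ flt G l → x ∉ flt G (l + 1) → Wt α (flt G (l + 1)) x c →
      r ^ l * s ≡ c [ZMOD p] := fun hl h1 h2 h3 =>
    (wt _ (by omega) _ h1).uniq h3 h2 (W2.pow_flt t.mc h1)
  have := t.ai
  have := t.i1
  have ai : a < i := lt_of_not_ge fun e => t.Ei (hE.trans (flt_anti e))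
  have k1 : r ^ a * s ≡ -1 [ZMOD p] := key (by omega) (t.wa hφ hw)
    (fun e => hw (by simp [t.wN hφ hw (mem_zpowers _) e])) (by
      simpa [Wt, a3 _ (hφ.mem (t.ZE t.zZ))] using phiF_le_of (S := ⊤) le_top
        (fun x hx y _ => comm_mem_flt (hE hx) y) (fun x hx => W2.pow_flt t.mc (hE hx)) h3)
  have k2 : r ^ i * s ≡ 1 [ZMOD p] := key (by omega) t.gi (fun e => t.gE (t.iE e))
    (by_contra fun e => t.gE ((sup_le t.iE (zpowers_le.2 wg)) ((t.mc.sup_eq (by omega)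
      (mul_mem (inv_mem t.gi) (W2.map_flt α i g t.gi)) (by simpa [Wt] using e)).ge t.gi)))
  have k3 : ∀ {l x}, a < l → l ≤ m + 1 → x ∈ E → x ∈ flt G l → x ∉ flt G (l + 1) →
      r ^ l * s ≡ 1 [ZMOD p] := fun {l x} h6 h7 h8 h9 h10 => key h7 h9 h10 (by
    obtain ⟨c, hc, k, hk⟩ := (mem_sup_zpowers (normal_le_normalizer _ ⊤ trivial)).1
      (sup_le_sup_right (zpowers_le.2 t.zZ) _ (h4 x h8))
    have h11 := flt_anti h6 (mul_mem (inv_mem h9) (W2.map_flt α l x h9))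
    rw [a3 x h8, hk, mul_mem_cancel_left (flt_anti (by omega) hc)] at h11
    rw [Wt, zpow_one, a3 x h8, hk, t.wN hφ hw (zpow_mem_zpowers _ k) h11, mul_one]
    exact flt_anti (by omega) hc)
  obtain ⟨l, k4, k5⟩ : ∃ l, r ^ l * s ≡ 1 [ZMOD p] ∧ r ^ (l + 1) * s ≡ 1 [ZMOD p] := by
    by_cases ha : a = 0
    · have hm : m ≠ 0 := fun e => t.ex (e ▸ le_rfl)
      obtain ⟨c, h7, h8⟩ := t.mc.exists_mem (r := m) (by omega)
      obtain ⟨x, h9, h10, h11⟩ := t.norm h1 hE (normalizer_of_comm (S := ⊤) le_top fun x hx => t.ZE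
        (mem_cMod.1 (MC.blackburn t.p2 m G t.mc m le_rfl (t.le hx)) c h7)) (by omega) h7 h8
      exact ⟨m, k3 (by omega) (by omega) h9 h10 h11, (show i = m + 1 by omega) ▸ k2⟩
    · obtain ⟨c, h7, h8⟩ := t.mc.exists_mem (r := i + 1) (by omega)
      exact ⟨i, k2, k3 (by omega) (by omega) (t.iE h7) h7 h8⟩
  have k6 : r ≡ 1 [ZMOD p] := by
    rw [pow_succ', mul_assoc] at k5
    simpa using (k4.mul_left r).symm.trans k5
  refine not_neg_one_modEq t.p2 (k1.symm.trans (Int.ModEq.trans ?_ k2))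
  simpa using ((k6.pow a).mul_right s).trans (by simpa using ((k6.pow i).mul_right s).symm)

end ExS

instance instEXC : EXC.{u} where
  out {p m _ G _ _ F E} hp5 h _ hE hle hx i g h1 h2 h3 h4 h5 hg T h6 := by
    have p2 : p ≠ 2 := by omega
    have hZ : zc (tsc G) = flt G (m + 2) := le_antisymm (fun x hx' => (h.exc p2 hx).2 x hx'.1
      fun v hv => comm_one_iff.2 (hx'.2 v hv).symm) fun x hx' => ⟨flt_anti (Nat.zero_le _) hx',
        fun v _ => (comm_one_iff.1 (h.top.le (comm_mem_flt hx' v))).symm⟩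
    have hi : i ≤ m + 1 := by_contra fun e => h3 (hE.isCentric.centralizerIn_le ⟨trivial, fun v _ =>
      (comm_one_iff.1 (h.top.le (comm_mem_flt (flt_anti (show m + 2 ≤ i by omega) h2) v))).symm⟩)
    have t : ∀ z ∈ flt G (m + 2), ExS F p m E (m + 1 - i) i g z := fun z hz =>
      ⟨p2, h, hE, hle, hx, h1, by omega, h2, h3, h4, h5, hg, hz⟩
    have k : ∀ φ, F.Iso E E φ → ∀ z ∈ flt G (m + 2), g * φ z * g⁻¹ = φ z := fun φ hφ z hz =>
      by_contra fun e => by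
        have hw : ⁅φ z, g⁆ ≠ 1 := fun e' => e (by simp [← comm_one_iff.1 e'])
        exact h6.elim ((t z hz).flag ((t z hz).z1 hφ hw) ((t z hz).le_a hφ hw) T)
          ((t z hz).abel hφ hw)
    refine fun τ hτ => T.zero (P := fun y => ∀ x ∈ flt G (m + 2), y.1 x ∈ flt G (m + 2))
      (fun σ hσ y hy x hx => hy _ ?_) (fun y σ hy x hx => ?_) (fun _ => id) ⟨τ, hτ.mem_stab⟩
    · obtain ⟨β, b1, b2⟩ := (mem_ext le_top).1 hσ
      rw [← b2 x ((t x hx).ZE hx), ← hZ]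
      exact iso_mem_zc b1 (hZ ▸ hx)
    · change y.1 (g * σ.1 x * g⁻¹) ∈ _
      rw [k _ ((mem_stab le_top).1 σ.2) x hx]
      exact hy x hx

end Cfsg.Agent.M7
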