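import Cfsg.Agent.M7.C2
import Cfsg.Agent.M7.W
import Cfsg.Agent.S5269
import Cfsg.Agent.S5316

/-! The assembly of `S5267` for `p ≥ 5`. -/

set_option autoImplicit false
set_option linter.unusedSectionVars false

namespace Cfsg.Agent.M7

open Equiv Cfsg.Fus Cfsg.FusionSystem Subgroup Cfsg.Agent.H1 Cfsg.Agent.M9
open scoped commutatorElement

universe u

variable {p m : ℕ} [hp : Fact p.Prime] {G : Type u} [Group G] [Finite G]
  {F : FusionSystem (⊤ : Subgroup G)} {E R : Subgroup G} {s t : G}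

theorem ne_two (h : MC p m G) : lcs G 2 ≠ ⊥ := fun e => h.ne (le_bot_iff.1 (e ▸ lcs_anti (by omega)))

theorem unif_top (h : MC p m G) (hu : Unif p (⟨s, trivial⟩ : (⊤ : Subgroup G))) : s ∉ tsc G :=
  (Unif.index_cMod (k := 0) ⟨h.pg, fun e => ne_two h (le_bot_iff.1 (e ▸ lcs_anti (by omega))),
    le_trans (Nat.card_le_card_of_injective (fun x => ⟨⟨x.1, trivial⟩, mem_centralizer_singleton_iff.2
      (Subtype.ext (mem_centralizer_singleton_iff.1 x.2))⟩)
      fun _ _ e => Subtype.ext (congrArg (·.1.1) e)) hu.card⟩ (ne_two h)).1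

theorem four_le (h : MC p (m + 1) G) (hp5 : 5 ≤ p) (hF : F.IsSaturated p) (hE : F.IsEssential p E)
    (hle : E ≤ tsc G) : p ^ 4 ≤ Nat.card E := by
  have hG := h.pg.to_subgroup ⊤
  refine S5316.result p hp5 hG (m + 5) (card_top.trans h.card) (by omega) h.ne F hF E hE ?_
  rintro (⟨h1, -⟩ | ⟨h1, h2, -⟩)
  · obtain ⟨s, hs⟩ := W2.exists_s h
    obtain ⟨x, hx, hZ⟩ := SetLike.not_le_iff_exists.1 fun e : E ≤ zc ⊤ =>
      hs (hle (hE.isCentric.centralizerIn_le ⟨trivial, fun y hy => ((e hy).2 s trivial).symm⟩))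
    exact unif_top h (pearl_unif_comm hG hF hE h1 hx hZ) (hle hx)
  · obtain ⟨x, hx, hu⟩ := pearl_unif_not_comm hG hF hE h1 fun e => by
      have h3 := h2.2
      rw [center_eq_top, card_top, h1] at h3
      exact absurd (Nat.pow_right_injective hp.out.two_le (h3.trans (pow_one p).symm)) (by omega)
    exact unif_top h hu (hle hx)

theorem card_le_cube (h : MC p m G) (hp2 : p ≠ 2) (hE : F.IsEssential p E) (ht : t ∈ E)
    (t1 : t ∉ tsc G) (t2 : t ∉ kc G (m + 1)) : Nat.card E ≤ p ^ 3 := by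
  have h6 := (h.unif (nk_of h hp2 t1 t2)).card
  have pE := h.pg.to_subgroup E
  obtain ⟨k, h7⟩ := IsPGroup.iff_card.1 pE
  rw [h7, Nat.pow_le_pow_iff_right hp.out.one_lt]
  by_contra hk
  obtain ⟨k, rfl⟩ : ∃ l, k = l + 4 := ⟨k - 4, by omega⟩
  have h8 : ¬ ∀ a ∈ E, ∀ b ∈ E, a * b = b * a := fun e => by
    have := (card_le_of_le fun a ha => mem_centralizer_singleton_iff.2 (e a ha t ht)).trans h6
    rw [h7, Nat.pow_le_pow_iff_right hp.out.one_lt] at this
    omega
  have hu' : Unif p (⟨t, ht⟩ : E) := ⟨pE, fun e => h8 fun a ha b hb => congrArg Subtype.val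
    (comm_one_iff.1 (e.le (comm_mem_lcs (k := 0) (y := ⟨a, ha⟩) trivial ⟨b, hb⟩))),
    le_trans (Nat.card_le_card_of_injective (β := centralizer {t}) (fun x => ⟨x.1.1,
      mem_centralizer_singleton_iff.2 (congrArg Subtype.val (mem_centralizer_singleton_iff.1 x.2))⟩)
        fun a b e => Subtype.ext (Subtype.ext (Subtype.mk.inj e))) h6⟩
  have hm : MC p k E := ⟨pE, h7, hu'.lcs_ne_bot h7 (by omega)⟩
  refine (H8.essAut_of_isEssential hE).not_stab ?_
  by_cases h9 : tsc E ≤ frattini E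
  · exact H8.stab_of_index_frattini_dvd pE
      ((index_dvd_of_le h9).trans ((relIndex_top_right _).symm.trans hm.index_tsc).dvd)
  · exact H8.stab_of_rank_two pE ((index_dvd_of_le (commutator_le_frattini_of_isPGroup pE)).trans
      hu'.index_lcs_one.dvd) (fun a _ _ => map_mem_tsc a) h9
      fun e => hm.kc_ne (r := 1) (by omega) e.ge

variable [CORE.{u}]

theorem eq_tsc (h : MC p m G) (hF : F.IsSaturated p) (hp5 : 5 ≤ p) : ∀ n (E : Subgroup G),
    Nat.card G ≤ Nat.card E + n → F.IsEssential p E → E ≤ tsc G → E = tsc G := by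
  have hp2 : p ≠ 2 := by omega
  intro n
  induction n using Nat.strong_induction_on with | _ n ih => ?_
  intro E hn hE hle
  by_cases hN : E.Normal
  · exact ((eq_or_eq_of_relIndex hle le_top ((relIndex_top_right E).trans
      (fus_top h hp5 hF hE).1)).resolve_right fun e => h.kc_ne (r := 1) (by omega) e.ge).symm
  rcases m with _ | m
  · obtain ⟨s, -, s1, s2⟩ := exists_not_mem_two (h.kc_ne (r := 1) (by omega)) (h.kc_ne le_rfl)
    exact le_antisymm hle fun x hx => hE.isCentric.centralizerIn_le ⟨trivial, fun y hy =>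
      comm_one_iff.1 (h.top.le ((h.unif (nk_of h hp2 s1 s2)).commutator_tsc_le (ne_two h)
        (commutator_mem_commutator (hle hy) hx)))⟩
  have h4 := four_le h hp5 hF hE hle
  refine (CORE.out hp5 h hF hE hle hN fun R hR hlt => ?_).elim
  by_cases h1 : R ≤ tsc G
  · rw [inf_eq_left.2 h1] at hlt
    have := R.card_le_card_group
    exact ih (n - 1) (by omega) R (by omega) hR h1
  by_cases h2 : R ≤ kc G (m + 1 + 1)
  · obtain ⟨x, hx, hx'⟩ := SetLike.not_le_iff_exists.1 h1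
    have h3 : ¬ tsc G ≤ kc G (m + 1 + 1) := fun e => h.not_mem_kc le_rfl e hx' (h2 hx)
    have h5 := sec1m h hp5 (sec1 h hF hR hp5 h2 h1 ▸ hR) h3
    have h6 := mul_card_le h.pg (inf_le_right : R ⊓ tsc G ≤ tsc G) fun e =>
      h3 ((e.trans inf_le_left).trans h2)
    rw [h.card_tsc, h5, pow_succ'] at h6
    exact absurd (h4.trans_lt hlt) (Nat.le_of_mul_le_mul_left h6 hp.out.pos).not_gt
  obtain ⟨t, ht, t1, t2⟩ := exists_not_mem_two h1 h2
  exact absurd ((h4.trans_lt hlt).trans_le ((card_le_of_le inf_le_left).trans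
    (card_le_cube h hp2 hR ht t1 t2))) (Nat.pow_le_pow_right hp.out.pos (by omega)).not_gt

/-- the essential subgroups inside `γ_1` or `C(Z_2)` -/
theorem top5 (h : MC p m G) (hF : F.IsSaturated p) (hE : F.IsEssential p E) (hp5 : 5 ≤ p)
    (hle : E ≤ tsc G ∨ E ≤ kc G (m + 1)) : E = tsc G ∨ E = kc G (m + 1) :=
  (em (E ≤ tsc G)).imp (eq_tsc h hF hp5 _ E (Nat.le_add_left _ _) hE) fun e =>
    sec1 h hF hE hp5 (hle.resolve_left e) e

end Cfsg.Agent.M7
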