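import Cfsg.Agent.M7.W
import Cfsg.Agent.M9.F3
import Cfsg.Agent.H4.Taussky

/-! `S5267`: essential subgroups with a uniform element, and the primes `2` and `3`. -/

set_option autoImplicit false
set_option linter.unusedSectionVars false
set_option linter.style.haveILetI false

namespace Cfsg.Agent.M7

open Equiv Cfsg.Fus Cfsg.FusionSystem Subgroup Cfsg.Agent.H1 Cfsg.Agent.M9
open scoped commutatorElement

universe u

variable {p : ℕ} [hp : Fact p.Prime]

theorem isExtraspecial_q8 {E : Type*} [Group E] [Finite E] (hE : IsPGroup 2 E)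
    (e : E ≃* QuaternionGroup 2) : IsExtraspecial 2 E := by
  have key : ∀ x : E, e x = 1 ∨ e x = .a 2 → x ∈ zpowers (e.symm (.a 2)) := fun x hx => by
    rcases hx with hx | hx
    · rw [(map_eq_one_iff e e.injective).1 hx]
      exact one_mem _
    · rw [← hx, e.symm_apply_apply]
      exact mem_zpowers _
  have h1 : ∀ x : QuaternionGroup 2, x ^ 2 = 1 ∨ x ^ 2 = .a 2 := by decide
  have h2 : ∀ x y : QuaternionGroup 2, x * y * x⁻¹ * y⁻¹ = 1 ∨ x * y * x⁻¹ * y⁻¹ = .a 2 := by decide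
  have h3 : ∀ x : QuaternionGroup 2, (∀ y, y * x = x * y) → x = 1 ∨ x = .a 2 := by decide
  have h4 : ∀ y : QuaternionGroup 2, y * .a 2 = .a 2 * y := by decide
  refine H8.isExtraspecial_of_elt (z := e.symm (.a 2)) (g := e.symm (.a 1)) (w := e.symm (.xa 0)) hE
    ?_ (le_antisymm (fun x hx => key x (h3 _ fun y => ?_)) (zpowers_le.2 (mem_center_iff.2 fun y => ?_)))
    (fun x => key _ (by rw [map_pow]; exact h1 _)) (fun x y => key _ (by simpa using h2 (e x) (e y)))
    fun h => ?_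
  · rw [MulEquiv.orderOf_eq]
    exact orderOf_eq_prime (by decide) (by decide)
  · obtain ⟨y, rfl⟩ := e.surjective y
    rw [← map_mul, ← map_mul, mem_center_iff.1 hx]
  · exact e.injective (by simpa using h4 (e y))
  · exact absurd (by simpa using congrArg e h) (by decide :
      (.a 1 : QuaternionGroup 2) * .xa 0 ≠ .xa 0 * .a 1)

variable {G : Type u} [Group G] [Finite G] {m j : ℕ} {F : FusionSystem (⊤ : Subgroup G)}
  {E Q : Subgroup G} {s t : G}

theorem prl_of_unif (hE : F.IsEssential p E) (ht : t ∈ E) (hu : Unif p t) : Prl p E := by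
  have pE := hu.pg.to_subgroup E
  have hA := H8.essAut_of_isEssential hE
  have pp := hp.out
  obtain ⟨k, hk⟩ := IsPGroup.iff_card.1 pE
  obtain ⟨_, d, h1, h2, -⟩ := H8.card_frattini_cases pE hA.not_stab hk
  by_cases h3 : k = 2
  · obtain ⟨h5, h6, -⟩ := hA.exists_sl2 pE (h3 ▸ hk)
    exact .inl ⟨h3 ▸ hk, ⟨⟨h5⟩⟩, fun a ha => congrArg Subtype.val (h6 ⟨a, ha⟩)⟩
  have h8 : ¬ ∀ a b : E, a * b = b * a := fun e => by
    have := (card_le_of_le fun a ha => mem_centralizer_singleton_iff.2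
      (congrArg Subtype.val (e ⟨a, ha⟩ ⟨t, ht⟩))).trans hu.card
    rw [hk, Nat.pow_le_pow_iff_right pp.one_lt] at this
    omega
  by_cases h4 : k = 3
  · subst h4
    rcases H8.card_cube_cases pE hA.not_stab hk with ⟨h7, -⟩ | ⟨h7, h5, h6⟩ | ⟨rfl, ⟨e⟩⟩
    · exact (h8 h7).elim
    · haveI : Nontrivial E := Finite.one_lt_card_iff_nontrivial.1
        (hk ▸ Nat.one_lt_pow (by omega) pp.one_lt)
      exact .inr ⟨hk, h5, fun _ => (Monoid.exponent_eq_prime_iff pp).2 fun g hg =>
        orderOf_eq_prime (h6 g) hg, fun e => (h7 e).elim⟩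
    · exact .inr ⟨hk, isExtraspecial_q8 pE e, fun e => (e rfl).elim, fun _ => ⟨e⟩⟩
  obtain ⟨n, rfl⟩ : ∃ n, k = n + 4 := ⟨k - 4, by omega⟩
  have hu' : Unif p (⟨t, ht⟩ : E) := ⟨pE, fun e => h8 fun a b =>
    comm_one_iff.1 (e.le (comm_mem_lcs (k := 0) (y := a) trivial b)),
    le_trans (Nat.card_le_card_of_injective (β := centralizer {t}) (fun x => ⟨x.1.1,
      mem_centralizer_singleton_iff.2 (congrArg Subtype.val (mem_centralizer_singleton_iff.1 x.2))⟩)
        fun a b e => Subtype.ext (Subtype.ext (Subtype.mk.inj e))) hu.card⟩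
  have hm : MC p n E := ⟨pE, hk, hu'.lcs_ne_bot hk (by omega)⟩
  refine (hA.not_stab ?_).elim
  by_cases h9 : tsc E ≤ frattini E
  · exact H8.stab_of_index_frattini_dvd pE
      ((index_dvd_of_le h9).trans ((relIndex_top_right _).symm.trans hm.index_tsc).dvd)
  · exact H8.stab_of_rank_two pE ((index_dvd_of_le (commutator_le_frattini_of_isPGroup pE)).trans
      hu'.index_lcs_one.dvd) (fun a _ _ => map_mem_tsc a) h9
      fun e => hm.kc_ne (r := 1) (by omega) e.ge

theorem tsc_eq (h : MC p m G) (h1 : tsc G ≤ kc G (m + 1)) : tsc G = kc G (m + 1) :=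
  ((eq_or_eq_of_relIndex h1 le_top h.index_tsc).resolve_right fun e => h.kc_ne le_rfl e.ge).symm

theorem res_two (h : MC 2 m G) : Res 2 m F := by
  obtain ⟨a, ha⟩ := H4.exists_orderOf_of_index_commutator (m + 1) G h.card (by
    have := (lcs G 1).index_mul_card
    rw [h.card_lcs (a := 0) (b := m + 2) (by omega), h.card,
      show m + 4 = 2 + (m + 2) by omega, pow_add 2 2] at this
    exact Nat.eq_of_mul_eq_mul_right (Nat.two_pow_pos _) this)
  have hi := H4.index_zpowers_eq_two (k := m + 3) h.card ha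
  haveI := normal_of_index_eq_two hi
  have h1 : lcs G 1 ≤ zpowers a := commutator_le.2 fun x _ y _ => by
    simp [commutatorElement_def, mul_mem_iff_of_index_two hi]
    tauto
  have h2 : zpowers a = tsc G := eq_of_le_of_card_ge (zpowers_le.2 (mem_cMod.2 fun y hy => by
    rw [comm_one_iff.2 (H4.zpowers_comm a y (h1 hy) a (mem_zpowers a))]
    exact one_mem _)) (by rw [h.card_tsc, Nat.card_zpowers, ha])
  have h3 : ∀ r, tsc G ≤ kc G r := fun r x hx => mem_cMod.2 fun y hy => by
    rw [comm_one_iff.2 (H4.zpowers_comm a y (h2.ge (flt_anti r.zero_le hy)) x (h2.ge hx))]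
    exact one_mem _
  refine ⟨fun E hE => .inl ?_, fun e => (e (tsc_eq h (h3 _))).elim⟩
  obtain ⟨t, ht, ht'⟩ := SetLike.not_le_iff_exists.1 fun e : E ≤ tsc G =>
    (H8.essAut_of_isEssential hE).not_isCyclic (h.pg.to_subgroup E) (isCyclic_of_le (e.trans h2.ge))
  exact prl_of_unif hE ht (h.unif fun r hr => h.not_mem_kc (by omega) (h3 r) ht')

theorem res_three [Fact (Nat.Prime 3)] (h : MC 3 m G) (hF : F.IsSaturated 3) : Res 3 m F := by
  have hG := h.pg.to_subgroup ⊤
  obtain ⟨s, -, s1, s2⟩ := exists_not_mem_two (h.kc_ne (r := 1) (by omega)) (h.kc_ne le_rfl)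
  have h3 : ∀ r, tsc G ≤ kc G r := fun r x hx => mem_cMod.2 fun y hy =>
    (h.unif (nk_of h (by omega) s1 s2)).comm_flt_tsc
      (fun e => h.ne (le_bot_iff.1 ((lcs_anti (by omega)).trans e.le))) r (commutator_mem_commutator hy hx)
  refine ⟨fun E hE => ?_, fun e => (e (tsc_eq h (h3 _))).elim⟩
  by_cases h1 : E ≤ tsc G
  swap
  · obtain ⟨t, ht, ht'⟩ := SetLike.not_le_iff_exists.1 h1
    exact .inl (prl_of_unif hE ht (h.unif fun r hr => h.not_mem_kc (by omega) (h3 r) ht'))
  refine .inr (.inl (by_contra fun e => ?_))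
  obtain ⟨g, hg, hg'⟩ := SetLike.exists_of_lt (lt_normalizerIn (h.pg.to_subgroup _) (h1.lt_of_ne e))
  obtain ⟨D, hD, iD, ex, -, dt⟩ := hF.exists_crit hG (P := E) le_top
  have lD : D ≤ E := hD.trans inf_le_left
  refine hg' (hE.isCentric.mem_of_cj_mem_opStab (hE.isRadical hG) trivial (dt.mem_opStab
    (F.iso_cj le_top trivial hg.2) hG (C := fun i => if i = 0 then ⊥ else D) (n := 1)
    (fun i _ => by split_ifs; exacts [bot_le, lD]) rfl rfl
    (fun i _ => by split_ifs; exacts [aInv_bot F E, iD]) fun i hi x hx => ?_))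
  obtain rfl : i = 0 := by omega
  have x1 : x ∈ tsc G := h1 (lD hx)
  have : ⁅x, g⁆ = 1 := by
    rcases W2.win (K := m + 3) (by omega) h le_rfl x1 ((ex x hx : x ^ 3 = 1) ▸ one_mem _) with e | e
    · exact h.top.le (mem_cMod.1 (h3 (m + 1) hg.1) x e)
    · obtain rfl : m = 0 := by omega
      exact h.top.le ((h.unif (nk_of h (by omega) s1 s2)).commutator_tsc_le h.ne
        (commutator_mem_commutator x1 hg.1))
  simp [← comm_one_iff.1 this]

end Cfsg.Agent.M7
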