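import Cfsg.Agent.M7.Z1
import Cfsg.Agent.M7.X2

/-! `S5267`: no extraspecial pearls in an exceptional group, and the assembly. -/

set_option autoImplicit false
set_option linter.unusedSectionVars false
set_option linter.style.haveILetI false

namespace Cfsg.Agent.M7

open Equiv Cfsg.Fus Cfsg.FusionSystem Subgroup Cfsg.Agent.H1
open scoped commutatorElement

universe u

variable {p : ℕ} [hp : Fact p.Prime] {G : Type u} [Group G] [Finite G] {m j l : ℕ}
  {F : FusionSystem (⊤ : Subgroup G)} {E Q : Subgroup G} {a s t : G}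

theorem unif_count (hu : Unif p a) (ha : a ∈ Q) (ha' : a ∉ tsc G) :
    Nat.card (normalizerIn ⊤ Q) ≤ p * Nat.card Q := by
  have h1 := hu.card_le_of (H := normalizerIn ⊤ Q) (K := Q ⊓ tsc G) (fun y hy =>
    ⟨comm_mem_symm (comm_mem_of_nrm hy.2 ha), lcs_one_le_tsc (comm_mem_lcs (k := 0) trivial a)⟩)
    ((card_le_of_le inf_le_right).trans hu.card)
  have h2 := mul_card_le hu.pg (inf_le_left : Q ⊓ tsc G ≤ Q) fun e => ha' (e ha).2
  calc _ ≤ _ := h1
    _ = p * (p * Nat.card (Q ⊓ tsc G : Subgroup G)) := by ring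
    _ ≤ _ := Nat.mul_le_mul_left p h2

section
variable (h : MC p m G) (ha : ∀ r < m + 2, a ∉ kc G r)
include h ha

theorem uy_tsc : a ∉ tsc G := fun e => ha 0 (by omega) (h.kc_zero e)

theorem uy_idx (hj : j ≤ m + 2) : (flt G j).relIndex (RR a j) = p :=
  relIndex_sup_zp (fun e => uy_tsc h ha (flt_anti j.zero_le e))
    (flt_anti hj (h.center_eq.le (h.unif ha).pow_mem_center))

theorem uy_card (e : j + l = m + 3) (hj : j ≤ m + 2) : Nat.card (RR a j) = p ^ (l + 1) := by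
  rw [card_of_relIndex le_sup_left (uy_idx h ha hj), h.card_flt e, pow_succ']

theorem uy_nrm (hj : j ≤ m + 1) : normalizerIn ⊤ (RR a (j + 1)) = RR a j := by
  refine (eq_of_le_of_card_ge (le_inf le_top (sup_le (fun s hs => normalizer_of_comm (S := ⊤) le_top
    fun x _ => mem_sup_left (comm_mem_flt hs x)) (le_sup_right.trans le_normalizer)))
    ((unif_count (h.unif ha) (y_mem a _) (uy_tsc h ha)).trans ?_)).symm
  rw [uy_card h ha (l := m + 2 - j) (by omega) (by omega),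
    uy_card h ha (l := m + 2 - j + 1) (by omega) (by omega), ← pow_succ']

theorem uy_ext (hF : F.IsSaturated p) (hE : F.IsEssential p (RR a (m + 1)))
    (H : ∀ E, F.IsEssential p E → Nat.card E = p ^ 3 → ∃ t ∈ E, ∀ r < m + 2, t ∉ kc G r) :
    ∀ j ≤ m, ∀ β, F.Iso (RR a j) (RR a j) β → ∃ τ, F.Iso ⊤ ⊤ τ ∧ ∀ x ∈ RR a j, τ x = β x
  | 0, _, β, hβ => ⟨β, by
      rwa [show RR a 0 = ⊤ from sup_zpowers_eq le_top h.index_tsc trivial (uy_tsc h ha)] at hβ,
      fun _ _ => rfl⟩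
  | j + 1, hj, β, hβ => by
    have hG := h.pg.to_subgroup ⊤
    have hN := uy_nrm h ha (j := j) (by omega)
    have c1 := uy_card h ha (j := j + 1) (l := m + 2 - j) (by omega) (by omega)
    have c2 := uy_card h ha (j := j) (l := m + 2 - j + 1) (by omega) (by omega)
    have l : RR a (m + 1) ≤ RR a (j + 1) := RR_anti (by omega)
    obtain ⟨τ, t1, t2⟩ := exists_ext_step hF hG (R := RR a (j + 1)) ⟨le_top, fun Q hQ => by
      obtain ⟨φ, hφ⟩ := hQ.exists_iso
      have i := (hφ.isMap.mono l).iso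
      obtain ⟨t, ht, ht'⟩ := H _ (essential_of_iso hE i (hE.isFullyNormalized.of_map hφ.isMap
        ((uy_nrm h ha (j := m) (by omega)).le.trans (RR_anti hj))))
        (i.card_eq.symm.trans (uy_card h ha (l := 2) rfl (by omega)))
      refine (unif_count (h.unif ht') (img_le_iff.2 (fun x hx => hφ.mem (l hx)) ht)
        (uy_tsc h ht')).trans ?_
      rw [← hφ.card_eq, hN, c1, c2, ← pow_succ']⟩ (fun e => by
        rcases prl_of_unif e (y_mem a _) (h.unif ha) with ⟨e, -⟩ | ⟨e, -⟩ <;>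
          exact absurd (Nat.pow_right_injective hp.out.two_le (c1.symm.trans e)) (by omega))
      (by rw [hN, relIndex_eq_of_card_eq (n := 1) (RR_anti j.le_succ) c1 c2, pow_one]) hβ
    rw [hN] at t1
    obtain ⟨ρ, h3, h4⟩ := uy_ext hF hE H j (by omega) τ t1
    exact ⟨ρ, h3, fun x hx => (h4 x (RR_anti j.le_succ hx)).trans (t2 x hx)⟩

end

theorem not_xs (h : MC p m G) (hp2 : p ≠ 2) (hF : F.IsSaturated p) (hx : ¬ tsc G ≤ kc G (m + 1))
    (H : ∀ E, F.IsEssential p E → Nat.card E = p ^ 3 → ∃ t ∈ E, ∀ r < m + 2, t ∉ kc G r)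
    (hE : F.IsEssential p E) (hc : Nat.card E = p ^ 3) (hpw : ∀ x ∈ E, x ^ p = 1) : False := by
  have hG := h.pg.to_subgroup ⊤
  obtain ⟨a, aE, ha⟩ := H E hE hc
  have aT := uy_tsc h ha
  obtain ⟨j, hj, e⟩ := W2.nrm hp2 h (N := E ⊓ tsc G) inf_le_right aT (normalizer_of_comm (S := ⊤)
    le_top fun x hx => ⟨comm_mem_symm (comm_mem_of_nrm (le_normalizer aE) hx.1),
      comm_mem_symm (comm_mem_left _ hx.2 a)⟩) (.inr (ha _ (by omega)))
  obtain rfl : j = m + 1 := by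
    have h1 := h.card_le_tsc E
    have h2 := mul_card_le h.pg (inf_le_left : E ⊓ tsc G ≤ E) fun e => aT (e aE).2
    have h3 := le_antisymm h1 h2
    rw [e, hc, h.card_flt (b := m + 3 - j) (by omega), ← pow_succ'] at h3
    have := Nat.pow_right_injective hp.out.two_le h3
    omega
  obtain rfl : RR a (m + 1) = E := eq_of_le_of_card_ge (sup_le (e.ge.trans inf_le_left)
    (zpowers_le.2 aE)) (by rw [hc, uy_card h ha (l := 2) rfl (by omega)])
  obtain ⟨g, hg, hg'⟩ := h.exists_mem (r := m) (by omega)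
  obtain ⟨b, hb, hb'⟩ := h.exists_mem (r := m + 1) (by omega)
  obtain ⟨y, hy, hy'⟩ := h.exists_mem (r := 0) (by omega)
  have hN := uy_nrm h ha (j := m) (by omega)
  have bE : b ∈ RR a (m + 1) := mem_sup_left hb
  have one : ∀ x ∈ flt G (m + 2), ∀ s : G, ⁅x, s⁆ = 1 := fun x hx s => h.top.le (comm_mem_lcs hx s)
  have z0 : ⁅b, a⁆ ∈ flt G (m + 2) := comm_mem_flt hb a
  have z1 : ⁅b, a⁆ ∉ flt G (m + 3) := fun e => ha _ (by omega) (h.mem_kc (by omega) hb hb' e)
  have cE : ⁅RR a (m + 1), RR a (m + 1)⁆ ≤ flt G (m + 2) := commutator_sup_zpowers_le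
    (normal_le_normalizer _ _) (nle _ a) (fun x hx y _ => comm_mem_flt hx y)
    fun x hx => comm_mem_symm (comm_mem_flt hx a)
  have eZ : ⁅RR a (m + 1), RR a (m + 1)⁆ = flt G (m + 2) := le_antisymm cE
    ((h.sup_eq le_rfl z0 z1).ge.trans (sup_le (h.top.le.trans bot_le)
      (zpowers_le.2 (commutator_mem_commutator bE (y_mem a _)))))
  have sec : FSec F p (RR a (m + 1)) (RR a (m + 1)) (flt G (m + 2)) := eZ ▸ ⟨hE, le_rfl,
    (eZ.le.trans (flt_anti (by omega))).trans le_sup_left, aInv_self F _, aInv_commutator F _,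
    fun _ he _ hx => inv_conj_mem_commutator he hx, fun σ hσ e => (fSec_phiF hG hE).ker σ hσ
      fun x hx => commutator_le_phiF hG hE.le (e x hx)⟩
  have gN : g ∈ normalizer ((RR a (m + 1) : Subgroup G) : Set G) := (hN.ge (mem_sup_left hg)).2
  have gE : g ∉ RR a (m + 1) := fun e' => hg' (e.le ⟨e', flt_anti m.zero_le hg⟩)
  have cj' : ∀ x : G, x⁻¹ * (g * x * g⁻¹) = ⁅x⁻¹, g⁆ := fun x => by
    simp [commutatorElement_def, mul_assoc]
  obtain ⟨a', W, q⟩ := sec.exists_qTv hG trivial gN gE bE (W2.pow_flt h hb)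
    (cj' b ▸ comm_mem_flt (inv_mem hb) g) fun x _ => (h.sup_eq (by omega) hb hb').ge
      (cj' x ▸ comm_mem_symm (comm_mem_flt hg _))
  have hW := q.le_of_card hG le_top sec.invZ bE (fun x hx => hpw x hx ▸ one_mem _) cE (by rw [hc, h.card_flt (b := 1) rfl, ← pow_add])
  obtain ⟨z, hz, -, -, -, z2, z3⟩ := q.exists_inv cE bE
  obtain ⟨β, b1, b2, -⟩ := exists_ext_of_conj hG hF hE.isCentric trivial gN hz z3
  rw [show RR a (m + 1) ⊔ zpowers g = RR a m by
    rw [sup_right_comm, h.sup_eq (by omega) hg hg']] at b1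
  obtain ⟨τ, t1, t2⟩ := uy_ext h ha hF hE H m le_rfl β b1
  have w : ∀ x ∈ RR a (m + 1), Wt (toAut t1) (flt G (m + 2)) x (-1) := fun x hx => by
    have : toAut t1 x = z x := (t2 x (RR_anti m.le_succ hx)).trans (b2 x hx)
    rw [Wt, this, zpow_neg_one, inv_inv]
    exact hW (z2 x hx)
  obtain ⟨r, t, -, -, r1, r2⟩ := W2.wzero h (K := m + 2) (by omega) (W2.nx hp2 h le_rfl) (toAut t1)
  have e1 := (r1 a).uniq ((w a (y_mem a _)).mono (flt_anti (m + 2).zero_le)) aT (W2.pow_tsc h a)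
  have e2 := (r2 (m + 1) (by omega) b hb).uniq (w b bE) hb' (W2.pow_flt h hb)
  have e3 : t ≡ 1 [ZMOD p] := by
    have := ((e1.pow (m + 1)).mul_right t).symm.trans e2
    rw [(h.exc hp2 hx).1.add_one.neg_one_pow] at this
    simpa using this.neg
  have w1 : Wt (toAut t1) ⊥ ⁅b, a⁆ (-1 * -1) := (w b bE).comm (w a (y_mem a _)) hb (mem_top a) le_top
    (fun x hx s _ => one x hx s) (fun u _ x hx => comm_one_symm (one x hx u))
    fun u hu s => one _ (comm_mem_flt hu a) s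
  have w2 : Wt (toAut t1) ⊥ ⁅b, y⁆ (-1 * (r ^ 0 * t)) := (w b bE).comm (r2 0 (by omega) y hy) hb
    (mem_top y) le_top (fun x hx s _ => one x hx s)
    (fun u hu x hx => h.top.le (comm_lcs hu hx le_rfl)) fun u hu s => one _ (comm_mem_flt hu y) s
  have w3 := w2.of_mem (fun n hn => by rw [mem_bot.1 hn, map_one]; exact one_mem _)
    ((h.top ▸ h.sup_eq le_rfl (comm_mem_flt hb y) fun e => W2.pair hp2 h hx (b := 0) rfl hb hb' hy hy'
      (h.top.le e) : ⊥ ⊔ zpowers ⁅b, y⁆ = _).ge z0)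
  have e4 := w3.uniq (p := p) w1 (fun e => z1 (bot_le (a := flt G _) e)) (h.top.le (W2.pow_flt h z0))
  exact not_neg_one_modEq hp2 (by simpa using (e3.neg.symm.trans (by simpa using e4)))

theorem res_all [CORE.{u}] (h : MC p m G) (hF : F.IsSaturated p) : Res p m F := by
  by_cases h2 : p = 2
  · subst h2
    exact res_two h
  by_cases h3 : p = 3
  · subst h3
    exact res_three h hF
  have hp5 : 5 ≤ p := hp.out.five_le_of_ne_two_of_ne_three h2 h3
  have key : ∀ E, F.IsEssential p E → (E = tsc G ∨ E = kc G (m + 1)) ∨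
      ∃ t ∈ E, ∀ r < m + 2, t ∉ kc G r := fun E hE => by
    by_cases e : E ≤ tsc G ∨ E ≤ kc G (m + 1)
    · exact .inl (top5 h hF hE hp5 e)
    obtain ⟨t, ht, t1, t2⟩ := M9.exists_not_mem_two (not_or.1 e).1 (not_or.1 e).2
    exact .inr ⟨t, ht, M9.nk_of h h2 t1 t2⟩
  refine ⟨fun E hE => (key E hE).elim .inr fun ⟨t, ht, e⟩ => .inl (prl_of_unif hE ht (h.unif e)),
    fun hx E hE ⟨x1, _, x2, _⟩ => ?_⟩
  have hx' : ¬ tsc G ≤ kc G (m + 1) := fun e => hx (tsc_eq h e)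
  refine not_xs h h2 hF hx' (fun R hR hc => (key R hR).resolve_left fun e => ?_) hE x1 fun x hx =>
    congrArg Subtype.val (x2 h2 ▸ Monoid.pow_exponent_eq_one (⟨x, hx⟩ : E))
  have h4 : p ^ (m + 2) < Nat.card R := by
    rw [← h.card_lcs (a := 0) (b := m + 2) (by omega)]
    rcases e with rfl | rfl
    · exact card_lt_of_lt (lcs_one_le_tsc.lt_of_ne fun e => by
        obtain ⟨y, hy, hy'⟩ := h.exists_mem (r := 0) (by omega)
        exact hy' (e.ge hy))
    · refine card_lt_of_lt ((lcs_le_kc _).lt_of_ne fun e => ?_)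
      obtain ⟨s, -, s1, s2⟩ := M9.exists_not_mem_two (h.kc_ne (r := 1) (by omega)) (h.kc_ne le_rfl)
      have := ((h.unif (M9.nk_of h h2 s1 s2)).index_cMod (k := m) h.ne).2
      rw [show cMod (lcs G (m + 1)) (lcs G (m + 3)) = _ from e.symm, (h.unif (M9.nk_of h h2 s1 s2)).index_lcs_one] at this
      nlinarith
  rw [hc, Nat.pow_lt_pow_iff_right hp.out.one_lt] at h4
  obtain rfl : m = 0 := by omega
  exact hx rfl

theorem isExtraspecial_congr {A B : Type*} [Group A] [Group B] (e : A ≃* B)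
    (h : IsExtraspecial p A) : IsExtraspecial p B := by
  obtain ⟨⟨a1, a2, a3⟩, a4⟩ := h
  have c : ∀ x, x ∈ center B ↔ e.symm x ∈ center A := fun x =>
    (MulEquivClass.apply_mem_center_iff e.symm).symm
  refine ⟨⟨a1.of_equiv e, ?_, ?_⟩, (Nat.card_congr (centerCongr e).toEquiv).symm.trans a4⟩
  · ext x
    rw [c, ← a2]
    exact ⟨fun hx => frattini_le_comap_frattini_of_surjective (φ := e.symm.toMonoidHom)
      e.symm.surjective hx, fun hx => by
        simpa using frattini_le_comap_frattini_of_surjective (φ := e.toMonoidHom) e.surjective hx⟩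
  · ext x
    rw [c, ← a3, ← mem_map_equiv, map_commutator_eq, MonoidHom.range_eq_top.2 e.surjective]
    rfl

theorem final [CORE.{u}] {Ω : Type u} [Group Ω] {S : Subgroup Ω} [Finite S] (p : ℕ) [Fact p.Prime] (hS : IsPGroup p ↥S) (n : ℕ) (hn : Nat.card S = p ^ n) (h4 : 4 ≤ n) (hmax : Subgroup.lowerCentralSeries S (n - 2) ≠ ⊥) (F : Cfsg.FusionSystem S) (hF : F.IsSaturated p) (Γ₁ : Subgroup Ω) (hΓ₁ : ∀ x : Ω, x ∈ Γ₁ ↔ x ∈ S ∧ ∀ y ∈ Subgroup.lowerCentralSeries S 1, x * y * x⁻¹ * y⁻¹ ∈ Subgroup.lowerCentralSeries S 3) : (∀ E : Subgroup Ω, F.IsEssential p E → (Nat.card ↥E = p ^ 2 ∧ Cfsg.IsElementaryAbelian p E) ∨ (Nat.card ↥E = p ^ 3 ∧ Cfsg.IsExtraspecial p ↥E ∧ (p ≠ 2 → Monoid.exponent ↥E = p) ∧ (p = 2 → Nonempty (↥E ≃* QuaternionGroup 2))) ∨ E = Γ₁ ∨ E = (S ⊓ Subgroup.centralizer (((Subgroup.upperCentralSeries ↥S 2).map S.subtype) : Set Ω))) ∧ (Γ₁ ≠ (S ⊓ Subgroup.centralizer (((Subgroup.upperCentralSeries ↥S 2).map S.subtype)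 : Set Ω)) → ∀ E : Subgroup Ω, F.IsEssential p E → (Nat.card ↥E = p ^ 3 ∧ Cfsg.IsExtraspecial p ↥E ∧ (p ≠ 2 → Monoid.exponent ↥E = p) ∧ (p = 2 → Nonempty (↥E ≃* QuaternionGroup 2))) → False) := by
  obtain ⟨m, rfl⟩ : ∃ m, n = m + 4 := ⟨n - 4, by omega⟩
  have hl : ∀ k, Subgroup.lowerCentralSeries S k = (lcs S k).map S.subtype := fun k =>
    (Subgroup.top_subtype_lowerCentralSeries S k).symm
  have h : MC p m S := ⟨hS, hn, fun e => hmax (by rw [hl]; exact e ▸ Subgroup.map_bot _)⟩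
  obtain ⟨θ, F', t⟩ := exists_transp_top F
  obtain ⟨r1, r2⟩ := res_all h (t.symm.isSaturated hF)
  have ess : ∀ E, F.IsEssential p E → F'.IsEssential p (E.subgroupOf S) := fun E hE => by
    have e : img θ E = E.subgroupOf S := by
      ext y
      rw [t.symm.piso.mem_img_iff hE.le]
      exact and_iff_right trivial
    exact e ▸ t.symm.isEssential hE
  have e1 : Γ₁ = (tsc S).map S.subtype := by
    ext x
    rw [hΓ₁, hl, hl]
    refine ⟨fun ⟨hx, h3⟩ => ⟨⟨x, hx⟩, mem_cMod.2 fun y hy => comm_mem_symm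
      ((mem_map_iff_mem S.subtype_injective).1 (h3 y ⟨y, hy, rfl⟩)), rfl⟩, ?_⟩
    rintro ⟨x, hx, rfl⟩
    refine ⟨x.2, ?_⟩
    rintro _ ⟨y, hy, rfl⟩
    exact ⟨_, comm_mem_symm (mem_cMod.1 hx y hy), rfl⟩
  have e2 : S ⊓ Subgroup.centralizer (((Subgroup.upperCentralSeries ↥S 2).map S.subtype) : Set Ω) =
      (kc S (m + 1)).map S.subtype := by
    ext x
    rw [M9.ucs_two_eq_lcs h]
    refine ⟨fun ⟨hx, h3⟩ => ⟨⟨x, hx⟩, mem_cMod.2 fun y hy => by
      rw [comm_one_iff.2 (Subtype.ext (h3 y ⟨y, hy, rfl⟩))]; exact one_mem _, rfl⟩, ?_⟩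
    rintro ⟨x, hx, rfl⟩
    refine ⟨x.2, ?_⟩
    rintro _ ⟨y, hy, rfl⟩
    exact congrArg Subtype.val (comm_one_iff.1 (h.top.le (mem_cMod.1 hx y hy)))
  rw [e1, e2]
  refine ⟨fun E hE => ?_, fun hx E hE ⟨x1, x2, x3, x4⟩ => ?_⟩
  · have i := subgroupOfEquivOfLe hE.le
    have e' := map_subgroupOf_eq_of_le hE.le
    rcases r1 _ (ess E hE) with (⟨a1, a2, a3⟩ | ⟨a1, a2, a3, a4⟩) | a | a
    · refine .inl ⟨(Nat.card_congr i.toEquiv).symm.trans a1, ⟨⟨fun x y => i.symm.injective (by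
        rw [map_mul, map_mul, a2.1.1])⟩⟩, fun x hx => congrArg Subtype.val (a3 ⟨x, hE.le hx⟩ hx)⟩
    · exact .inr (.inl ⟨(Nat.card_congr i.toEquiv).symm.trans a1, isExtraspecial_congr i a2, fun e =>
        (Monoid.exponent_eq_of_mulEquiv i).symm.trans (a3 e), fun e => (a4 e).map i.symm.trans⟩)
    · exact .inr (.inr (.inl (a ▸ e'.symm)))
    · exact .inr (.inr (.inr (a ▸ e'.symm)))
  · have i := subgroupOfEquivOfLe hE.le
    exact r2 (fun e => hx (by rw [e])) _ (ess E hE) ⟨(Nat.card_congr i.toEquiv).trans x1, isExtraspecial_congr i.symm x2,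
      fun e => (Monoid.exponent_eq_of_mulEquiv i).trans (x3 e), fun e => (x4 e).map i.trans⟩

end Cfsg.Agent.M7
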